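import Cfsg.Prelude.Def_CaseTheorems
import Cfsg.Prelude.Def_Transfer
import Cfsg.Agent.Lib.Solvable.Core
import Mathlib.GroupTheory.Complement
import Mathlib.GroupTheory.SpecificGroups.Cyclic
import Mathlib.GroupTheory.SpecificGroups.Quaternion

/-!
# Solvable groups with trivial odd core and small `O₂`
-/

set_option autoImplicit false

namespace CfsgLib.InvChar

variable {G : Type*} [Group G] [Finite G]

/-- In a solvable group with `O(G) = 1`, `O₂(G)` contains its centralizer. -/
theorem centralizer_pCore_two_le [Group.IsSolvable G] (hO : Cfsg.oddCore G = ⊥) :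
    Subgroup.centralizer (Cfsg.pCore 2 G : Set G) ≤ Cfsg.pCore 2 G := by
  have hF : Cfsg.fittingSubgroup G = Cfsg.pCore 2 G := by
    haveI : Fact (Nat.Prime 2) := ⟨Nat.prime_two⟩
    refine le_antisymm ?_ Solvable.pCore_le_fittingSubgroup
    rw [Solvable.fittingSubgroup_eq_iSup_pCore]
    refine iSup_le fun q => ?_
    have hq : (q : ℕ).Prime := (Nat.mem_primeFactors.1 q.2).1
    haveI : Fact (q : ℕ).Prime := ⟨hq⟩
    by_cases h : (q : ℕ) = 2
    · rw [h]
    · obtain ⟨k, hk⟩ := Solvable.card_pCore (p := (q : ℕ)) (G := G)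
      have : Cfsg.pCore (q : ℕ) G ≤ Cfsg.oddCore G := Solvable.le_pPrimeCore
        (Solvable.pCore_normal _ G) (by
          rw [hk]
          exact ((Nat.coprime_primes hq Nat.prime_two).2 h).pow_left k)
      rw [hO] at this
      exact this.trans bot_le
  rw [← hF]
  exact Solvable.centralizer_fittingSubgroup_le

/-- If a normal subgroup with 2-group automizer has a 2-group centralizer, `G` is a 2-group. -/
theorem isPGroup_two_of_card_eq {A B : ℕ} (hA : ∃ a, A = 2 ^ a) (hB : ∃ b, B = 2 ^ b)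
    (h : Nat.card G = A * B) : IsPGroup 2 G := by
  obtain ⟨a, rfl⟩ := hA
  obtain ⟨b, rfl⟩ := hB
  exact IsPGroup.of_card (n := a + b) (by rw [h, pow_add])

/-- The order of the automizer of a normal cyclic `2`-subgroup is a power of two. -/
theorem exists_index_centralizer_eq_two_pow (Q : Subgroup G) [Q.Normal] [IsCyclic Q]
    (hQ : IsPGroup 2 Q) : ∃ a, (Subgroup.centralizer (Q : Set G)).index = 2 ^ a := by
  have hker : (MulAut.conjNormal : G →* MulAut Q).ker = Subgroup.centralizer (Q : Set G) := by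
    ext g
    rw [MonoidHom.mem_ker, Subgroup.mem_centralizer_iff]
    constructor
    · intro h q hq
      have := congrArg (fun φ : MulAut Q => ((φ ⟨q, hq⟩ : Q) : G)) h
      simp only [MulAut.conjNormal_apply, MulAut.one_apply] at this
      exact (mul_inv_eq_iff_eq_mul.1 this).symm
    · intro h
      ext q
      rw [MulAut.conjNormal_apply, MulAut.one_apply, mul_inv_eq_iff_eq_mul]
      exact (h q q.2).symm
  haveI : Fact (Nat.Prime 2) := ⟨Nat.prime_two⟩
  obtain ⟨k, hk⟩ := IsPGroup.iff_card.1 hQ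
  have h1 : (Subgroup.centralizer (Q : Set G)).index ∣ 2 ^ k := by
    rw [← hker, Subgroup.index_ker]
    refine (Subgroup.card_subgroup_dvd_card _).trans ?_
    rw [IsCyclic.card_mulAut Q, hk]
    rcases k with _ | k
    · simp
    · rw [Nat.totient_prime_pow Nat.prime_two k.succ_pos]
      exact ⟨2, by simp [pow_succ]⟩
  obtain ⟨a, -, ha⟩ := (Nat.dvd_prime_pow Nat.prime_two).1 h1
  exact ⟨a, ha⟩

theorem exists_card_eq_two_pow_of_le {H K : Subgroup G} (hK : IsPGroup 2 K) (h : H ≤ K) :
    ∃ a, Nat.card H = 2 ^ a := by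
  haveI : Fact (Nat.Prime 2) := ⟨Nat.prime_two⟩
  exact IsPGroup.iff_card.1 (hK.to_le h)

/-- A solvable group with `O(G)=1` and cyclic `O₂(G)` is a 2-group. -/
theorem isPGroup_of_cyclic_pCore [Group.IsSolvable G] (hO : Cfsg.oddCore G = ⊥)
    (hc : IsCyclic (Cfsg.pCore 2 G)) : IsPGroup 2 G := by
  haveI := Solvable.pCore_normal 2 G
  obtain ⟨a, ha⟩ := exists_index_centralizer_eq_two_pow (Cfsg.pCore 2 G)
    (Solvable.pCore_isPGroup 2 G)
  exact isPGroup_two_of_card_eq
    (exists_card_eq_two_pow_of_le (Solvable.pCore_isPGroup 2 G) (centralizer_pCore_two_le hO))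
    ⟨a, ha⟩ (Subgroup.card_mul_index _).symm

/-- If `G/O(G)` is a `2`-group, then `G` has a normal `2`-complement. -/
theorem hasNormalPComplement_of_quotient (N : Subgroup G) [N.Normal]
    (hN : (Nat.card N).Coprime 2) (hq : IsPGroup 2 (G ⧸ N)) :
    Cfsg.HasNormalPComplement 2 G := by
  haveI : Fact (Nat.Prime 2) := ⟨Nat.prime_two⟩
  inhabit Sylow 2 G
  refine ⟨default, N, inferInstance, ?_⟩
  set P : Sylow 2 G := default
  obtain ⟨a, ha⟩ := IsPGroup.iff_card.1 hq
  obtain ⟨b, hb⟩ := IsPGroup.iff_card.1 P.isPGroup'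
  have hco : Nat.Coprime (Nat.card N) (Nat.card (P : Subgroup G)) := by
    rw [hb]; exact hN.pow_right b
  have h1 : Nat.card (P : Subgroup G) * (P : Subgroup G).index = Nat.card N * 2 ^ a := by
    rw [Subgroup.card_mul_index, ← ha, ← Subgroup.index_eq_card, Subgroup.card_mul_index]
  have h2 : 2 ^ b = 2 ^ a := by
    rw [hb] at h1
    apply Nat.dvd_antisymm
    · exact ((hN.pow_right b).symm).dvd_of_dvd_mul_left ⟨_, h1.symm⟩
    · have hnd : ¬ 2 ∣ (P : Subgroup G).index := P.not_dvd_index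
      exact (((Nat.prime_two.coprime_iff_not_dvd.2 hnd)).pow_left a).dvd_of_dvd_mul_right
        ⟨Nat.card N, h1.trans (mul_comm _ _)⟩
  refine Subgroup.isComplement'_of_coprime ?_ hco
  rw [hb, h2, ← ha, ← Subgroup.index_eq_card, Subgroup.card_mul_index]

end CfsgLib.InvChar
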