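import Cfsg.Prelude.Def_Transfer
import Cfsg.Agent.Lib.Invol.Dihedral
import Mathlib.GroupTheory.Subgroup.Centralizer
import Mathlib.GroupTheory.Index

/-!
# An involution class generating an elementary abelian normal subgroup
-/

set_option autoImplicit false

namespace CfsgLib.InvChar

variable {G : Type*} [Group G] [Finite G]

/-- If every conjugate of `y` commuting with an involution centralizing `x` commutes with `y`,
and `x`, `y` are nonconjugate involutions, then the normal closure of `y` is elementary abelian. -/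
theorem elementary_normalClosure {x y : G} (hx : orderOf x = 2) (hy : orderOf y = 2)
    (hnc : ¬ IsConj x y)
    (hstar : ∀ u : G, orderOf u = 2 → Commute u x → ∀ g : G, Commute (g * y * g⁻¹) u →
      Commute (g * y * g⁻¹) y) :
    Cfsg.IsElementaryAbelian 2 (Subgroup.normalClosure ({y} : Set G)) := by
  have h1 : ∀ g : G, Commute (g * y * g⁻¹) y := by
    intro g
    obtain ⟨-, ho, hcx, hcw⟩ := Invol.exists_middle_of_not_isConj (y := g * y * g⁻¹) hx
      ((Invol.orderOf_conj g y).trans hy) (fun h => hnc (h.trans (isConj_iff.2 ⟨g⁻¹, by group⟩)))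
    exact hstar _ ho hcx g hcw.symm
  have h2 : ∀ g h : G, Commute (g * y * g⁻¹) (h * y * h⁻¹) := by
    intro g h
    have := (h1 (h⁻¹ * g)).map (MulAut.conj h).toMonoidHom
    simpa [mul_assoc] using this
  have hcomm : IsMulCommutative (Subgroup.normalClosure ({y} : Set G)) := by
    rw [← Subgroup.le_centralizer_iff_isMulCommutative, Subgroup.normalClosure,
      Subgroup.centralizer_closure, Subgroup.closure_le]
    intro a ha
    rw [SetLike.mem_coe, Subgroup.mem_centralizer_iff]
    intro b hb
    simp only [Group.mem_conjugatesOfSet_iff, Set.mem_singleton_iff, exists_eq_left,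
      isConj_iff] at ha hb
    obtain ⟨g, rfl⟩ := ha
    obtain ⟨k, rfl⟩ := hb
    exact h2 k g
  refine ⟨hcomm, fun a ha => ?_⟩
  have hc := Subgroup.le_centralizer_iff_isMulCommutative.2 hcomm
  induction ha using Subgroup.closure_induction with
  | mem z hz =>
    simp only [Group.mem_conjugatesOfSet_iff, Set.mem_singleton_iff, exists_eq_left,
      isConj_iff] at hz
    obtain ⟨g, rfl⟩ := hz
    rw [conj_pow, ← hy, pow_orderOf_eq_one]
    group
  | one => exact one_pow _
  | mul a b hma hmb iha ihb =>
    have hab : Commute a b := Subgroup.mem_centralizer_iff.1 (hc hmb) a hma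
    rw [hab.mul_pow, iha, ihb, one_mul]
  | inv a _ iha => rw [inv_pow, iha, inv_one]

/-- An elementary abelian normal subgroup on which an involution has at most two fixed points
has order at most four. -/
theorem card_le_four_of_fixed {N : Subgroup G} [N.Normal] (hN : Cfsg.IsElementaryAbelian 2 N)
    {x y : G} (hx : orderOf x = 2)
    (hfix : ∀ u ∈ N, orderOf u = 2 → Commute u x → u = y) : Nat.card N ≤ 4 := by
  have hinv : ∀ a ∈ N, a⁻¹ = a := fun a ha =>
    inv_eq_of_mul_eq_one_right (by rw [← pow_two]; exact hN.2 a ha)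
  have hmem : ∀ a : N, (a : G) * (x * a * x⁻¹) ∈ N := fun a =>
    N.mul_mem a.2 (Subgroup.Normal.conj_mem ‹_› _ a.2 x)
  have hc := Subgroup.le_centralizer_iff_isMulCommutative.2 hN.1
  have hcomm : ∀ a ∈ N, ∀ b ∈ N, a * b = b * a := fun a ha b hb =>
    Subgroup.mem_centralizer_iff.1 (hc hb) a ha
  let f : N →* N :=
    { toFun := fun a => ⟨(a : G) * (x * a * x⁻¹), hmem a⟩
      map_one' := by ext; simp
      map_mul' := fun a b => by
        ext
        simp only [Subgroup.coe_mul]
        have := hcomm b b.2 (x * a * x⁻¹) (Subgroup.Normal.conj_mem ‹_› _ a.2 x)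
        calc (a : G) * b * (x * (a * b) * x⁻¹)
            = a * (b * (x * a * x⁻¹)) * (x * b * x⁻¹) := by group
          _ = a * ((x * a * x⁻¹) * b) * (x * b * x⁻¹) := by rw [this]
          _ = a * (x * a * x⁻¹) * (b * (x * b * x⁻¹)) := by group }
  have hsmall : ∀ S : Subgroup N, (∀ a ∈ S, Commute (a : G) x) → Nat.card S ≤ 2 := by
    classical
    intro S hS
    have : Nat.card S ≤ Nat.card (Fin 2) := by
      refine Nat.card_le_card_of_injective (fun a : S => if (a : G) = 1 then (0 : Fin 2) else 1) ?_
      intro a b hab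
      by_cases ha : (a : G) = 1 <;> by_cases hb : (b : G) = 1 <;> simp [ha, hb] at hab
      · exact Subtype.ext (Subtype.ext (ha.trans hb.symm))
      · refine Subtype.ext (Subtype.ext ?_)
        rw [hfix _ a.1.2 (orderOf_eq_prime (hN.2 _ a.1.2) ha) (hS _ a.2),
          hfix _ b.1.2 (orderOf_eq_prime (hN.2 _ b.1.2) hb) (hS _ b.2)]
    simpa using this
  have hk : Nat.card f.ker ≤ 2 := hsmall _ fun a ha => by
    have h : (a : G) * (x * a * x⁻¹) = 1 := congrArg Subtype.val ha
    have h2 : x * (a : G) * x⁻¹ = a := by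
      rw [← inv_eq_of_mul_eq_one_right h, hinv _ a.2]
    exact (mul_inv_eq_iff_eq_mul.1 h2).symm
  have hr : Nat.card f.range ≤ 2 := hsmall _ fun b hb => by
    obtain ⟨a, rfl⟩ := hb
    show (a : G) * (x * a * x⁻¹) * x = x * ((a : G) * (x * a * x⁻¹))
    have h1 := hcomm _ a.2 (x * a * x⁻¹) (Subgroup.Normal.conj_mem ‹_› _ a.2 x)
    have hxx : x * x = 1 := Invol.mul_self_eq_one hx
    have hxi : x⁻¹ = x := Invol.inv_eq_self hx
    rw [hxi] at h1 ⊢
    calc (a : G) * (x * a * x) * x = a * (x * a) * (x * x) := by group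
      _ = a * (x * a) := by rw [hxx, mul_one]
      _ = x * x * (a * (x * a)) := by rw [hxx, one_mul]
      _ = x * ((x * a * x) * a) := by group
      _ = x * (a * (x * a * x)) := by rw [h1]
  rw [← Subgroup.card_mul_index f.ker, Subgroup.index_ker]
  exact Nat.mul_le_mul hk hr

end CfsgLib.InvChar
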