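import Cfsg.Prelude.Def_Transfer
import Cfsg.Agent.Lib.Invol.Counting
import Cfsg.Agent.Lib.InvChar.NormalClosureElem
import Mathlib.GroupTheory.Transfer
import Mathlib.GroupTheory.SpecificGroups.Alternating
import Mathlib.GroupTheory.Nilpotent
import Mathlib.Tactic.LinearCombination
import Mathlib.Tactic.IntervalCases

/-!
# Groups in which an involution has elementary abelian centralizer of order four
-/

set_option autoImplicit false

namespace CfsgLib.InvChar.ElemFour

variable {G : Type*} [Group G]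

local notation "C(" x ")" => Subgroup.centralizer ({x} : Set _)

theorem mem_cent {x g : G} : g ∈ Subgroup.centralizer ({x} : Set G) ↔ g * x = x * g := by
  rw [Subgroup.mem_centralizer_singleton_iff]

theorem self_mem_cent (x : G) : x ∈ Subgroup.centralizer ({x} : Set G) := mem_cent.2 rfl

theorem comm_of_exp_two {V : Subgroup G} (hV : ∀ c ∈ V, c ^ 2 = 1) {a b : G} (ha : a ∈ V)
    (hb : b ∈ V) : a * b = b * a := by
  have hinv : ∀ c ∈ V, c⁻¹ = c := fun c hc =>
    inv_eq_of_mul_eq_one_right (by rw [← pow_two]; exact hV c hc)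
  have h := hinv _ (V.mul_mem ha hb)
  rw [mul_inv_rev, hinv a ha, hinv b hb] at h
  exact h.symm

theorem orderOf_of_mem {V : Subgroup G} (hV : ∀ c ∈ V, c ^ 2 = 1) {a : G} (ha : a ∈ V)
    (h1 : a ≠ 1) : orderOf a = 2 :=
  orderOf_eq_prime (hV a ha) h1

theorem conj_mem_cent_iff {g x c : G} :
    c ∈ Subgroup.centralizer ({g * x * g⁻¹} : Set G) ↔
      g⁻¹ * c * g ∈ Subgroup.centralizer ({x} : Set G) := by
  rw [mem_cent, mem_cent]
  constructor
  · intro h
    calc g⁻¹ * c * g * x = g⁻¹ * (c * (g * x * g⁻¹)) * g := by group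
      _ = g⁻¹ * (g * x * g⁻¹ * c) * g := by rw [h]
      _ = x * (g⁻¹ * c * g) := by group
  · intro h
    calc c * (g * x * g⁻¹) = g * (g⁻¹ * c * g * x) * g⁻¹ := by group
      _ = g * (x * (g⁻¹ * c * g)) * g⁻¹ := by rw [h]
      _ = g * x * g⁻¹ * c := by group

theorem card_cent_conj (g x : G) :
    Nat.card (Subgroup.centralizer ({g * x * g⁻¹} : Set G)) =
      Nat.card (Subgroup.centralizer ({x} : Set G)) :=
  Nat.card_congr (((MulAut.conj g⁻¹).toEquiv).subtypeEquiv fun c => by
    simp only [MulEquiv.toEquiv_eq_coe, EquivLike.coe_coe, MulAut.conj_apply, inv_inv]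
    exact conj_mem_cent_iff)

theorem elements_of_four [Finite G] {V : Subgroup G} (hV : Nat.card V = 4) {a b : G}
    (ha : a ∈ V) (hb : b ∈ V) (ha1 : a ≠ 1) (hb1 : b ≠ 1) (hab : a ≠ b) (hab1 : a * b ≠ 1)
    {v : G} (hv : v ∈ V) : v = 1 ∨ v = a ∨ v = b ∨ v = a * b := by
  classical
  have := Fintype.ofFinite V
  by_contra h
  push Not at h
  obtain ⟨h1, h2, h3, h4⟩ := h
  have h5 : ({1, (⟨a, ha⟩ : V), (⟨b, hb⟩ : V), (⟨a * b, V.mul_mem ha hb⟩ : V), (⟨v, hv⟩ : V)} : Finset V).card = 5 := by
    rw [Finset.card_insert_of_notMem, Finset.card_insert_of_notMem, Finset.card_insert_of_notMem,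
      Finset.card_pair]
    · simpa [Subtype.ext_iff] using h4.symm
    · simp only [Finset.mem_insert, Finset.mem_singleton, Subtype.ext_iff, not_or]
      exact ⟨fun e => ha1 (by simpa using e.symm), h3.symm⟩
    · simp only [Finset.mem_insert, Finset.mem_singleton, Subtype.ext_iff, not_or]
      exact ⟨hab, fun e => hb1 (by simpa using e.symm), h2.symm⟩
    · simp only [Finset.mem_insert, Finset.mem_singleton, Subtype.ext_iff, not_or,
        Subgroup.coe_one]
      exact ⟨ha1.symm, hb1.symm, hab1.symm, h1.symm⟩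
  have := h5 ▸ Finset.card_le_univ ({1, (⟨a, ha⟩ : V), (⟨b, hb⟩ : V), (⟨a * b, V.mul_mem ha hb⟩ : V), (⟨v, hv⟩ : V)} : Finset V)
  rw [← Nat.card_eq_fintype_card, hV] at this
  omega

variable [Finite G]

/-- The Sylow 2-subgroup containing `C(x)` is `C(x)`, absent small normal elementary subgroups. -/
theorem sylow_eq (x : G) (hx : orderOf x = 2)
    (hC4 : Nat.card (Subgroup.centralizer ({x} : Set G)) = 4)
    (hCe : ∀ c ∈ Subgroup.centralizer ({x} : Set G), c ^ 2 = 1)
    (hne : ∀ E : Subgroup G, E.Normal → Cfsg.IsElementaryAbelian 2 E →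
      Nat.card E ≠ 2 ∧ Nat.card E ≠ 4) :
    ∃ S : Sylow 2 G, (S : Subgroup G) = Subgroup.centralizer ({x} : Set G) := by
  haveI : Fact (Nat.Prime 2) := ⟨Nat.prime_two⟩
  set V := Subgroup.centralizer ({x} : Set G) with hVdef
  have hV : IsPGroup 2 V := IsPGroup.of_card (n := 2) (by rw [hC4]; norm_num)
  obtain ⟨S, hS⟩ := hV.exists_le_sylow
  refine ⟨S, le_antisymm ?_ hS⟩
  by_contra hSV
  haveI : Nontrivial (S : Subgroup G) := by
    rw [Subgroup.nontrivial_iff_ne_bot]
    intro h
    rw [h] at hS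
    exact Invol.ne_one_of_invol hx (Subgroup.mem_bot.1 (hS (self_mem_cent x)))
  haveI hnil : Group.IsNilpotent (S : Subgroup G) := S.isPGroup'.isNilpotent
  have hlt : V.subgroupOf S < ⊤ := by
    rw [lt_top_iff_ne_top, ne_eq, Subgroup.subgroupOf_eq_top]
    exact hSV
  obtain ⟨⟨n, hnS⟩, hnN, hnV⟩ :=
    SetLike.exists_of_lt (Group.normalizerCondition_of_isNilpotent _ hlt)
  have hnV' : n ∉ V := hnV
  haveI := S.isPGroup'.center_nontrivial
  obtain ⟨z₀, hz₀⟩ : ∃ z₀ : Subgroup.center (S : Subgroup G), orderOf z₀ = 2 := by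
    refine exists_prime_orderOf_dvd_card' 2 ?_
    rcases ((S.isPGroup').to_subgroup (Subgroup.center (S : Subgroup G))).card_eq_or_dvd with h | h
    · exact absurd h (Finite.one_lt_card).ne'
    · exact h
  set z : G := ((z₀ : (S : Subgroup G)) : G) with hzdef
  have hz : orderOf z = 2 := by rw [hzdef, Subgroup.orderOf_coe, Subgroup.orderOf_coe, hz₀]
  have hzc : ∀ s ∈ (S : Subgroup G), s * z = z * s := fun s hs =>
    congrArg Subtype.val (Subgroup.mem_center_iff.1 z₀.2 ⟨s, hs⟩)
  have hxS : x ∈ (S : Subgroup G) := hS (self_mem_cent x)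
  have hzV : z ∈ V := mem_cent.2 (hzc x hxS).symm
  have hzx : z ≠ x := fun h => hSV fun s hs => mem_cent.2 (h ▸ hzc s hs)
  have hxz : x * z ≠ 1 := fun h => hzx (by
    rw [← inv_eq_of_mul_eq_one_right h]; exact Invol.inv_eq_self hx)
  have hfour : ∀ v ∈ V, v = 1 ∨ v = x ∨ v = z ∨ v = x * z := fun v hv =>
    elements_of_four hC4 (self_mem_cent x) hzV (Invol.ne_one_of_invol hx)
      (Invol.ne_one_of_invol hz) hzx.symm hxz hv
  -- `n` sends `x` to `x * z`
  have hnx : n * x * n⁻¹ = x * z := by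
    have hmem : n * x * n⁻¹ ∈ V := by
      have h := (Subgroup.mem_normalizer_iff.1 hnN ⟨x, hxS⟩).1
        (show (⟨x, hxS⟩ : (S : Subgroup G)) ∈ V.subgroupOf S from self_mem_cent x)
      exact h
    rcases hfour _ hmem with h | h | h | h
    · exact absurd h (Invol.ne_one_of_invol ((Invol.orderOf_conj n x).trans hx))
    · exact absurd (mem_cent.2 (mul_inv_eq_iff_eq_mul.1 h)) hnV'
    · refine absurd ?_ hzx.symm
      calc x = n⁻¹ * (n * x * n⁻¹) * n := by group
        _ = n⁻¹ * (z * n) := by rw [h, mul_assoc]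
        _ = z := by rw [← hzc n hnS, inv_mul_cancel_left]
    · exact h
  -- `z` is not conjugate to `x`
  have hnc : ¬ IsConj x z := by
    intro h
    obtain ⟨g, hg⟩ := isConj_iff.1 h
    have h1 : Nat.card (Subgroup.centralizer ({z} : Set G)) = 4 := by
      rw [← hg, card_cent_conj, hC4]
    have h2 : (S : Subgroup G) ≤ Subgroup.centralizer ({z} : Set G) := fun s hs =>
      mem_cent.2 (hzc s hs)
    have h3 : Nat.card (S : Subgroup G) ≤ 4 := h1 ▸ Subgroup.card_le_of_le h2
    exact hSV (Subgroup.eq_of_le_of_card_ge hS (hC4.symm ▸ h3)).ge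
  have hstar : ∀ u : G, orderOf u = 2 → Commute u x → ∀ g : G, Commute (g * z * g⁻¹) u →
      Commute (g * z * g⁻¹) z := by
    intro u hu hux g hgu
    rcases hfour u (mem_cent.2 hux) with h | h | h | h
    · exact absurd h (Invol.ne_one_of_invol hu)
    · exact comm_of_exp_two hCe (mem_cent.2 (h ▸ hgu)) hzV
    · exact h ▸ hgu
    · have h1 : n⁻¹ * (g * z * g⁻¹) * n ∈ V := by
        rw [hVdef, ← conj_mem_cent_iff, hnx, ← h]
        exact mem_cent.2 hgu
      have h2 : n⁻¹ * z * n = z := by rw [mul_assoc, ← hzc n hnS, inv_mul_cancel_left]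
      have h3 := comm_of_exp_two hCe h1 hzV
      have h3' : n⁻¹ * (g * z * g⁻¹) * n * (n⁻¹ * z * n) =
          n⁻¹ * z * n * (n⁻¹ * (g * z * g⁻¹) * n) := by rw [h2]; exact h3
      have h4 := congrArg (fun w => n * w * n⁻¹) h3'
      show g * z * g⁻¹ * z = z * (g * z * g⁻¹)
      calc g * z * g⁻¹ * z
          = n * (n⁻¹ * (g * z * g⁻¹) * n * (n⁻¹ * z * n)) * n⁻¹ := by group
        _ = n * (n⁻¹ * z * n * (n⁻¹ * (g * z * g⁻¹) * n)) * n⁻¹ := h4
        _ = z * (g * z * g⁻¹) := by group
  have hel := elementary_normalClosure hx hz hnc hstar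
  set N := Subgroup.normalClosure ({z} : Set G) with hNdef
  have hzN : z ∈ N := Subgroup.subset_normalClosure rfl
  have hN2 : 2 ∣ Nat.card N := by
    have h := orderOf_dvd_natCard (⟨z, hzN⟩ : N)
    rwa [← Subgroup.orderOf_coe, hz] at h
  have hN4 : Nat.card N ≤ 4 := by
    by_cases hxN : x ∈ N
    · have hle : N ≤ V := fun a ha => mem_cent.2
        (Subgroup.mem_centralizer_iff.1
          ((Subgroup.le_centralizer_iff_isMulCommutative.2 hel.1) hxN) a ha)
      exact hC4 ▸ Subgroup.card_le_of_le hle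
    · refine card_le_four_of_fixed hel hx (y := z) fun u hu ho hc => ?_
      rcases hfour u (mem_cent.2 hc) with h | h | h | h
      · exact absurd h (Invol.ne_one_of_invol ho)
      · exact absurd (h ▸ hu) hxN
      · exact h
      · refine absurd ?_ hxN
        have h' := N.mul_mem hu (N.inv_mem hzN)
        rwa [h, mul_inv_cancel_right] at h'
  obtain ⟨h2, h4⟩ := hne N inferInstance hel
  have : Nat.card N = 2 ∨ Nat.card N = 4 := by
    obtain ⟨k, hk⟩ := hN2
    have : 0 < Nat.card N := Nat.card_pos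
    omega
  tauto

/-- All involutions are conjugate. -/
theorem isConj_of_sylow (x : G) (hx : orderOf x = 2)
    (hC4 : Nat.card (Subgroup.centralizer ({x} : Set G)) = 4)
    (hCe : ∀ c ∈ Subgroup.centralizer ({x} : Set G), c ^ 2 = 1)
    (hnc : ¬ Cfsg.HasNormalPComplement 2 G) (S : Sylow 2 G)
    (hS : (S : Subgroup G) = Subgroup.centralizer ({x} : Set G)) (u : G) (hu : orderOf u = 2) :
    IsConj x u := by
  haveI : Fact (Nat.Prime 2) := ⟨Nat.prime_two⟩
  have hxS : x ∈ (S : Subgroup G) := hS ▸ self_mem_cent x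
  have hSe : ∀ c ∈ (S : Subgroup G), c ^ 2 = 1 := hS ▸ hCe
  have hS4 : Nat.card (S : Subgroup G) = 4 := hS ▸ hC4
  suffices key : ∀ v ∈ (S : Subgroup G), v ≠ 1 → IsConj x v by
    obtain ⟨T, hT⟩ := (show IsPGroup 2 (Subgroup.zpowers u) from
      IsPGroup.of_card (n := 1) (by rw [Nat.card_zpowers, hu, pow_one])).exists_le_sylow
    obtain ⟨g, hg⟩ := MulAction.exists_smul_eq G T S
    have hmem : g * u * g⁻¹ ∈ (S : Subgroup G) := by
      rw [← hg, Sylow.coe_subgroup_smul]
      exact ⟨u, hT (Subgroup.mem_zpowers u), rfl⟩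
    exact (key _ hmem (Invol.ne_one_of_invol ((Invol.orderOf_conj g u).trans hu))).trans
      (isConj_iff.2 ⟨g⁻¹, by group⟩)
  -- some element of the normalizer moves `x`
  have hcomm : ∀ a ∈ (S : Subgroup G), ∀ b ∈ (S : Subgroup G), a * b = b * a :=
    fun a ha b hb => comm_of_exp_two hSe ha hb
  obtain ⟨n, hn, hnC⟩ : ∃ n ∈ Subgroup.normalizer ((S : Subgroup G) : Set G),
      n ∉ (S : Subgroup G) := by
    by_contra h
    push Not at h
    have hP : Subgroup.normalizer ((S : Subgroup G) : Set G) ≤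
        Subgroup.centralizer ((S : Subgroup G) : Set G) := fun n hn =>
      Subgroup.mem_centralizer_iff.2 fun a ha => hcomm a ha n (h n hn)
    exact hnc ⟨S, _, MonoidHom.normal_ker _, MonoidHom.ker_transferSylow_isComplement' S hP⟩
  have hnx : n * x * n⁻¹ ≠ x := fun h =>
    hnC (hS ▸ mem_cent.2 (mul_inv_eq_iff_eq_mul.1 h))
  intro v hv hv1
  -- the orbit of `x` under the normalizer has odd size
  set y := n * x * n⁻¹ with hy
  have hyS : y ∈ (S : Subgroup G) := (Subgroup.mem_normalizer_iff.1 hn x).1 hxS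
  have hy2 : orderOf y = 2 := (Invol.orderOf_conj n x).trans hx
  have hxy : x * y ≠ 1 := fun h => hnx (by
    rw [← inv_eq_of_mul_eq_one_right h]; exact Invol.inv_eq_self hx)
  have hfour : ∀ w ∈ (S : Subgroup G), w = 1 ∨ w = x ∨ w = y ∨ w = x * y := fun w hw =>
    elements_of_four hS4 hxS hyS (Invol.ne_one_of_invol hx) (Invol.ne_one_of_invol hy2)
      hnx.symm hxy hw
  rcases hfour v hv with h | h | h | h
  · exact absurd h hv1
  · exact h ▸ IsConj.refl x
  · exact h ▸ isConj_iff.2 ⟨n, rfl⟩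
  · subst h
    by_contra hno
    have hz : n * y * n⁻¹ = x := by
      have hmem := (Subgroup.mem_normalizer_iff.1 hn y).1 hyS
      rcases hfour _ hmem with h | h | h | h
      · exact absurd h (Invol.ne_one_of_invol ((Invol.orderOf_conj n y).trans hy2))
      · exact h
      · exact absurd (mul_left_cancel (mul_right_cancel (h.trans hy))) hnx
      · exact absurd (h ▸ (isConj_iff.2 ⟨n, rfl⟩ : IsConj x y).trans (isConj_iff.2 ⟨n, rfl⟩)) hno
    have hn2S : n * n ∈ (S : Subgroup G) := hS ▸ mem_cent.2 (by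
      calc n * n * x = n * (n * x * n⁻¹) * n⁻¹ * (n * n) := by group
        _ = x * (n * n) := by rw [← hy, hz])
    -- `n` would generate with `S` a larger 2-group
    have hle : Subgroup.zpowers n ≤ Subgroup.normalizer ((S : Subgroup G) : Set G) :=
      Subgroup.zpowers_le.2 hn
    have hp : IsPGroup 2 (Subgroup.zpowers n) := by
      have h4 : n ^ 4 = 1 := by
        have := hSe _ hn2S
        rwa [← pow_two, ← pow_mul] at this
      obtain ⟨j, -, hj⟩ := (Nat.dvd_prime_pow Nat.prime_two).1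
        (show orderOf n ∣ 2 ^ 2 from orderOf_dvd_of_pow_eq_one h4)
      exact IsPGroup.of_card (n := j) (by rw [Nat.card_zpowers, hj])
    have hsup := IsPGroup.to_sup_of_normal_right' hp S.isPGroup' hle
    exact hnC ((S.is_maximal' hsup le_sup_right).le
      (Subgroup.mem_sup_left (Subgroup.mem_zpowers n)))

section Count

variable (hC : ∀ u : G, orderOf u = 2 → Nat.card (Subgroup.centralizer ({u} : Set G)) = 4 ∧
    ∀ c ∈ Subgroup.centralizer ({u} : Set G), c ^ 2 = 1)

/-- The elements, other than those of order at most two, that are inverted by an involution. -/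
def IsStrongReal (g : G) : Prop := g ^ 2 ≠ 1 ∧ ∃ u : G, orderOf u = 2 ∧ u * g * u⁻¹ = g⁻¹

variable {g : G}

include hC in
theorem no_involution_in_cent (hg : g ^ 2 ≠ 1) :
    Odd (Nat.card (Subgroup.centralizer ({g} : Set G))) := by
  rw [← Nat.not_even_iff_odd, even_iff_two_dvd]
  intro h
  haveI : Fact (Nat.Prime 2) := ⟨Nat.prime_two⟩
  obtain ⟨w, hw⟩ := exists_prime_orderOf_dvd_card' 2 h
  exact hg ((hC w (by rw [Subgroup.orderOf_coe, hw])).2 g (mem_cent.2 (mem_cent.1 w.2).symm))

theorem conj_mem_cent_of_inverts {u : G} (hinv : u * g * u⁻¹ = g⁻¹)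
    {a : G} (ha : a ∈ Subgroup.centralizer ({g} : Set G)) :
    u * a * u⁻¹ ∈ Subgroup.centralizer ({g} : Set G) := by
  have h1 : u * a * u⁻¹ ∈ Subgroup.centralizer ({g⁻¹} : Set G) := by
    rw [← hinv, conj_mem_cent_iff]
    simpa [mul_assoc] using ha
  rw [mem_cent] at h1 ⊢
  exact Commute.inv_right_iff.1 h1

theorem eq_one_of_sq {A : Subgroup G} (hA : Odd (Nat.card A)) {a : G} (ha : a ∈ A)
    (h : a ^ 2 = 1) : a = 1 := by
  have h1 : orderOf a ∣ 2 := orderOf_dvd_of_pow_eq_one h
  have h2 : orderOf a ∣ Nat.card A := by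
    have := orderOf_dvd_natCard (⟨a, ha⟩ : A)
    rwa [← Subgroup.orderOf_coe] at this
  exact orderOf_eq_one_iff.1 (Nat.eq_one_of_dvd_coprimes (Nat.coprime_two_left.2 hA) h1 h2)

include hC in
/-- An involution normalizing an odd order subgroup inverts it. -/
theorem inverts_of_normalizes {A : Subgroup G} (hA : Odd (Nat.card A)) {u : G}
    (hu : orderOf u = 2) (hn : ∀ a ∈ A, u * a * u⁻¹ ∈ A) {a : G} (ha : a ∈ A) :
    u * a * u⁻¹ = a⁻¹ := by
  have huu := Invol.mul_self_eq_one hu
  have hui := Invol.inv_eq_self hu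
  let f : A → A := fun b => ⟨(b : G)⁻¹ * (u * b * u⁻¹), A.mul_mem (A.inv_mem b.2) (hn b b.2)⟩
  have hf : Function.Injective f := by
    intro b c h
    have h' : (b : G)⁻¹ * (u * b * u⁻¹) = (c : G)⁻¹ * (u * c * u⁻¹) := congrArg Subtype.val h
    have hfix : u * ((c : G) * (b : G)⁻¹) * u⁻¹ = (c : G) * (b : G)⁻¹ := by
      calc u * ((c : G) * (b : G)⁻¹) * u⁻¹
          = c * ((c : G)⁻¹ * (u * c * u⁻¹)) * (u * b * u⁻¹)⁻¹ := by group
        _ = c * ((b : G)⁻¹ * (u * b * u⁻¹)) * (u * b * u⁻¹)⁻¹ := by rw [← h']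
        _ = c * (b : G)⁻¹ := by group
    have h2 := (hC u hu).2 _ (mem_cent.2 (mul_inv_eq_iff_eq_mul.1 hfix).symm)
    exact Subtype.ext (mul_inv_eq_one.1 (eq_one_of_sq hA (A.mul_mem c.2 (A.inv_mem b.2)) h2)).symm
  obtain ⟨b, hb⟩ := (Finite.injective_iff_surjective.1 hf) ⟨a, ha⟩
  have hb' : (b : G)⁻¹ * (u * b * u⁻¹) = a := congrArg Subtype.val hb
  rw [← hb', hui]
  calc u * ((b : G)⁻¹ * (u * b * u)) * u
      = u * (b : G)⁻¹ * u * b * (u * u) := by group
    _ = u * (b : G)⁻¹ * u * b := by rw [huu, mul_one]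
    _ = ((b : G)⁻¹ * (u⁻¹ * b * u⁻¹))⁻¹ := by group
    _ = ((b : G)⁻¹ * (u * b * u))⁻¹ := by rw [hui]

variable (hg : IsStrongReal g)

include hC hg in
theorem cent_comm {a b : G} (ha : a ∈ Subgroup.centralizer ({g} : Set G))
    (hb : b ∈ Subgroup.centralizer ({g} : Set G)) : a * b = b * a := by
  obtain ⟨hg2, u, hu, hinv⟩ := hg
  have hodd := no_involution_in_cent hC hg2
  have key := fun c hc => inverts_of_normalizes hC hodd hu
    (fun a ha => conj_mem_cent_of_inverts hinv ha) (a := c) hc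
  have h := key _ (Subgroup.mul_mem _ ha hb)
  rw [show u * (a * b) * u⁻¹ = (u * a * u⁻¹) * (u * b * u⁻¹) by group, key a ha, key b hb,
    ← mul_inv_rev] at h
  exact (inv_injective h).symm

include hC hg in
theorem isStrongReal_of_mem {a : G} (ha : a ∈ Subgroup.centralizer ({g} : Set G)) (ha1 : a ≠ 1) :
    IsStrongReal a ∧
      Subgroup.centralizer ({a} : Set G) = Subgroup.centralizer ({g} : Set G) := by
  obtain ⟨hg2, u, hu, hinv⟩ := id hg
  have hodd := no_involution_in_cent hC hg2
  have hreal : IsStrongReal a := ⟨fun h => ha1 (eq_one_of_sq hodd ha h), u, hu,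
    inverts_of_normalizes hC hodd hu (fun a ha => conj_mem_cent_of_inverts hinv ha) ha⟩
  refine ⟨hreal, le_antisymm (fun b hb => mem_cent.2 ?_) (fun b hb => mem_cent.2 ?_)⟩
  · exact cent_comm hC hreal hb (mem_cent.2 (mem_cent.1 ha).symm)
  · exact cent_comm hC hg hb ha

include hC hg in
theorem card_inverting :
    Nat.card {t : G // orderOf t = 2 ∧ t * g * t⁻¹ = g⁻¹} =
      Nat.card (Subgroup.centralizer ({g} : Set G)) := by
  obtain ⟨hg2, u, hu, hinv⟩ := id hg
  have hodd := no_involution_in_cent hC hg2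
  have hui := Invol.inv_eq_self hu
  refine (Nat.card_congr (Equiv.subtypeEquiv (Equiv.mulLeft u) fun a => ?_)).symm
  simp only [Equiv.coe_mulLeft]
  constructor
  · intro ha
    have hia := inverts_of_normalizes hC hodd hu (fun a ha => conj_mem_cent_of_inverts hinv ha) ha
    have hinv2 : (u * a) * g * (u * a)⁻¹ = g⁻¹ := by
      rw [show (u * a) * g * (u * a)⁻¹ = u * (a * g * a⁻¹) * u⁻¹ by group, mem_cent.1 ha,
        mul_inv_cancel_right, hinv]
    refine ⟨Invol.orderOf_eq_two (fun h => ?_) ?_, hinv2⟩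
    · rw [h, one_mul, inv_one, mul_one] at hinv2
      exact hg2 (by rw [pow_two]; nth_rw 2 [hinv2]; exact mul_inv_cancel g)
    · rw [hui] at hia
      rw [← mul_assoc, hia, inv_mul_cancel]
  · rintro ⟨-, h⟩
    rw [mem_cent, ← mul_inv_eq_iff_eq_mul]
    calc a * g * a⁻¹ = u⁻¹ * (u * a * g * (u * a)⁻¹) * u := by group
      _ = u⁻¹ * g⁻¹ * u := by rw [h]
      _ = g := by rw [← hinv]; group

include hC hg in
theorem card_conjugating :
    Nat.card {n : G // n * g * n⁻¹ ∈ Subgroup.centralizer ({g} : Set G)} =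
      2 * Nat.card (Subgroup.centralizer ({g} : Set G)) := by
  obtain ⟨hg2, u, hu, hinv⟩ := id hg
  set A := Subgroup.centralizer ({g} : Set G) with hA
  have hodd := no_involution_in_cent hC hg2
  have key := fun c hc => inverts_of_normalizes hC hodd hu
    (fun a ha => conj_mem_cent_of_inverts hinv ha) (a := c) hc
  have hg1 : g ≠ 1 := fun h => hg2 (by rw [h, one_pow])
  have huA : u ∉ A := fun h => by
    have h1 : u * g * u⁻¹ = g := by rw [mem_cent.1 h, mul_inv_cancel_right]
    exact hg2 (by rw [pow_two]; nth_rw 2 [h1.symm.trans hinv]; exact mul_inv_cancel g)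
  let f : Bool × A → {n : G // n * g * n⁻¹ ∈ A} := fun p =>
    ⟨(if p.1 then u else 1) * (p.2 : G), by
      rw [show ((if p.1 then u else 1) * (p.2 : G)) * g * ((if p.1 then u else 1) * (p.2 : G))⁻¹ =
        (if p.1 then u else 1) * ((p.2 : G) * g * (p.2 : G)⁻¹) * (if p.1 then u else 1)⁻¹ by group,
        mem_cent.1 p.2.2, mul_inv_cancel_right]
      rcases p.1 with _ | _
      · simpa using self_mem_cent g
      · simp only [if_true, hinv]
        exact A.inv_mem (self_mem_cent g)⟩
  suffices hf : Function.Bijective f by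
    rw [← Nat.card_eq_of_bijective f hf, Nat.card_prod, Nat.card_eq_fintype_card (α := Bool),
      Fintype.card_bool]
  constructor
  · rintro ⟨b, a⟩ ⟨c, d⟩ h
    have h' : (if b then u else 1) * (a : G) = (if c then u else 1) * (d : G) :=
      congrArg Subtype.val h
    rcases b with _ | _ <;> rcases c with _ | _ <;> simp at h'
    · simp [h']
    · exact absurd (by simpa [h'] using A.mul_mem a.2 (A.inv_mem d.2)) huA
    · exact absurd (by simpa [← h'] using A.mul_mem d.2 (A.inv_mem a.2)) huA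
    · simp [h']
  · rintro ⟨n, hn⟩
    suffices hsuff : n ∈ A ∨ u * n ∈ A by
      rcases hsuff with h | h
      · exact ⟨(false, ⟨n, h⟩), Subtype.ext (by simp [f])⟩
      · refine ⟨(true, ⟨u * n, h⟩), Subtype.ext ?_⟩
        simp only [f, if_true, ← mul_assoc, Invol.mul_self_eq_one hu, one_mul]
    have hn1 : n * g * n⁻¹ ≠ 1 := by simpa using hg1
    have hAn := (isStrongReal_of_mem hC hg hn hn1).2
    have hnA : ∀ a, a ∈ A ↔ n⁻¹ * a * n ∈ A := fun a => by
      rw [← conj_mem_cent_iff (g := n) (x := g), hAn]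
    -- replace `u` by its conjugate
    have hw : orderOf (n * u * n⁻¹) = 2 := (Invol.orderOf_conj n u).trans hu
    have hwinv : (n * u * n⁻¹) * g * (n * u * n⁻¹)⁻¹ = g⁻¹ := by
      calc (n * u * n⁻¹) * g * (n * u * n⁻¹)⁻¹
          = n * (u * (n⁻¹ * g * n) * u⁻¹) * n⁻¹ := by group
        _ = n * (n⁻¹ * g * n)⁻¹ * n⁻¹ := by rw [key _ ((hnA g).1 (self_mem_cent g))]
        _ = g⁻¹ := by group
    have hb : u * (n * u * n⁻¹) ∈ A := by
      rw [mem_cent, ← mul_inv_eq_iff_eq_mul]
      calc u * (n * u * n⁻¹) * g * (u * (n * u * n⁻¹))⁻¹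
          = u * ((n * u * n⁻¹) * g * (n * u * n⁻¹)⁻¹) * u⁻¹ := by group
        _ = (u * g * u⁻¹)⁻¹ := by rw [hwinv]; group
        _ = g := by rw [hinv, inv_inv]
    -- square root in the odd order group
    obtain ⟨k, hk⟩ := hodd
    set b := u * (n * u * n⁻¹) with hbdef
    have hc : b ^ (k + 1) ∈ A := A.pow_mem hb _
    have hcc : b ^ (k + 1) * b ^ (k + 1) = b := by
      have h1 : b ^ Nat.card A = 1 :=
        congrArg Subtype.val (pow_card_eq_one' (x := (⟨b, hb⟩ : A)))
      have hk' : Nat.card A = 2 * k + 1 := hk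
      rw [← pow_add, show k + 1 + (k + 1) = Nat.card A + 1 by omega, pow_succ, h1, one_mul]
    set c := b ^ (k + 1) with hcdef
    have hucu : u * (c * n) * u⁻¹ = c * n := by
      have hub : n * u * n⁻¹ = u * b := by
        rw [hbdef, ← mul_assoc u u, Invol.mul_self_eq_one hu, one_mul]
      have h2 : u * c * u⁻¹ = c⁻¹ := key c hc
      have hui := Invol.inv_eq_self hu
      calc u * (c * n) * u⁻¹ = (u * c * u⁻¹) * u * (n * u⁻¹) := by group
        _ = c⁻¹ * u * ((n * u * n⁻¹) * n) := by rw [h2, hui]; group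
        _ = c⁻¹ * (u * u) * b * n := by rw [hub]; group
        _ = c * n := by rw [Invol.mul_self_eq_one hu, ← hcc]; group
    have hcn : (c * n) ^ 2 = 1 :=
      (hC u hu).2 _ (mem_cent.2 (mul_inv_eq_iff_eq_mul.1 hucu).symm)
    by_cases h1 : c * n = 1
    · left
      rw [← inv_eq_of_mul_eq_one_right h1]
      exact A.inv_mem hc
    · have hv : orderOf (c * n) = 2 := orderOf_eq_prime hcn h1
      have hvA : ∀ a ∈ A, c * n * a * (c * n)⁻¹ ∈ A := fun a ha => by
        rw [show c * n * a * (c * n)⁻¹ = c * (n * a * n⁻¹) * c⁻¹ by group]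
        exact A.mul_mem (A.mul_mem hc ((hnA _).2 (by simpa [mul_assoc] using ha))) (A.inv_mem hc)
      have hvg := inverts_of_normalizes hC (no_involution_in_cent hC hg2) hv hvA (self_mem_cent g)
      have huv : u * (c * n) ∈ A := by
        rw [mem_cent, ← mul_inv_eq_iff_eq_mul]
        calc u * (c * n) * g * (u * (c * n))⁻¹ = u * (c * n * g * (c * n)⁻¹) * u⁻¹ := by group
          _ = (u * g * u⁻¹)⁻¹ := by rw [hvg]; group
          _ = g := by rw [hinv, inv_inv]
      right
      have h2 : (u * c * u⁻¹) * (u * n) = u * (c * n) := by group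
      rw [key c hc] at h2
      have h3 := A.mul_mem hc huv
      rwa [← h2, mul_inv_cancel_left] at h3

/-- The elements whose centralizer is conjugate to that of `g`. -/
noncomputable def block [Fintype G] (g : G) : Finset G := by
  classical
  exact ((Finset.univ : Finset G) ×ˢ
    (Finset.univ.filter fun a : G => a ∈ Subgroup.centralizer ({g} : Set G) ∧ a ≠ 1)).image
      fun p => p.1 * p.2 * p.1⁻¹

theorem mem_block [Fintype G] {g h : G} :
    h ∈ block g ↔ ∃ t a : G, a ∈ Subgroup.centralizer ({g} : Set G) ∧ a ≠ 1 ∧ t * a * t⁻¹ = h := by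
  classical
  simp [block, and_assoc]

theorem card_cent_finset [Fintype G] [DecidableEq G] (g : G)
    [DecidablePred (· ∈ Subgroup.centralizer ({g} : Set G))] :
    (Finset.univ.filter fun a : G => a ∈ Subgroup.centralizer ({g} : Set G) ∧ a ≠ 1).card + 1 =
      Nat.card (Subgroup.centralizer ({g} : Set G)) := by
  rw [Nat.card_eq_fintype_card, Fintype.card_subtype]
  have : (Finset.univ.filter fun a : G => a ∈ Subgroup.centralizer ({g} : Set G) ∧ a ≠ 1) =
      (Finset.univ.filter fun a : G => a ∈ Subgroup.centralizer ({g} : Set G)).erase 1 := by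
    ext a; simp [and_comm]
  rw [this, Finset.card_erase_add_one]
  simp

theorem card_cent_of_mem_block [Fintype G] (hC : ∀ u : G, orderOf u = 2 →
    Nat.card (Subgroup.centralizer ({u} : Set G)) = 4 ∧
      ∀ c ∈ Subgroup.centralizer ({u} : Set G), c ^ 2 = 1)
    {g h : G} (hg : IsStrongReal g) (hh : h ∈ block g) :
    IsStrongReal h ∧ Nat.card (Subgroup.centralizer ({h} : Set G)) =
      Nat.card (Subgroup.centralizer ({g} : Set G)) := by
  obtain ⟨t, a, ha, ha1, rfl⟩ := mem_block.1 hh
  obtain ⟨⟨ha2, u, hu, hinv⟩, hCa⟩ := isStrongReal_of_mem hC hg ha ha1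
  refine ⟨⟨?_, t * u * t⁻¹, (Invol.orderOf_conj t u).trans hu, ?_⟩, ?_⟩
  · rw [conj_pow]
    simpa using ha2
  · calc t * u * t⁻¹ * (t * a * t⁻¹) * (t * u * t⁻¹)⁻¹ = t * (u * a * u⁻¹) * t⁻¹ := by group
      _ = (t * a * t⁻¹)⁻¹ := by rw [hinv]; group
  · rw [card_cent_conj, hCa]

include hC hg in
theorem card_block [Fintype G] :
    2 * Nat.card (Subgroup.centralizer ({g} : Set G)) * (block g).card + Nat.card G =
      Nat.card G * Nat.card (Subgroup.centralizer ({g} : Set G)) := by
  classical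
  set A := Finset.univ.filter fun a : G => a ∈ Subgroup.centralizer ({g} : Set G) ∧ a ≠ 1 with hA
  have hcount := Finset.card_eq_sum_card_fiberwise (f := fun p : G × G => p.1 * p.2 * p.1⁻¹)
    (s := (Finset.univ : Finset G) ×ˢ A) (t := block g) (fun p hp => by
      simp only [A, Finset.coe_product, Set.mem_prod, Finset.coe_filter, Finset.mem_univ,
        true_and, Set.mem_setOf_eq, Finset.mem_coe] at hp
      exact mem_block.2 ⟨p.1, p.2, hp.1, hp.2, rfl⟩)
  have hfib : ∀ h ∈ block g, (((Finset.univ : Finset G) ×ˢ A).filter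
      fun p => p.1 * p.2 * p.1⁻¹ = h).card =
      2 * Nat.card (Subgroup.centralizer ({g} : Set G)) := by
    intro h hh
    obtain ⟨t₀, a₀, ha₀, ha₀1, rfl⟩ := mem_block.1 hh
    obtain ⟨hreal, hCa⟩ := isStrongReal_of_mem hC hg ha₀ ha₀1
    rw [← hCa, ← card_conjugating hC hreal, hCa, Nat.card_eq_fintype_card, Fintype.card_subtype]
    refine Finset.card_nbij' (fun p => p.1⁻¹ * t₀) (fun n => (t₀ * n⁻¹, n * a₀ * n⁻¹)) ?_ ?_ ?_ ?_
    · intro p hp
      simp only [A, Finset.mem_coe, Finset.mem_filter, Finset.mem_product, Finset.mem_univ,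
        true_and] at hp ⊢
      rw [show p.1⁻¹ * t₀ * a₀ * (p.1⁻¹ * t₀)⁻¹ = p.1⁻¹ * (t₀ * a₀ * t₀⁻¹) * p.1 by group, ← hp.2,
        show p.1⁻¹ * (p.1 * p.2 * p.1⁻¹) * p.1 = p.2 by group]
      exact hp.1.1
    · intro n hn
      simp only [A, Finset.mem_coe, Finset.mem_filter, Finset.mem_product, Finset.mem_univ,
        true_and] at hn ⊢
      exact ⟨⟨hn, by simpa using ha₀1⟩, by group⟩
    · intro p hp
      simp only [A, Finset.mem_coe, Finset.mem_filter, Finset.mem_product, Finset.mem_univ,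
        true_and] at hp
      refine Prod.ext (by group) ?_
      show p.1⁻¹ * t₀ * a₀ * (p.1⁻¹ * t₀)⁻¹ = p.2
      rw [show p.1⁻¹ * t₀ * a₀ * (p.1⁻¹ * t₀)⁻¹ = p.1⁻¹ * (t₀ * a₀ * t₀⁻¹) * p.1 by group, ← hp.2]
      group
    · intro n _
      group
  rw [Finset.sum_congr rfl hfib, Finset.sum_const, smul_eq_mul, Finset.card_product,
    Finset.card_univ, ← Nat.card_eq_fintype_card] at hcount
  have hA1 := card_cent_finset g
  rw [← hA] at hA1
  rw [← hA1]
  calc 2 * (A.card + 1) * (block g).card + Nat.card G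
      = (block g).card * (2 * (A.card + 1)) + Nat.card G := by ring
    _ = Nat.card G * A.card + Nat.card G := by rw [hcount, hA1]
    _ = Nat.card G * (A.card + 1) := by ring

end Count

/-- A group in which all involutions are conjugate with elementary centralizers of order four
has order `60`, unless it has a normal four-group. -/
theorem card_eq_sixty (x : G) (hx : orderOf x = 2) (hconj : ∀ u : G, orderOf u = 2 → IsConj x u)
    (hC : ∀ u : G, orderOf u = 2 → Nat.card (Subgroup.centralizer ({u} : Set G)) = 4 ∧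
      ∀ c ∈ Subgroup.centralizer ({u} : Set G), c ^ 2 = 1)
    (hne : ¬ (Subgroup.centralizer ({x} : Set G)).Normal) : Nat.card G = 60 := by
  classical
  haveI := Fintype.ofFinite G
  set I := Finset.univ.filter fun u : G => orderOf u = 2 with hI
  set R := Finset.univ.filter fun u : G => IsStrongReal u with hR
  -- number of involutions
  have hi : Nat.card G = 4 * I.card := by
    rw [← Subgroup.card_mul_index (Subgroup.centralizer ({x} : Set G)), (hC x hx).1,
      ← Invol.card_isConj_eq_index, Nat.card_eq_fintype_card, Fintype.card_subtype]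
    congr 2
    ext u
    simp only [Finset.mem_filter, Finset.mem_univ, true_and, hI]
    exact ⟨Invol.orderOf_eq_two_of_isConj hx, hconj u⟩
  have hI3 : ∀ u ∈ I, (Finset.univ.filter fun t : G => orderOf t = 2 ∧ Commute t u).card = 3 := by
    intro u hu
    simp only [hI, Finset.mem_filter, Finset.mem_univ, true_and] at hu
    have h := card_cent_finset u
    rw [(hC u hu).1] at h
    have : (Finset.univ.filter fun t : G => orderOf t = 2 ∧ Commute t u) =
        Finset.univ.filter fun a : G => a ∈ Subgroup.centralizer ({u} : Set G) ∧ a ≠ 1 := by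
      ext t
      simp only [Finset.mem_filter, Finset.mem_univ, true_and]
      exact ⟨fun h => ⟨mem_cent.2 h.2, Invol.ne_one_of_invol h.1⟩,
        fun h => ⟨orderOf_eq_prime ((hC u hu).2 t h.1) h.2, mem_cent.1 h.1⟩⟩
    rw [this]
    omega
  -- the main counting identity
  set fib : G → ℕ := fun g => ((I ×ˢ I).filter fun p => p.1 * p.2 = g).card with hfibdef
  have hfibcard : ∀ g, fib g =
      Nat.card {p : G × G // orderOf p.1 = 2 ∧ orderOf p.2 = 2 ∧ p.1 * p.2 = g} := by
    intro g
    rw [Nat.card_eq_fintype_card, Fintype.card_subtype]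
    show ((I ×ˢ I).filter fun p => p.1 * p.2 = g).card = _
    congr 1
    ext p
    simp [hI, and_assoc]
  have hcount : I.card * I.card =
      3 * I.card + ∑ g ∈ R, Nat.card (Subgroup.centralizer ({g} : Set G)) := by
    have h1 := Finset.card_eq_sum_card_fiberwise (f := fun p : G × G => p.1 * p.2)
      (s := I ×ˢ I) (t := Finset.univ) (fun _ _ => Finset.mem_coe.2 (Finset.mem_univ _))
    rw [Finset.card_product] at h1
    rw [h1]
    have hf1 : fib 1 = I.card := by
      rw [hfibdef]
      refine Finset.card_nbij' Prod.fst (fun u => (u, u)) ?_ ?_ ?_ ?_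
      · intro p hp; simp at hp ⊢; exact hp.1.1
      · intro u hu
        simp at hu ⊢
        refine ⟨hu, ?_⟩
        simp [hI] at hu
        exact Invol.mul_self_eq_one hu
      · intro p hp
        simp [hI] at hp
        exact Prod.ext rfl (by rw [← inv_eq_of_mul_eq_one_right hp.2, Invol.inv_eq_self hp.1.1])
      · intro u hu; rfl
    have hfu : ∀ u ∈ I, fib u = 2 := by
      intro u hu
      have hu' : orderOf u = 2 := by simpa [hI] using hu
      have h := Invol.card_pairs_involution hu'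
      rw [← hfibcard, Nat.card_eq_fintype_card, Fintype.card_subtype, hI3 u hu] at h
      omega
    have hfo : ∀ g, g ∉ insert 1 I →
        fib g = if g ∈ R then Nat.card (Subgroup.centralizer ({g} : Set G)) else 0 := by
      intro g hg
      simp only [hI, Finset.mem_insert, Finset.mem_filter, Finset.mem_univ, true_and,
        not_or] at hg
      have hg2 : g ^ 2 ≠ 1 := fun h => hg.2 (orderOf_eq_prime h hg.1)
      rw [hfibcard, Invol.card_pairs_eq hg2]
      split_ifs with hgR
      · exact card_inverting hC (by simpa [hR] using hgR)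
      · rw [Nat.card_eq_zero]
        left
        refine ⟨fun t => hgR ?_⟩
        simp only [hR, Finset.mem_filter, Finset.mem_univ, true_and]
        exact ⟨hg2, t.1, t.2⟩
    have h1I : (1 : G) ∉ I := by simp [hI]
    rw [← Finset.sum_add_sum_compl (insert 1 I), Finset.sum_insert h1I,
      show ∑ u ∈ I, ((I ×ˢ I).filter fun p => p.1 * p.2 = u).card = ∑ u ∈ I, 2 from
        Finset.sum_congr rfl hfu,
      show ((I ×ˢ I).filter fun p => p.1 * p.2 = 1).card = I.card from hf1,
      Finset.sum_congr rfl (fun g hg => hfo g (Finset.mem_compl.1 hg)),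
      Finset.sum_const, smul_eq_mul, Finset.sum_ite_mem]
    have hdisj : (insert 1 I)ᶜ ∩ R = R := by
      refine Finset.inter_eq_right.2 fun g hg => ?_
      simp only [hR, Finset.mem_filter, Finset.mem_univ, true_and] at hg
      simp only [hI, Finset.mem_compl, Finset.mem_insert, Finset.mem_filter, Finset.mem_univ,
        true_and, not_or]
      exact ⟨fun h => hg.1 (by rw [h, one_pow]),
        fun h => hg.1 (by rw [← h, pow_orderOf_eq_one])⟩
    rw [hdisj]
    ring
  have hbound : R.card + I.card + 1 ≤ 4 * I.card := by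
    rw [← hi, Nat.card_eq_fintype_card, ← Finset.card_univ]
    have hd : Disjoint R (insert 1 I) := by
      rw [Finset.disjoint_left]
      intro g hg h
      simp only [hR, Finset.mem_filter, Finset.mem_univ, true_and] at hg
      simp only [hI, Finset.mem_insert, Finset.mem_filter, Finset.mem_univ, true_and] at h
      rcases h with h | h
      · exact hg.1 (by rw [h, one_pow])
      · exact hg.1 (by rw [← h, pow_orderOf_eq_one])
    have := Finset.card_le_univ (R ∪ insert 1 I)
    rw [Finset.card_union_of_disjoint hd, Finset.card_insert_of_notMem (by simp [hI])] at this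
    rw [Finset.card_univ]
    omega
  have hI0 : 0 < I.card := Finset.card_pos.2 ⟨x, by simp [hI, hx]⟩
  have hblock : ∀ g ∈ R, ∀ h, h ∈ block g → h ∈ R := fun g hg h hh => by
    simp only [hR, Finset.mem_filter, Finset.mem_univ, true_and] at hg ⊢
    exact (card_cent_of_mem_block hC hg hh).1
  have hself : ∀ g ∈ R, g ∈ block g := fun g hg => by
    simp only [hR, Finset.mem_filter, Finset.mem_univ, true_and] at hg
    exact mem_block.2 ⟨1, g, self_mem_cent g, fun h => hg.1 (by rw [h, one_pow]), by simp⟩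
  have hdisj : ∀ g₁ ∈ R, ∀ g₂ ∈ R, g₂ ∉ block g₁ → Disjoint (block g₁) (block g₂) := by
    intro g₁ hg₁ g₂ hg₂ hne
    simp only [hR, Finset.mem_filter, Finset.mem_univ, true_and] at hg₁ hg₂
    rw [Finset.disjoint_left]
    intro h h1 h2
    obtain ⟨t, a, ha, ha1, rfl⟩ := mem_block.1 h1
    obtain ⟨s, b, hb, hb1, he⟩ := mem_block.1 h2
    refine hne (mem_block.2 ⟨s⁻¹ * t, (s⁻¹ * t)⁻¹ * g₂ * (s⁻¹ * t), ?_, ?_, by group⟩)
    · rw [← (isStrongReal_of_mem hC hg₁ ha ha1).2, ← conj_mem_cent_iff,
        show s⁻¹ * t * a * (s⁻¹ * t)⁻¹ = b by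
          rw [show s⁻¹ * t * a * (s⁻¹ * t)⁻¹ = s⁻¹ * (t * a * t⁻¹) * s by group, ← he]; group,
        (isStrongReal_of_mem hC hg₂ hb hb1).2]
      exact self_mem_cent g₂
    · intro h0
      refine hg₂.1 ?_
      have : g₂ = 1 := by simpa [mul_assoc] using congrArg (fun w => (s⁻¹ * t) * w * (s⁻¹ * t)⁻¹) h0
      rw [this, one_pow]
  have hsum : ∀ g ∈ R, ∑ h ∈ block g, Nat.card (Subgroup.centralizer ({h} : Set G)) =
      (block g).card * Nat.card (Subgroup.centralizer ({g} : Set G)) := fun g hg => by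
    simp only [hR, Finset.mem_filter, Finset.mem_univ, true_and] at hg
    rw [Finset.sum_congr rfl (fun h hh => (card_cent_of_mem_block hC hg hh).2), Finset.sum_const,
      smul_eq_mul]
  have harith : ∀ g ∈ R, ∃ a : ℕ, Nat.card (Subgroup.centralizer ({g} : Set G)) = a ∧ Odd a ∧
      3 ≤ a ∧ a ∣ 4 * I.card ∧ 2 * a * (block g).card + 4 * I.card = 4 * I.card * a := by
    intro g hg
    simp only [hR, Finset.mem_filter, Finset.mem_univ, true_and] at hg
    have hodd := no_involution_in_cent hC hg.1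
    refine ⟨_, rfl, hodd, ?_, hi ▸ Subgroup.card_subgroup_dvd_card _, by
      rw [← hi]; exact card_block hC hg⟩
    by_contra h3
    have h1 : Nat.card (Subgroup.centralizer ({g} : Set G)) = 1 := by
      obtain ⟨k, hk⟩ := hodd
      omega
    have hmem : g ∈ (⊥ : Subgroup G) := (Subgroup.card_eq_one.1 h1) ▸ self_mem_cent g
    exact hg.1 (by rw [Subgroup.mem_bot.1 hmem, one_pow])
  by_cases hR0 : R = ∅
  · exfalso
    rw [hR0, Finset.sum_empty, Nat.add_zero] at hcount
    have h3 : I.card = 3 := Nat.eq_of_mul_eq_mul_right hI0 hcount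
    apply hne
    have hsub : (Finset.univ.filter fun t : G => orderOf t = 2 ∧ Commute t x) = I := by
      refine Finset.eq_of_subset_of_card_le (fun t ht => ?_) ?_
      · simp at ht; simp [hI, ht.1]
      · rw [hI3 x (by simp [hI, hx]), h3]
    refine ⟨fun c hc g => ?_⟩
    by_cases hc1 : c = 1
    · subst hc1; simp
    have ho : orderOf (g * c * g⁻¹) = 2 := by
      rw [Invol.orderOf_conj]; exact orderOf_eq_prime ((hC x hx).2 c hc) hc1
    have hmem : g * c * g⁻¹ ∈ I := by simp [hI, ho]
    rw [← hsub] at hmem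
    simp at hmem
    exact mem_cent.2 hmem.2
  obtain ⟨g₁, hg₁⟩ := Finset.nonempty_of_ne_empty hR0
  obtain ⟨a, ha, haodd, ha3, hadvd, hab⟩ := harith g₁ hg₁
  by_cases hR1 : R ⊆ block g₁
  · exfalso
    have : R = block g₁ := le_antisymm hR1 (fun h hh => hblock g₁ hg₁ h hh)
    rw [this, hsum g₁ hg₁, ha] at hcount
    have h2 : 2 * I.card + 4 = 6 + 4 * a - 2 + 2 := by
      have h5 : I.card * (2 * I.card + 4) = I.card * (6 + 4 * a) := by
        linear_combination 2 * hcount + hab
      have := Nat.eq_of_mul_eq_mul_left hI0 h5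
      omega
    have hI1 : I.card = 2 * a + 1 := by omega
    rw [hI1, show 4 * (2 * a + 1) = a * 8 + 4 by ring] at hadvd
    have h4 : a ∣ 4 := (Nat.dvd_add_right (dvd_mul_right a 8)).1 hadvd
    have := Nat.le_of_dvd (by norm_num) h4
    obtain ⟨k, hk⟩ := haodd
    interval_cases a <;> omega
  obtain ⟨g₂, hg₂, hg₂n⟩ := Finset.not_subset.1 hR1
  obtain ⟨b, hb, hbodd, hb3, hbdvd, hbb⟩ := harith g₂ hg₂
  have hd12 := hdisj g₁ hg₁ g₂ hg₂ hg₂n
  have hR2 : R = block g₁ ∪ block g₂ := by
    refine le_antisymm (fun g hg => ?_) (fun g hg => ?_)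
    · by_contra hgn
      simp only [Finset.mem_union, not_or] at hgn
      obtain ⟨c, hc, hcodd, hc3, hcdvd, hcc⟩ := harith g hg
      have hsub : block g₁ ∪ block g₂ ∪ block g ⊆ R := by
        intro h hh
        simp only [Finset.mem_union] at hh
        rcases hh with (hh | hh) | hh
        · exact hblock g₁ hg₁ h hh
        · exact hblock g₂ hg₂ h hh
        · exact hblock g hg h hh
      have h3 := Finset.card_le_card hsub
      rw [Finset.card_union_of_disjoint (Finset.disjoint_union_left.2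
        ⟨hdisj g₁ hg₁ g hg hgn.1, hdisj g₂ hg₂ g hg hgn.2⟩),
        Finset.card_union_of_disjoint hd12] at h3
      have key : ∀ a B : ℕ, 3 ≤ a → 2 * a * B + 4 * I.card = 4 * I.card * a →
          4 * I.card ≤ 3 * B := by
        intro a B ha hB
        by_contra hlt
        have h6 : 2 * a * (3 * B + 1) ≤ 2 * a * (4 * I.card) :=
          Nat.mul_le_mul_left _ (by omega)
        have h7 : 3 * (4 * I.card) ≤ a * (4 * I.card) := Nat.mul_le_mul_right _ ha
        nlinarith
      have := key a _ ha3 hab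
      have := key b _ hb3 hbb
      have := key c _ hc3 hcc
      omega
    · simp only [Finset.mem_union] at hg
      rcases hg with hg | hg
      · exact hblock g₁ hg₁ g hg
      · exact hblock g₂ hg₂ g hg
  rw [hR2, Finset.sum_union hd12, hsum g₁ hg₁, hsum g₂ hg₂, ha, hb] at hcount
  rw [hR2, Finset.card_union_of_disjoint hd12] at hbound
  have hI2 : I.card + 1 = 2 * a + 2 * b := by
    have h5 : I.card * (2 * I.card + 8) = I.card * (6 + 4 * a + 4 * b) := by
      linear_combination 2 * hcount + hab + hbb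
    have := Nat.eq_of_mul_eq_mul_left hI0 h5
    omega
  have hsmall : a * b < 2 * a + 2 * b := by
    by_contra hge
    have h1 : a * b * ((block g₁).card + (block g₂).card + I.card + 1) ≤ a * b * (4 * I.card) :=
      Nat.mul_le_mul_left _ hbound
    have h2 : 0 < a * b := by positivity
    have h3 : (2 * a + 2 * b) * I.card ≤ a * b * I.card := Nat.mul_le_mul_right _ (by omega)
    nlinarith
  have hle : a ≤ 5 ∧ b ≤ 5 := by constructor <;> nlinarith
  obtain ⟨k, rfl⟩ := haodd
  obtain ⟨l, rfl⟩ := hbodd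
  rw [hi]
  obtain ⟨hk, hl⟩ : (k = 1 ∨ k = 2) ∧ (l = 1 ∨ l = 2) := by omega
  rcases hk with rfl | rfl <;> rcases hl with rfl | rfl <;> omega

/-- A group of order `60` with such centralizers is `A₅`. -/
theorem mulEquiv_alternating (x : G) (hx : orderOf x = 2)
    (hconj : ∀ u : G, orderOf u = 2 → IsConj x u)
    (hC : ∀ u : G, orderOf u = 2 → Nat.card (Subgroup.centralizer ({u} : Set G)) = 4 ∧
      ∀ c ∈ Subgroup.centralizer ({u} : Set G), c ^ 2 = 1)
    (hG : Nat.card G = 60) : Nonempty (G ≃* alternatingGroup (Fin 5)) := by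
  classical
  haveI := Fintype.ofFinite G
  haveI : Fact (Nat.Prime 2) := ⟨Nat.prime_two⟩
  have hfac : (60 : ℕ).factorization 2 = 2 := by
    refine le_antisymm ?_ ?_
    · by_contra h
      have := (Nat.Prime.pow_dvd_iff_le_factorization Nat.prime_two (by norm_num : (60 : ℕ) ≠ 0)
        (k := 3)).2 (by omega)
      norm_num at this
    · exact (Nat.Prime.pow_dvd_iff_le_factorization Nat.prime_two (by norm_num)).1 (by norm_num)
  have hS4 : ∀ S : Sylow 2 G, Nat.card (S : Subgroup G) = 4 := fun S => by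
    rw [S.card_eq_multiplicity, hG, hfac]
    norm_num
  have hSC : ∀ (S : Sylow 2 G) (u : G), orderOf u = 2 → u ∈ (S : Subgroup G) →
      (S : Subgroup G) = Subgroup.centralizer ({u} : Set G) := by
    intro S u hu hmem
    refine Subgroup.eq_of_le_of_card_ge (fun s hs => mem_cent.2 ?_) (by rw [(hC u hu).1, hS4])
    obtain ⟨a, ha⟩ : ∃ a, a = (⟨s, hs⟩ : (S : Subgroup G)) := ⟨_, rfl⟩
    have hcomm := IsPGroup.isMulCommutative_of_card_eq_prime_sq (p := 2)
      (by rw [hS4]; norm_num : Nat.card (S : Subgroup G) = 2 ^ 2)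
    exact congrArg Subtype.val (hcomm.is_comm.comm ⟨s, hs⟩ ⟨u, hmem⟩)
  -- every involution lies in exactly one Sylow subgroup
  have hsyl : ∀ u : G, orderOf u = 2 →
      ∃ S : Sylow 2 G, u ∈ (S : Subgroup G) ∧ ∀ T : Sylow 2 G, u ∈ (T : Subgroup G) → T = S := by
    intro u hu
    obtain ⟨S, hS⟩ := (show IsPGroup 2 (Subgroup.centralizer ({u} : Set G)) from
      IsPGroup.of_card (n := 2) (by rw [(hC u hu).1]; norm_num)).exists_le_sylow
    exact ⟨S, hS (self_mem_cent u), fun T hT => Sylow.ext ((hSC T u hu hT).trans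
      (hSC S u hu (hS (self_mem_cent u))).symm)⟩
  choose φ hφ hφu using hsyl
  have hsyl5 : Nat.card (Sylow 2 G) = 5 := by
    haveI := Fintype.ofFinite (Sylow 2 G)
    have h15 : (Finset.univ.filter fun u : G => orderOf u = 2).card = 15 := by
      have h : Nat.card G = 4 * (Finset.univ.filter fun u : G => orderOf u = 2).card := by
        rw [← Subgroup.card_mul_index (Subgroup.centralizer ({x} : Set G)), (hC x hx).1,
          ← Invol.card_isConj_eq_index, Nat.card_eq_fintype_card, Fintype.card_subtype]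
        congr 2
        ext u
        simp only [Finset.mem_filter, Finset.mem_univ, true_and]
        exact ⟨Invol.orderOf_eq_two_of_isConj hx, hconj u⟩
      omega
    have hcount : (((Finset.univ : Finset (Sylow 2 G)) ×ˢ
        (Finset.univ.filter fun u : G => orderOf u = 2)).filter
          (fun p => p.2 ∈ (p.1 : Subgroup G))).card = 15 := by
      rw [← h15]
      refine Finset.card_bij (fun p _ => p.2) (fun p hp => ?_) (fun p hp q hq h => ?_)
        (fun u hu => ?_)
      · simp at hp ⊢; exact hp.1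
      · simp at hp hq
        refine Prod.ext ?_ h
        rw [hφu p.2 hp.1 p.1 hp.2, hφu q.2 hq.1 q.1 hq.2]
        congr 1
      · simp at hu
        exact ⟨(φ u hu, u), by simp [hu, hφ u hu], rfl⟩
    have hrow : ∀ S : Sylow 2 G, ((Finset.univ.filter fun u : G => orderOf u = 2).filter
        fun u => u ∈ (S : Subgroup G)).card = 3 := by
      intro S
      obtain ⟨u, hu⟩ := exists_prime_orderOf_dvd_card' (G := (S : Subgroup G)) 2 (by rw [hS4]; norm_num)
      have hu' : orderOf (u : G) = 2 := by rw [Subgroup.orderOf_coe, hu]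
      have hS := hSC S u hu' u.2
      have h := card_cent_finset (u : G)
      rw [(hC _ hu').1] at h
      have heq : ((Finset.univ.filter fun w : G => orderOf w = 2).filter
          fun w => w ∈ (S : Subgroup G)) =
          Finset.univ.filter fun a : G => a ∈ Subgroup.centralizer ({(u : G)} : Set G) ∧ a ≠ 1 := by
        ext w
        simp only [Finset.mem_filter, Finset.mem_univ, true_and, hS]
        exact ⟨fun h => ⟨h.2, Invol.ne_one_of_invol h.1⟩,
          fun h => ⟨orderOf_eq_prime ((hC _ hu').2 w h.1) h.2, h.1⟩⟩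
      rw [heq]
      omega
    rw [Finset.card_filter, Finset.sum_product] at hcount
    simp_rw [← Finset.card_filter, hrow] at hcount
    rw [Finset.sum_const, smul_eq_mul, Finset.card_univ] at hcount
    rw [Nat.card_eq_fintype_card]
    omega
  -- the action on the five Sylow subgroups is faithful
  have hinj : Function.Injective (MulAction.toPermHom G (Sylow 2 G)) := by
    rw [← MonoidHom.ker_eq_bot_iff]
    set K := (MulAction.toPermHom G (Sylow 2 G)).ker with hK
    have hKn : ∀ k ∈ K, ∀ S : Sylow 2 G, k ∈ Subgroup.normalizer ((S : Subgroup G) : Set G) := by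
      intro k hk S
      exact Sylow.smul_eq_iff_mem_normalizer.1
        (congrArg (fun e : Equiv.Perm (Sylow 2 G) => e S) hk)
    have hKinv : ∀ u : G, orderOf u = 2 → u ∉ K := by
      intro u hu huK
      have hall : ∀ S : Sylow 2 G, u ∈ (S : Subgroup G) := by
        intro S
        have hsup := IsPGroup.to_sup_of_normal_right' (show IsPGroup 2 (Subgroup.zpowers u) from
          IsPGroup.of_card (n := 1) (by rw [Nat.card_zpowers, hu, pow_one])) S.isPGroup'
          (Subgroup.zpowers_le.2 (hKn u huK S))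
        exact (S.is_maximal' hsup le_sup_right).le (Subgroup.mem_sup_left (Subgroup.mem_zpowers u))
      have : Subsingleton (Sylow 2 G) := ⟨fun S T => (hφu u hu S (hall S)).trans
        (hφu u hu T (hall T)).symm⟩
      have := Finite.card_le_one_iff_subsingleton.2 this
      omega
    rw [eq_bot_iff]
    intro k hk
    rw [Subgroup.mem_bot]
    by_contra hk1
    obtain ⟨S, hS, -⟩ : ∃ S : Sylow 2 G, x ∈ (S : Subgroup G) ∧ True := ⟨φ x hx, hφ x hx, trivial⟩
    have hc : k * x * k⁻¹ * x⁻¹ ∈ (S : Subgroup G) :=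
      Subgroup.mul_mem _ ((Subgroup.mem_normalizer_iff.1 (hKn k hk S) x).1 hS)
        (Subgroup.inv_mem _ hS)
    have hc' : k * x * k⁻¹ * x⁻¹ ∈ K := by
      rw [show k * x * k⁻¹ * x⁻¹ = k * (x * k⁻¹ * x⁻¹) by group]
      exact K.mul_mem hk ((MonoidHom.normal_ker _).conj_mem _ (K.inv_mem hk) x)
    have h1 : k * x * k⁻¹ * x⁻¹ = 1 := by
      by_contra h
      refine hKinv _ (orderOf_eq_prime ?_ h) hc'
      rw [hSC S x hx hS] at hc
      exact (hC x hx).2 _ hc
    rw [mul_inv_eq_one, mul_inv_eq_iff_eq_mul] at h1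
    exact hKinv k (orderOf_eq_prime ((hC x hx).2 k (mem_cent.2 h1)) hk1) hk
  obtain ⟨e⟩ : Nonempty (Sylow 2 G ≃ Fin 5) := ⟨Finite.equivFinOfCardEq hsyl5⟩
  let f : G →* Equiv.Perm (Fin 5) :=
    e.permCongrHom.toMonoidHom.comp (MulAction.toPermHom G (Sylow 2 G))
  have hf : Function.Injective f := e.permCongrHom.injective.comp hinj
  have hidx : f.range.index = 2 := by
    have h := Subgroup.card_mul_index f.range
    rw [← Nat.card_congr (MonoidHom.ofInjective hf).toEquiv, hG, Nat.card_perm,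
      Nat.card_fin, show (5 : ℕ).factorial = 120 by decide] at h
    omega
  exact ⟨(MonoidHom.ofInjective hf).trans
    (MulEquiv.subgroupCongr (Equiv.Perm.eq_alternatingGroup_of_index_eq_two hidx))⟩

/-- An involution with elementary centralizer of order four forces `A₅`. -/
theorem main (x : G) (hx : orderOf x = 2)
    (hC4 : Nat.card (Subgroup.centralizer ({x} : Set G)) = 4)
    (hCe : ∀ c ∈ Subgroup.centralizer ({x} : Set G), c ^ 2 = 1)
    (hnc : ¬ Cfsg.HasNormalPComplement 2 G)
    (hne : ∀ E : Subgroup G, E.Normal → Cfsg.IsElementaryAbelian 2 E →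
      Nat.card E ≠ 2 ∧ Nat.card E ≠ 4) :
    Nonempty (G ≃* alternatingGroup (Fin 5)) := by
  obtain ⟨S, hS⟩ := sylow_eq x hx hC4 hCe hne
  have hconj : ∀ u : G, orderOf u = 2 → IsConj x u :=
    isConj_of_sylow x hx hC4 hCe hnc S hS
  have hC : ∀ u : G, orderOf u = 2 → Nat.card (Subgroup.centralizer ({u} : Set G)) = 4 ∧
      ∀ c ∈ Subgroup.centralizer ({u} : Set G), c ^ 2 = 1 := by
    intro u hu
    obtain ⟨g, rfl⟩ := isConj_iff.1 (hconj u hu)
    refine ⟨by rw [card_cent_conj, hC4], fun c hc => ?_⟩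
    have h := hCe _ (conj_mem_cent_iff.1 hc)
    calc c ^ 2 = g * (g⁻¹ * c * g) ^ 2 * g⁻¹ := by rw [pow_two, pow_two]; group
      _ = 1 := by rw [h]; group
  refine mulEquiv_alternating x hx hconj hC (card_eq_sixty x hx hconj hC fun hN => ?_)
  exact (hne _ hN ⟨⟨⟨fun a b => Subtype.ext (comm_of_exp_two hCe a.2 b.2)⟩⟩, hCe⟩).2 hC4

end CfsgLib.InvChar.ElemFour
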