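import Mathlib.GroupTheory.Sylow
import Mathlib.GroupTheory.PGroup

/-!
Small helpers about conjugates of subgroups and Sylow subgroups, for the involution
characterisation topic.
-/

set_option autoImplicit false

namespace CfsgLib.InvChar

variable {G : Type*} [Group G]

/-- Conjugate `g H g⁻¹` of a subgroup. -/
abbrev conjSub (g : G) (H : Subgroup G) : Subgroup G := H.map (MulAut.conj g).toMonoidHom

theorem mem_conjSub {g x : G} {H : Subgroup G} : x ∈ conjSub g H ↔ g⁻¹ * x * g ∈ H := by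
  constructor
  · rintro ⟨y, hy, rfl⟩
    simpa [mul_assoc] using hy
  · intro h
    exact ⟨g⁻¹ * x * g, h, by simp [mul_assoc]⟩

theorem conj_mem_conjSub {g x : G} {H : Subgroup G} (h : x ∈ H) : g * x * g⁻¹ ∈ conjSub g H :=
  ⟨x, h, by simp⟩

theorem conjSub_one (H : Subgroup G) : conjSub (1 : G) H = H := by
  ext x; simp

theorem conjSub_mul (g h : G) (H : Subgroup G) :
    conjSub g (conjSub h H) = conjSub (g * h) H := by
  ext x; simp only [mem_conjSub, mul_inv_rev, mul_assoc]

theorem conjSub_mono (g : G) {H K : Subgroup G} (h : H ≤ K) : conjSub g H ≤ conjSub g K :=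
  Subgroup.map_mono h

theorem conjSub_le_iff {g : G} {H K : Subgroup G} : conjSub g H ≤ K ↔ H ≤ conjSub g⁻¹ K := by
  constructor
  · intro h x hx
    rw [mem_conjSub, inv_inv]
    exact h (conj_mem_conjSub hx)
  · intro h x hx
    have := h (mem_conjSub.mp hx)
    rw [mem_conjSub, inv_inv] at this
    simpa [mul_assoc] using this

theorem card_conjSub (g : G) (H : Subgroup G) : Nat.card ↥(conjSub g H) = Nat.card ↥H :=
  Subgroup.card_map_of_injective (MulAut.conj g).injective

theorem isPGroup_conjSub {p : ℕ} {H : Subgroup G} (hH : IsPGroup p ↥H) (g : G) :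
    IsPGroup p ↥(conjSub g H) := hH.map _

theorem mem_normalizer_iff_conjSub {g : G} {H : Subgroup G} :
    g ∈ Subgroup.normalizer (H : Set G) ↔ conjSub g H = H := by
  rw [Subgroup.mem_normalizer_iff]
  constructor
  · intro h
    ext x
    rw [mem_conjSub]
    have := h (g⁻¹ * x * g)
    simp only [mul_assoc, mul_inv_cancel_left, mul_inv_cancel, mul_one] at this
    simpa [mul_assoc] using this
  · intro h x
    constructor
    · intro hx
      have := conj_mem_conjSub (g := g) hx
      rwa [h] at this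
    · intro hx
      rw [← h] at hx
      have := mem_conjSub.mp hx
      simpa [mul_assoc] using this

theorem conjSub_eq_of_le [Finite G] {g : G} {H K : Subgroup G} (h : conjSub g H ≤ K)
    (hc : Nat.card ↥K ≤ Nat.card ↥H) : conjSub g H = K :=
  Subgroup.eq_of_le_of_card_ge h (by rw [card_conjSub]; exact hc)

/-- Sylow: every `p`-subgroup is conjugate into a given Sylow `p`-subgroup. -/
theorem exists_conjSub_le_sylow [Finite G] {p : ℕ} [Fact p.Prime] {P : Subgroup G}
    (hP : IsPGroup p ↥P) (S : Sylow p G) : ∃ g : G, conjSub g P ≤ (S : Subgroup G) := by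
  obtain ⟨Q, hQ⟩ := hP.exists_le_sylow
  obtain ⟨g, hg⟩ := MulAction.exists_smul_eq G Q S
  refine ⟨g, ?_⟩
  rw [← hg, Sylow.coe_subgroup_smul]
  exact conjSub_mono g hQ

/-- Two Sylow `p`-subgroups are conjugate. -/
theorem exists_conjSub_eq_sylow [Finite G] {p : ℕ} [Fact p.Prime] (Q S : Sylow p G) :
    ∃ g : G, conjSub g (Q : Subgroup G) = (S : Subgroup G) := by
  obtain ⟨g, hg⟩ := MulAction.exists_smul_eq G Q S
  refine ⟨g, ?_⟩
  rw [← hg, Sylow.coe_subgroup_smul]
  rfl

/-- Inside a subgroup `K`, two `p`-subgroups can be moved by an element of `K` into one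
`p`-subgroup. -/
theorem exists_join_pGroup [Finite G] {p : ℕ} [Fact p.Prime] {K P Q : Subgroup G}
    (hP : IsPGroup p ↥P) (hPK : P ≤ K) (hQ : IsPGroup p ↥Q) (hQK : Q ≤ K) :
    ∃ k ∈ K, ∃ R : Subgroup G, IsPGroup p ↥R ∧ R ≤ K ∧ P ≤ R ∧ conjSub k Q ≤ R := by
  have hP' : IsPGroup p ↥(P.subgroupOf K) := hP.comap_of_injective _ K.subtype_injective
  have hQ' : IsPGroup p ↥(Q.subgroupOf K) := hQ.comap_of_injective _ K.subtype_injective
  obtain ⟨R, hR⟩ := hP'.exists_le_sylow
  obtain ⟨k, hk⟩ := exists_conjSub_le_sylow hQ' R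
  refine ⟨k, k.2, (R : Subgroup ↥K).map K.subtype, R.isPGroup'.map _,
    Subgroup.map_subtype_le _, ?_, ?_⟩
  · intro x hx
    exact ⟨⟨x, hPK hx⟩, hR hx, rfl⟩
  · intro x hx
    rw [mem_conjSub] at hx
    have hxK : x ∈ K := by
      have := K.mul_mem (K.mul_mem k.2 (hQK hx)) (K.inv_mem k.2)
      simpa [mul_assoc] using this
    exact ⟨⟨x, hxK⟩, hk (mem_conjSub.mpr (by
      show ((k⁻¹ * (⟨x, hxK⟩ : ↥K) * k : ↥K) : G) ∈ Q
      simpa using hx)), rfl⟩

/-- A nontrivial normal subgroup of a finite `p`-group meets the centre nontrivially. -/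
theorem exists_ne_one_mem_center_of_normal [Finite G] {p : ℕ} [Fact p.Prime] (hG : IsPGroup p G)
    (N : Subgroup G) [N.Normal] (hN : N ≠ ⊥) : ∃ z ∈ N, z ≠ 1 ∧ z ∈ Subgroup.center G := by
  let _inst : MulAction G ↥N := MulAction.compHom ↥N (MulAut.conjNormal : G →* MulAut ↥N)
  have hdvd : p ∣ Nat.card ↥N := by
    rcases (hG.to_subgroup N).card_eq_or_dvd with h | h
    · exact absurd (Subgroup.card_eq_one.mp h) hN
    · exact h
  have h1 : (1 : ↥N) ∈ MulAction.fixedPoints G ↥N := fun g => by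
    show MulAut.conjNormal g (1 : ↥N) = 1
    exact map_one _
  obtain ⟨b, hb, hb1⟩ := hG.exists_fixed_point_of_prime_dvd_card_of_fixed_point ↥N hdvd h1
  refine ⟨b, b.2, fun h => hb1 (Subtype.ext h.symm), Subgroup.mem_center_iff.mpr fun g => ?_⟩
  have h := congrArg Subtype.val (hb g)
  change ((MulAut.conjNormal g b : ↥N) : G) = b at h
  rw [MulAut.conjNormal_apply] at h
  calc g * (b : G) = (g * b * g⁻¹) * g := by simp [mul_assoc]
    _ = b * g := by rw [h]

end CfsgLib.InvChar
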