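import Cfsg.Agent.Lib.PGroup.Basic
import Mathlib.GroupTheory.SpecificGroups.Cyclic
import Mathlib.Data.Int.GCD
import Mathlib.RingTheory.Coprime.Lemmas
import Mathlib.RingTheory.Int.Basic
import Mathlib.Tactic.Ring
import Mathlib.Tactic.LinearCombination

/-!
Non-abelian 2-groups with a single involution (generalised quaternion groups), in the form
needed for the involution-characterisation topic.
-/

set_option autoImplicit false

namespace CfsgLib.InvChar

variable {S : Type*} [Group S] [Finite S]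

/-- An element outside a normal subgroup of a 2-group has a power outside whose square is inside. -/
theorem exists_pow_sq_mem (hS : IsPGroup 2 S) {H : Subgroup S} {b : S} (hb : b ∉ H) :
    ∃ i : ℕ, b ^ (2 ^ i) ∉ H ∧ b ^ (2 ^ i) * b ^ (2 ^ i) ∈ H := by
  by_contra hcon
  push Not at hcon
  have : ∀ i : ℕ, b ^ (2 ^ i) ∉ H := by
    intro i
    induction i with
    | zero => simpa using hb
    | succ i ih =>
      rw [pow_succ, pow_mul, pow_two]
      exact hcon i ih
  obtain ⟨k, hk⟩ := hS b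
  exact this k (by rw [hk]; exact H.one_mem)

theorem zpow_eq_zpow_iff_dvd {a : S} {k : ℕ} (ha : orderOf a = 2 ^ k) (i j : ℤ) :
    a ^ i = a ^ j ↔ (2 : ℤ) ^ k ∣ j - i := by
  rw [zpow_eq_zpow_iff_modEq, Int.modEq_iff_dvd, ha]
  simp

theorem sq_eq_one_mem {H : Subgroup S} (huniq : ∃! x : S, orderOf x = 2)
    (hH : ∃ x ∈ H, orderOf x = 2) {b : S} (hb : b * b = 1) : b ∈ H := by
  by_cases h1 : b = 1
  · rw [h1]; exact H.one_mem
  · obtain ⟨x, hxH, hx⟩ := hH
    have h2 : orderOf b = 2 := orderOf_eq_prime (by rw [pow_two, hb]) h1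
    rwa [huniq.unique h2 hx]

/-- A commutative subgroup of a 2-group with one involution is cyclic. -/
theorem exists_zpowers_eq_of_commutative (hS : IsPGroup 2 S) (huniq : ∃! x : S, orderOf x = 2)
    (A : Subgroup S) (hA : IsMulCommutative A) : ∃ a : S, Subgroup.zpowers a = A := by
  obtain ⟨⟨a, ha⟩, hmax⟩ := Finite.exists_max (fun x : ↥A => orderOf (x : S))
  refine ⟨a, le_antisymm (Subgroup.zpowers_le.mpr ha) fun b hb => ?_⟩
  by_contra hbA
  obtain ⟨i, hi1, hi2⟩ := exists_pow_sq_mem hS hbA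
  set c := b ^ (2 ^ i)
  have hcA : c ∈ A := A.pow_mem hb _
  obtain ⟨t, ht⟩ := Subgroup.mem_zpowers_iff.mp hi2
  obtain ⟨k, hk⟩ := IsPGroup.iff_orderOf.mp hS a
  rcases Nat.eq_zero_or_pos k with h0 | h0
  · rw [h0, pow_zero, orderOf_eq_one_iff] at hk
    have h : orderOf b ≤ orderOf a := hmax ⟨b, hb⟩
    rw [hk, orderOf_one] at h
    have hb1 : b = 1 := orderOf_eq_one_iff.mp (le_antisymm h (orderOf_pos b))
    exact hbA (hb1 ▸ Subgroup.one_mem _)
  have hinv : ∃ x ∈ Subgroup.zpowers a, orderOf x = 2 := by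
    refine ⟨a ^ 2 ^ (k - 1), Subgroup.pow_mem _ (Subgroup.mem_zpowers a) _, ?_⟩
    rw [orderOf_pow_of_dvd (by positivity) (hk ▸ pow_dvd_pow 2 (by omega)), hk,
      Nat.pow_div (by omega) (by omega), show k - (k - 1) = 1 by omega, pow_one]
  rcases Int.even_or_odd t with ⟨s, hs⟩ | ⟨s, hs⟩
  · have hcomm : Commute c (a ^ (-s)) :=
      (show Commute c a from setLike_mul_comm hcA ha).zpow_right _
    have h1 : (c * a ^ (-s)) * (c * a ^ (-s)) = 1 := by
      rw [hcomm.symm.mul_mul_mul_comm, ← ht, ← zpow_add, ← zpow_add, hs]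
      simp
    have h2 := sq_eq_one_mem huniq hinv h1
    exact hi1 ((Subgroup.mul_mem_cancel_right _ (Subgroup.zpow_mem _ (Subgroup.mem_zpowers a) _)).mp h2)
  · have hcc : orderOf (c * c) = orderOf a := by
      rw [← ht]
      apply dvd_antisymm
      · exact orderOf_dvd_of_pow_eq_one
          (by rw [← zpow_natCast, ← zpow_mul, mul_comm, zpow_mul, zpow_natCast, pow_orderOf_eq_one, one_zpow])
      · have hz : (a ^ t) ^ (orderOf (a ^ t) : ℤ) = 1 := by rw [zpow_natCast, pow_orderOf_eq_one]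
        rw [← zpow_mul, ← orderOf_dvd_iff_zpow_eq_one, hk] at hz
        rw [hk]
        have hcop : IsCoprime ((2 : ℤ) ^ k) t := by
          apply IsCoprime.pow_left
          rw [Int.isCoprime_iff_gcd_eq_one, Int.gcd_comm]
          rw [hs]
          simp
        have := hcop.dvd_of_dvd_mul_left (by exact_mod_cast hz)
        exact_mod_cast this
    have h3 : orderOf c ≤ orderOf a := hmax ⟨c, hcA⟩
    obtain ⟨m, hm⟩ := IsPGroup.iff_orderOf.mp hS c
    rcases Nat.eq_zero_or_pos m with hm0 | hm0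
    · rw [hm0, pow_zero, orderOf_eq_one_iff] at hm
      exact hi1 (hm ▸ Subgroup.one_mem _)
    have h4 : orderOf (c * c) < orderOf c := by
      rw [← pow_two, orderOf_pow_of_dvd two_ne_zero (hm ▸ dvd_pow_self 2 hm0.ne'), hm]
      exact Nat.div_lt_self (Nat.two_pow_pos m) one_lt_two
    omega

/-- A non-abelian 2-group with one involution has a cyclic subgroup of index 2 whose complement
consists of elements inverting it and squaring to its involution. -/
theorem exists_cyclic_index_two_of_unique_involution (hS : IsPGroup 2 S)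
    (hna : ¬ IsMulCommutative S) (huniq : ∃! x : S, orderOf x = 2) :
    ∃ (k : ℕ) (a : S), 2 ≤ k ∧ orderOf a = 2 ^ k ∧ (Subgroup.zpowers a).index = 2 ∧
      ∀ y, y ∉ Subgroup.zpowers a → y * a * y⁻¹ = a⁻¹ ∧ y * y = a ^ (2 ^ (k - 1)) := by
  classical
  obtain ⟨A, ⟨hAn, hAc⟩, hmax⟩ := (Set.toFinite {A : Subgroup S | A.Normal ∧ IsMulCommutative A}).exists_maximal
    ⟨⊥, inferInstance, inferInstance⟩
  have := hAn
  have : Fact (Nat.Prime 2) := ⟨Nat.prime_two⟩
  have hC := CfsgLib.PGroup.centralizer_eq_of_maximal_normal_abelian hS A hAc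
    (fun B hB hBc hle => le_antisymm (hmax ⟨hB, hBc⟩ hle) hle)
  obtain ⟨a, rfl⟩ := exists_zpowers_eq_of_commutative hS huniq A hAc
  obtain ⟨k, hk⟩ := IsPGroup.iff_orderOf.mp hS a
  have hcomm_mem : ∀ y : S, y * a * y⁻¹ = a → y ∈ Subgroup.zpowers a := by
    intro y hy
    rw [← hC, Subgroup.mem_centralizer_iff]
    intro b hb
    obtain ⟨i, rfl⟩ := Subgroup.mem_zpowers_iff.mp hb
    have : Commute y a := mul_inv_eq_iff_eq_mul.mp hy
    exact (this.zpow_right i).symm.eq
  have hinner : ∀ y : S, y ∈ Subgroup.zpowers a → y * a * y⁻¹ = a := by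
    intro y hy
    obtain ⟨i, rfl⟩ := Subgroup.mem_zpowers_iff.mp hy
    rw [(Commute.refl a).zpow_left i |>.eq, mul_inv_cancel_right]
  have hk2 : 2 ≤ k := by
    by_contra hlt
    apply hna
    have htop : Subgroup.zpowers a = ⊤ := by
      rw [eq_top_iff]
      intro y _
      apply hcomm_mem
      obtain ⟨i, hi⟩ := Subgroup.mem_zpowers_iff.mp (hAn.conj_mem a (Subgroup.mem_zpowers a) y)
      have hk' : k = 0 ∨ k = 1 := by omega
      rcases hk' with rfl | rfl
      · rw [pow_zero, orderOf_eq_one_iff] at hk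
        subst hk; simp
      · rw [← hi, ← zpow_mod_orderOf, hk]
        rcases Int.emod_two_eq_zero_or_one i with h | h
        · exfalso
          have h' : a ^ i = 1 := by
            rw [← zpow_mod_orderOf, hk, show ((2 ^ 1 : ℕ) : ℤ) = 2 from rfl, h, zpow_zero]
          rw [h', eq_comm] at hi
          have ha1 : a = 1 := by
            have := congrArg (fun z => y⁻¹ * z * y) hi
            simpa [mul_assoc] using this
          rw [ha1, orderOf_one] at hk
          norm_num at hk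
        · rw [show ((2 ^ 1 : ℕ) : ℤ) = 2 from rfl, h, zpow_one]
    rw [htop] at hAc
    exact ⟨⟨fun x y => setLike_mul_comm (S := Subgroup S) (Subgroup.mem_top x) (Subgroup.mem_top y)⟩⟩
  have hP : (2 : ℤ) ^ k = 2 * 2 ^ (k - 1) := by
    rw [← pow_succ', Nat.sub_add_cancel (by omega)]
  set P : ℤ := 2 ^ (k - 1) with hPdef
  have hPpos : 0 < P := by positivity
  have hinv : ∃ x ∈ Subgroup.zpowers a, orderOf x = 2 := by
    refine ⟨a ^ 2 ^ (k - 1), Subgroup.pow_mem _ (Subgroup.mem_zpowers a) _, ?_⟩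
    rw [orderOf_pow_of_dvd (by positivity) (hk ▸ pow_dvd_pow 2 (by omega)), hk,
      Nat.pow_div (by omega) (by omega), show k - (k - 1) = 1 by omega, pow_one]
  -- the action of every element
  have hact : ∀ y : S, ∃ s : ℤ, y * a * y⁻¹ = a ^ s := fun y => by
    obtain ⟨i, hi⟩ := Subgroup.mem_zpowers_iff.mp (hAn.conj_mem a (Subgroup.mem_zpowers a) y)
    exact ⟨i, hi.symm⟩
  have hact2 : ∀ (y : S) (s : ℤ), y * a * y⁻¹ = a ^ s → (y * y) * a * (y * y)⁻¹ = a ^ (s * s) := by
    intro y s h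
    calc (y * y) * a * (y * y)⁻¹ = y * (y * a * y⁻¹) * y⁻¹ := by simp [mul_assoc]
      _ = y * a ^ s * y⁻¹ := by rw [h]
      _ = (y * a * y⁻¹) ^ s := conj_zpow.symm
      _ = a ^ (s * s) := by rw [h, ← zpow_mul]
  -- elements with square in A invert a
  have hkey : ∀ y : S, y ∉ Subgroup.zpowers a → y * y ∈ Subgroup.zpowers a →
      y * a * y⁻¹ = a⁻¹ ∧ y * y = a ^ P := by
    intro y hyA hy2
    obtain ⟨s, hs⟩ := hact y
    obtain ⟨t, ht⟩ := Subgroup.mem_zpowers_iff.mp hy2
    have h1 : (2 : ℤ) ^ k ∣ s * s - 1 := by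
      rw [← zpow_eq_zpow_iff_dvd hk, zpow_one, ← hact2 y s hs, hinner _ hy2]
    have h2 : (2 : ℤ) ^ k ∣ t * s - t := by
      rw [← zpow_eq_zpow_iff_dvd hk, mul_comm, zpow_mul, ← hs, conj_zpow, ht]
      simp [mul_assoc]
    have hnone : ∀ i : ℤ, ¬ (2 : ℤ) ^ k ∣ t + i * (s + 1) := by
      intro i h
      apply hyA
      have hya : y * a ^ i * y⁻¹ = a ^ (s * i) := by rw [← conj_zpow, hs, zpow_mul]
      have h3 : (a ^ i * y) * (a ^ i * y) = 1 := by
        calc (a ^ i * y) * (a ^ i * y) = a ^ i * (y * a ^ i * y⁻¹) * (y * y) := by simp [mul_assoc]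
          _ = a ^ (t + i * (s + 1)) := by
              rw [hya, ← ht, ← zpow_add, ← zpow_add]; congr 1; ring
          _ = a ^ (0 : ℤ) := by rw [zpow_eq_zpow_iff_dvd hk, zero_sub]; exact dvd_neg.mpr h
          _ = 1 := zpow_zero a
      exact (Subgroup.mul_mem_cancel_left _ (Subgroup.zpow_mem _ (Subgroup.mem_zpowers a) i)).mp
        (sq_eq_one_mem huniq hinv h3)
    -- s is odd
    obtain ⟨u, hu⟩ : Odd s := by
      rw [← Int.not_even_iff_odd]
      rintro ⟨c, hc⟩
      obtain ⟨d, hd⟩ := h1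
      rw [hc, hP] at hd
      have hd' : 2 * (2 * (c * c)) - 1 = 2 * (P * d) := by linear_combination hd
      omega
    subst hu
    -- a divisor of a product of 2-power and an odd number
    have hodd : ∀ (n : ℕ) (o x : ℤ), Odd o → (2 : ℤ) ^ n ∣ o * x → (2 : ℤ) ^ n ∣ x := by
      intro n o x ho h
      have hc : IsCoprime ((2 : ℤ) ^ n) o := by
        apply IsCoprime.pow_left
        obtain ⟨m, rfl⟩ := ho
        exact ⟨-m, 1, by ring⟩
      exact hc.dvd_of_dvd_mul_left h
    have hhalf : ∀ x : ℤ, (2 : ℤ) ^ k ∣ 2 * x → P ∣ x := by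
      intro x h
      rw [hP] at h
      exact (mul_dvd_mul_iff_left two_ne_zero).mp h
    rcases Int.even_or_odd u with ⟨w, hw⟩ | ⟨w, hw⟩
    · exfalso
      subst hw
      -- s = 4w+1
      have hPw : P ∣ 4 * w := by
        have : (2 : ℤ) ^ k ∣ 2 * ((2 * w + 1) * (4 * w)) := by convert h1 using 1; ring
        exact hodd (k - 1) _ _ ⟨w, rfl⟩ (hhalf _ this)
      obtain ⟨f, hf⟩ := hPw
      rcases Int.even_or_odd f with ⟨g, hg⟩ | ⟨g, hg⟩
      · apply hyA
        apply hcomm_mem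
        rw [hs]
        conv_rhs => rw [← zpow_one a]
        rw [zpow_eq_zpow_iff_dvd hk]
        exact ⟨-g, by rw [hP]; rw [hg] at hf; linear_combination -hf⟩
      · -- t is even
        have ht2 : (2 : ℤ) ∣ t := by
          have h4 : (2 : ℤ) ^ k ∣ P * (f * t) := by
            convert h2 using 1; linear_combination -t * hf
          rw [hP, mul_comm 2 P] at h4
          have h5 : (2 : ℤ) ^ 1 ∣ f * t := by simpa using (mul_dvd_mul_iff_left hPpos.ne').mp h4
          simpa using hodd 1 f t ⟨g, hg⟩ h5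
        obtain ⟨t', rfl⟩ := ht2
        have hc : IsCoprime (2 * w + 1) P := by
          rw [hPdef]
          exact IsCoprime.pow_right ⟨1, -w, by ring⟩
        obtain ⟨α, β, hαβ⟩ := hc
        refine hnone (-t' * α) ⟨t' * β, ?_⟩
        rw [hP]
        linear_combination -2 * t' * hαβ
    · subst hw
      -- s = 4w+3
      have hPw : P ∣ 4 * w + 4 := by
        have : (2 : ℤ) ^ k ∣ 2 * ((2 * w + 1) * (4 * w + 4)) := by convert h1 using 1; ring
        exact hodd (k - 1) _ _ ⟨w, rfl⟩ (hhalf _ this)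
      obtain ⟨f, hf⟩ := hPw
      have hPt : P ∣ t := by
        have : (2 : ℤ) ^ k ∣ 2 * ((2 * w + 1) * t) := by convert h2 using 1; ring
        exact hodd (k - 1) _ _ ⟨w, rfl⟩ (hhalf _ this)
      obtain ⟨e, rfl⟩ := hPt
      rcases Int.even_or_odd f with ⟨g, hg⟩ | ⟨g, hg⟩
      · refine ⟨?_, ?_⟩
        · rw [hs, ← zpow_neg_one, zpow_eq_zpow_iff_dvd hk]
          exact ⟨-g, by rw [hP]; rw [hg] at hf; linear_combination -hf⟩
        · rw [← ht, zpow_eq_zpow_iff_dvd hk]
          rcases Int.even_or_odd e with ⟨c, hc⟩ | ⟨c, hc⟩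
          · exact absurd ⟨c, by rw [hP, hc]; ring⟩ (hnone 0)
          · exact ⟨-c, by rw [hP, hc]; ring⟩
      · exfalso
        refine hnone e ⟨e * (g + 1), ?_⟩
        rw [hP]; rw [hg] at hf
        linear_combination e * hf
  have hsq : ∀ y : S, y * y ∈ Subgroup.zpowers a := by
    intro y
    by_cases hy : y ∈ Subgroup.zpowers a
    · exact Subgroup.mul_mem _ hy hy
    obtain ⟨i, hi1, hi2⟩ := exists_pow_sq_mem hS hy
    rcases Nat.eq_zero_or_pos i with hi0 | hi0
    · subst hi0; simpa using hi2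
    · exfalso
      obtain ⟨hinvz, -⟩ := hkey _ hi1 hi2
      have hz : y ^ 2 ^ i = y ^ 2 ^ (i - 1) * y ^ 2 ^ (i - 1) := by
        rw [← pow_add]; congr 1; rw [← two_mul, ← pow_succ', Nat.sub_add_cancel hi0]
      obtain ⟨s, hs⟩ := hact (y ^ 2 ^ (i - 1))
      rw [hz, hact2 _ s hs, ← zpow_neg_one, zpow_eq_zpow_iff_dvd hk] at hinvz
      have h4 : (4 : ℤ) ∣ -1 - s * s := by
        refine dvd_trans ?_ hinvz
        exact (show (4 : ℤ) = 2 ^ 2 by norm_num) ▸ pow_dvd_pow 2 hk2
      obtain ⟨d, hd⟩ := h4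
      rcases Int.even_or_odd s with ⟨c, rfl⟩ | ⟨c, rfl⟩
      · have : -1 - 4 * (c * c) = 4 * d := by linear_combination hd
        omega
      · have : -2 - 4 * (c * c + c) = 4 * d := by linear_combination hd
        omega
  have hall : ∀ y, y ∉ Subgroup.zpowers a → y * a * y⁻¹ = a⁻¹ ∧ y * y = a ^ (2 ^ (k - 1)) := by
    intro y hy
    obtain ⟨h1, h2⟩ := hkey y hy (hsq y)
    refine ⟨h1, ?_⟩
    rw [h2, ← zpow_natCast, hPdef]
    simp
  refine ⟨k, a, hk2, hk, ?_, hall⟩
  have hne : Subgroup.zpowers a ≠ ⊤ := by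
    intro htop
    apply hna
    rw [htop] at hAc
    exact ⟨⟨fun x y => setLike_mul_comm (S := Subgroup S) (Subgroup.mem_top x) (Subgroup.mem_top y)⟩⟩
  obtain ⟨y, -, hy⟩ := SetLike.exists_of_lt (lt_top_iff_ne_top.mpr hne)
  rw [Subgroup.index_eq_two_iff]
  refine ⟨y, fun b => ?_⟩
  by_cases hb : b ∈ Subgroup.zpowers a
  · exact Or.inr ⟨hb, fun h => hy ((Subgroup.mul_mem_cancel_left _ hb).mp h)⟩
  · refine Or.inl ⟨?_, hb⟩
    apply hcomm_mem
    calc b * y * a * (b * y)⁻¹ = b * (y * a * y⁻¹) * b⁻¹ := by simp [mul_assoc]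
      _ = (b * a * b⁻¹)⁻¹ := by rw [(hall y hy).1]; simp [mul_assoc]
      _ = a := by rw [(hall b hb).1, inv_inv]

end CfsgLib.InvChar
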