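import Cfsg.Prelude.Def_CaseTheorems
import Cfsg.Agent.Lib.Invol.Dihedral
import Cfsg.Agent.Lib.Solvable.Core

/-!
Consequences of the Z* theorem, with the theorem itself as a hypothesis (`ZStar`).
-/

set_option autoImplicit false

namespace CfsgLib.InvChar

/-- The statement of the Z* theorem for a group. -/
def ZStar (G : Type*) [Group G] [Finite G] : Prop :=
  ∀ (P : Sylow 2 G) (u : G), orderOf u = 2 → u ∈ P → (∀ g : G, g * u * g⁻¹ ∈ P → g * u * g⁻¹ = u) →
    ∃ N : Subgroup G, N.Normal ∧ Odd (Nat.card N) ∧ ∀ g : G, (u * g * u⁻¹ * g⁻¹) ∈ N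

variable {G : Type*} [Group G] [Finite G]

theorem ZStar.commutator_mem_oddCore (hZ : ZStar G) {P : Sylow 2 G} {u : G} (hu : orderOf u = 2)
    (huP : u ∈ P) (hiso : ∀ g : G, g * u * g⁻¹ ∈ P → g * u * g⁻¹ = u) (g : G) :
    u * g * u⁻¹ * g⁻¹ ∈ Cfsg.oddCore G := by
  obtain ⟨N, hN, hodd, h⟩ := hZ P u hu huP hiso
  exact CfsgLib.Solvable.le_pPrimeCore hN (Nat.coprime_two_right.mpr hodd) (h g)

/-- An isolated involution is central modulo the odd core. -/
theorem ZStar.mk_conj_eq (hZ : ZStar G) {P : Sylow 2 G} {u : G} (hu : orderOf u = 2)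
    (huP : u ∈ P) (hiso : ∀ g : G, g * u * g⁻¹ ∈ P → g * u * g⁻¹ = u) (g : G) :
    (QuotientGroup.mk (s := Cfsg.oddCore G) (g * u * g⁻¹)) = QuotientGroup.mk (s := Cfsg.oddCore G) u := by
  rw [QuotientGroup.eq]
  have huinv : u⁻¹ = u := inv_eq_of_mul_eq_one_right
    (by rw [← pow_two, ← hu]; exact pow_orderOf_eq_one u)
  simpa [mul_assoc, huinv] using Subgroup.inv_mem _ (hZ.commutator_mem_oddCore hu huP hiso g)

/-- For an isolated involution `u`, `G = C(u) O(G)`. -/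
theorem ZStar.centralizer_sup_oddCore (hZ : ZStar G) {P : Sylow 2 G} {u : G} (hu : orderOf u = 2)
    (huP : u ∈ P) (hiso : ∀ g : G, g * u * g⁻¹ ∈ P → g * u * g⁻¹ = u) :
    Subgroup.centralizer ({u} : Set G) ⊔ Cfsg.oddCore G = ⊤ := by
  have hn : (Cfsg.oddCore G).Normal := CfsgLib.Solvable.pPrimeCore_normal 2 G
  rw [eq_top_iff]
  intro g _
  have huu : u * u = 1 := by rw [← pow_two, ← hu]; exact pow_orderOf_eq_one u
  set v := g * u * g⁻¹ with hv
  have hvv : v * v = 1 := by rw [hv, conj_mul, huu, mul_one, mul_inv_cancel]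
  have hmem : u * v ∈ Cfsg.oddCore G := by
    have h1 := hZ.commutator_mem_oddCore hu huP hiso g
    rw [inv_eq_of_mul_eq_one_right huu] at h1
    rw [hv, ← mul_assoc, ← mul_assoc]
    exact h1
  have hodd : Odd (orderOf (u * v)) := by
    have h1 := Subgroup.orderOf_dvd_natCard (Cfsg.oddCore G) hmem
    exact (Nat.coprime_two_right.mp (CfsgLib.Solvable.pPrimeCore_card_coprime 2 G)).of_dvd_nat h1
  obtain ⟨h, hh, hconj⟩ : ∃ h ∈ Cfsg.oddCore G, h * u * h⁻¹ = v := by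
    obtain ⟨m, hm⟩ := hodd
    refine ⟨(u * v) ^ (m : ℤ), Subgroup.zpow_mem _ hmem _, ?_⟩
    rw [CfsgLib.Invol.conj_by_zpow huu hvv]
    conv_rhs => rw [CfsgLib.Invol.right_eq v huu]
    congr 1
    rw [← orderOf_dvd_sub_iff_zpow_eq_zpow]
    exact ⟨-1, by rw [hm]; push_cast; ring⟩
  have hC : h⁻¹ * g ∈ Subgroup.centralizer ({u} : Set G) := by
    rw [Subgroup.mem_centralizer_singleton_iff, ← mul_inv_eq_iff_eq_mul]
    calc h⁻¹ * g * u * (h⁻¹ * g)⁻¹ = h⁻¹ * (g * u * g⁻¹) * h := by simp [mul_assoc]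
      _ = u := by rw [← hv, ← hconj]; simp [mul_assoc]
  rw [sup_comm]
  simpa using Subgroup.mul_mem_sup hh hC

end CfsgLib.InvChar
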