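import Cfsg.Agent.S3183
import Cfsg.Agent.Lib.InvChar.Basic
import Cfsg.Agent.Lib.InvChar.ZStarUse

/-!
In a group with central Sylow 2-intersections, the involution of a cyclic characteristic subgroup of a Sylow
2-subgroup is isolated.
-/

set_option autoImplicit false

namespace CfsgLib.InvChar

variable {G : Type*} [Group G] [Finite G]

theorem conj_eq_of_cyclic_characteristic
    (hCI : ∀ S T : Sylow 2 G, S ≠ T → ∃ U : Sylow 2 G,
      (S : Subgroup G) ⊓ (T : Subgroup G) ≤ (Subgroup.center ↥(U : Subgroup G)).map (U : Subgroup G).subtype)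
    (S : Sylow 2 G) (C : Subgroup ↥(S : Subgroup G)) (hCc : IsCyclic ↥C) (hCh : C.Characteristic)
    (c : ↥(S : Subgroup G)) (hc : c ∈ C) (hc2 : orderOf c = 2) (g : G)
    (hg : g * (c : G) * g⁻¹ ∈ (S : Subgroup G)) : g * (c : G) * g⁻¹ = c := by
  classical
  have : Fact (Nat.Prime 2) := ⟨Nat.prime_two⟩
  -- every automorphism of S fixes c
  have hfix : ∀ φ : ↥(S : Subgroup G) ≃* ↥(S : Subgroup G), φ c = c := by
    intro φ
    have h1 : φ c ∈ C := by
      have h := hc
      rw [← hCh.fixed φ] at h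
      exact h
    by_contra hne
    have : Fintype ↥C := Fintype.ofFinite _
    have h := IsCyclic.card_pow_eq_one_le (α := ↥C) (n := 2) (by norm_num)
    have hc1 : (⟨c, hc⟩ : ↥C) ≠ 1 := fun h => by
      have : c = 1 := congrArg Subtype.val h
      rw [this, orderOf_one] at hc2; omega
    have hφ1 : (⟨φ c, h1⟩ : ↥C) ≠ 1 := fun h => by
      have : φ c = 1 := congrArg Subtype.val h
      rw [MulEquiv.map_eq_one_iff] at this
      rw [this, orderOf_one] at hc2; omega
    have hp : c ^ 2 = 1 := orderOf_dvd_iff_pow_eq_one.mp (dvd_of_eq hc2)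
    have hsub : ({1, ⟨c, hc⟩, ⟨φ c, h1⟩} : Finset ↥C) ⊆ Finset.univ.filter (fun a => a ^ 2 = 1) := by
      intro a ha
      simp only [Finset.mem_insert, Finset.mem_singleton] at ha
      simp only [Finset.mem_filter, Finset.mem_univ, true_and]
      rcases ha with rfl | rfl | rfl
      · simp
      · exact Subtype.ext hp
      · exact Subtype.ext (show (φ c) ^ 2 = 1 by rw [← map_pow, hp, map_one])
    have h3 : ({1, ⟨c, hc⟩, ⟨φ c, h1⟩} : Finset ↥C).card = 3 :=
      Finset.card_eq_three.mpr ⟨_, _, _, hc1.symm, hφ1.symm,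
        fun h => hne (congrArg Subtype.val h).symm, rfl⟩
    have := (Finset.card_le_card hsub).trans h
    omega
  -- an element normalising S fixes c
  have hN : ∀ n : G, conjSub n (S : Subgroup G) = (S : Subgroup G) → n * (c : G) * n⁻¹ = c := by
    intro n hn
    let φ : ↥(S : Subgroup G) ≃* ↥(S : Subgroup G) :=
      ((MulAut.conj n).subgroupMap (S : Subgroup G)).trans (MulEquiv.subgroupCongr hn)
    exact congrArg Subtype.val (hfix φ)
  have hcen : ∀ s ∈ (S : Subgroup G), s * (c : G) = c * s := by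
    intro s hs
    have := hN s (mem_normalizer_iff_conjSub.mp (Subgroup.le_normalizer hs))
    exact mul_inv_eq_iff_eq_mul.mp this
  by_cases hgS : conjSub g (S : Subgroup G) = (S : Subgroup G)
  · exact hN g hgS
  set d := g * (c : G) * g⁻¹ with hd
  have hne : S ≠ g • S := by
    intro h
    apply hgS
    have := congrArg (fun T : Sylow 2 G => (T : Subgroup G)) h
    simp only [Sylow.coe_subgroup_smul] at this
    exact this.symm
  have hdZ : ∀ s ∈ (S : Subgroup G), s * d = d * s := by
    have h := Cfsg.Agent.S3183.inter_le_center hCI (Nat.card G) S (g • S) hne le_self_add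
      (show d ∈ (S : Subgroup G) ⊓ ((g • S : Sylow 2 G) : Subgroup G) from
        ⟨hg, conj_mem_conjSub c.2⟩)
    exact (Cfsg.Agent.S3183.mem_centerMap.mp h).2
  -- Burnside: S and gSg⁻¹ are Sylow in C(d)
  have h1 : (S : Subgroup G) ≤ Subgroup.centralizer ({d} : Set G) := fun s hs =>
    Subgroup.mem_centralizer_singleton_iff.mpr (hdZ s hs)
  have h2 : conjSub g (S : Subgroup G) ≤ Subgroup.centralizer ({d} : Set G) := by
    intro s hs
    rw [Subgroup.mem_centralizer_singleton_iff]
    have h := hcen _ (mem_conjSub.mp hs)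
    have := congrArg (fun a => g * a * g⁻¹) h
    simpa [hd, mul_assoc] using this
  obtain ⟨k, hk, R, hR, -, hSR, hgR⟩ :=
    exists_join_pGroup S.isPGroup' h1 (isPGroup_conjSub S.isPGroup' g) h2
  rw [S.is_maximal' hR hSR, conjSub_mul] at hgR
  have h3 := hN (k * g) (conjSub_eq_of_le hgR le_rfl)
  rw [Subgroup.mem_centralizer_singleton_iff] at hk
  calc d = k * d * k⁻¹ := by rw [hk, mul_inv_cancel_right]
    _ = k * g * (c : G) * (k * g)⁻¹ := by rw [hd]; simp [mul_assoc]
    _ = c := h3

theorem ZStar.cyclic_characteristic (hZ : ZStar G)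
    (hCI : ∀ S T : Sylow 2 G, S ≠ T → ∃ U : Sylow 2 G,
      (S : Subgroup G) ⊓ (T : Subgroup G) ≤ (Subgroup.center ↥(U : Subgroup G)).map (U : Subgroup G).subtype)
    (S : Sylow 2 G) (C : Subgroup ↥(S : Subgroup G)) (hCc : IsCyclic ↥C) (hCh : C.Characteristic)
    (c : ↥(S : Subgroup G)) (hc : c ∈ C) (hc2 : orderOf c = 2) (g : G) :
    (QuotientGroup.mk (s := Cfsg.oddCore G) (g * (c : G) * g⁻¹)) =
      QuotientGroup.mk (s := Cfsg.oddCore G) (c : G) :=
  hZ.mk_conj_eq (P := S) (by rw [Subgroup.orderOf_coe]; exact hc2) c.2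
    (fun g hg => conj_eq_of_cyclic_characteristic hCI S C hCc hCh c hc hc2 g hg) g

end CfsgLib.InvChar
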