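import Cfsg.Prelude.Def_CaseTheorems
import Cfsg.Agent.Lib.Solvable.Core
import Cfsg.Agent.Lib.Solvable.UniqueInvolution
import Mathlib.GroupTheory.Sylow
import Mathlib.GroupTheory.Nilpotent

/-!
# Tools for groups with cyclic intersections of Sylow 2-subgroups
-/

set_option autoImplicit false
set_option linter.style.haveILetI false

open scoped Pointwise

namespace CfsgLib.InvChar.CyclicInter

variable {G : Type*} [Group G] [Finite G]

/-- The intersection hypothesis. -/
def CyclicMeet (G : Type*) [Group G] : Prop :=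
  ∀ S T : Sylow 2 G, S ≠ T → IsCyclic ↥((S : Subgroup G) ⊓ (T : Subgroup G))

/-- Two elements which cannot both lie in one cyclic group. -/
def Bad (a b : G) : Prop :=
  ¬ Commute a b ∨ (a * a = 1 ∧ b * b = 1 ∧ a ≠ 1 ∧ b ≠ 1 ∧ a ≠ b)

omit [Finite G] in
theorem commute_of_cyclic {K : Subgroup G} [IsCyclic K] {a b : G} (ha : a ∈ K) (hb : b ∈ K) :
    Commute a b := by
  obtain ⟨c, hc⟩ := IsCyclic.exists_generator (α := K)
  obtain ⟨i, hi⟩ := Subgroup.mem_zpowers_iff.1 (hc ⟨a, ha⟩)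
  obtain ⟨j, hj⟩ := Subgroup.mem_zpowers_iff.1 (hc ⟨b, hb⟩)
  have h := Commute.zpow_zpow (Commute.refl c) i j
  rw [hi, hj] at h
  exact congrArg Subtype.val h

/-- In a finite cyclic group there is at most one involution. -/
theorem eq_of_sq_one {K : Subgroup G} [IsCyclic K] {a b : G} (ha : a ∈ K) (hb : b ∈ K)
    (ha2 : a * a = 1) (hb2 : b * b = 1) (ha1 : a ≠ 1) (hb1 : b ≠ 1) : a = b := by
  classical
  by_contra hab
  haveI : Fintype K := Fintype.ofFinite _
  have h := IsCyclic.card_pow_eq_one_le (α := K) (n := 2) two_pos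
  have hsub : ({1, ⟨a, ha⟩, ⟨b, hb⟩} : Finset K) ⊆ Finset.univ.filter (fun x : K => x ^ 2 = 1) := by
    intro x hx
    simp only [Finset.mem_insert, Finset.mem_singleton] at hx
    refine Finset.mem_filter.2 ⟨Finset.mem_univ _, ?_⟩
    rcases hx with rfl | rfl | rfl
    · simp
    · exact Subtype.ext (by simpa [pow_two] using ha2)
    · exact Subtype.ext (by simpa [pow_two] using hb2)
  have h3 : ({1, ⟨a, ha⟩, ⟨b, hb⟩} : Finset K).card = 3 := by
    rw [Finset.card_insert_of_notMem, Finset.card_insert_of_notMem, Finset.card_singleton]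
    · simp [hab]
    · simp [Subtype.ext_iff, Ne.symm ha1, Ne.symm hb1]
  have := Finset.card_le_card hsub
  omega

theorem not_bad_of_cyclic {K : Subgroup G} [IsCyclic K] {a b : G} (ha : a ∈ K) (hb : b ∈ K) :
    ¬ Bad a b := by
  rintro (h | ⟨h1, h2, h3, h4, h5⟩)
  · exact h (commute_of_cyclic ha hb)
  · exact h5 (eq_of_sq_one ha hb h1 h2 h3 h4)

theorem CyclicMeet.eq_of_bad (hI : CyclicMeet G) {S T : Sylow 2 G} {a b : G} (hab : Bad a b)
    (haS : a ∈ S) (hbS : b ∈ S) (haT : a ∈ T) (hbT : b ∈ T) : S = T := by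
  by_contra h
  haveI := hI S T h
  exact not_bad_of_cyclic (Subgroup.mem_inf.2 ⟨haS, haT⟩) (Subgroup.mem_inf.2 ⟨hbS, hbT⟩) hab

omit [Finite G] in
theorem mem_smul_sylow {S : Sylow 2 G} {g x : G} : x ∈ g • S ↔ g⁻¹ * x * g ∈ S := by
  show x ∈ ((g • S : Sylow 2 G) : Subgroup G) ↔ _
  rw [Sylow.coe_subgroup_smul, Subgroup.mem_pointwise_smul_iff_inv_smul_mem]
  simp [MulAut.smul_def]
  rfl

omit [Finite G] in
theorem conj_mem_smul_sylow {S : Sylow 2 G} {g x : G} (hx : x ∈ S) : g * x * g⁻¹ ∈ g • S := by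
  rw [mem_smul_sylow]
  simpa [mul_assoc] using hx

theorem CyclicMeet.mem_normalizer (hI : CyclicMeet G) {S : Sylow 2 G} {a b g : G} (hab : Bad a b)
    (ha : a ∈ S) (hb : b ∈ S) (hga : g * a * g⁻¹ ∈ S) (hgb : g * b * g⁻¹ ∈ S) :
    g ∈ Subgroup.normalizer ((S : Subgroup G) : Set G) := by
  have h1 : ∀ x : G, g * x * g⁻¹ ∈ S → x ∈ g⁻¹ • S := fun x hx => by
    rw [mem_smul_sylow]; simpa using hx
  have h := hI.eq_of_bad hab ha hb (h1 a hga) (h1 b hgb)
  refine Sylow.smul_eq_iff_mem_normalizer.1 ?_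
  conv_lhs => rw [h]
  exact smul_inv_smul g S

omit [Finite G] in
/-- A 2-element normalizing a Sylow 2-subgroup lies in it. -/
theorem mem_of_mem_normalizer {S : Sylow 2 G} {g : G} {n : ℕ} (h2 : g ^ (2 ^ n) = 1)
    (hg : g ∈ Subgroup.normalizer ((S : Subgroup G) : Set G)) : g ∈ S := by
  have hp : IsPGroup 2 (Subgroup.zpowers g) := by
    rintro ⟨x, hx⟩
    obtain ⟨i, rfl⟩ := Subgroup.mem_zpowers_iff.1 hx
    refine ⟨n, Subtype.ext ?_⟩
    rw [SubmonoidClass.coe_pow, Subgroup.coe_one, ← zpow_natCast, ← zpow_mul, mul_comm, zpow_mul,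
      zpow_natCast, h2, one_zpow]
  have h := hp.inf_normalizer_sylow S
  exact (Subgroup.mem_inf.1 (h ▸ Subgroup.mem_inf.2 ⟨Subgroup.mem_zpowers g, hg⟩)).2

theorem CyclicMeet.mem_of_conj (hI : CyclicMeet G) {S : Sylow 2 G} {a b g : G} {n : ℕ}
    (h2 : g ^ (2 ^ n) = 1) (hab : Bad a b)
    (ha : a ∈ S) (hb : b ∈ S) (hga : g * a * g⁻¹ ∈ S) (hgb : g * b * g⁻¹ ∈ S) : g ∈ S :=
  mem_of_mem_normalizer h2 (hI.mem_normalizer hab ha hb hga hgb)

omit [Finite G] in
/-- A subgroup of a Sylow 2-subgroup consists of 2-elements. -/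
theorem exists_pow_two_pow {S : Sylow 2 G} {g : G} (hg : g ∈ S) : ∃ n : ℕ, g ^ (2 ^ n) = 1 := by
  obtain ⟨n, hn⟩ := S.isPGroup' ⟨g, hg⟩
  exact ⟨n, by simpa using congrArg Subtype.val hn⟩

/-- In a 2-group with a central element of order four and one involution, everything is cyclic. -/
theorem isCyclic_of_unique_involution {P : Type*} [Group P] [Finite P] (hP : IsPGroup 2 P)
    (w : P) (hw : ∀ x : P, x * w = w * x) (hw4 : w * w ≠ 1)
    (huniq : ∀ u v : P, u ^ 2 = 1 → u ≠ 1 → v ^ 2 = 1 → v ≠ 1 → u = v) : IsCyclic P := by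
  rcases CfsgLib.Solvable.isCyclic_or_quaternion_of_unique_involution hP huniq with h | ⟨k, ⟨e⟩⟩
  · exact h
  set n := 2 ^ k with hn
  haveI : NeZero n := ⟨by rw [hn]; positivity⟩
  have hc : ∀ q : QuaternionGroup n, q * e w = e w * q := fun q => by
    obtain ⟨x, rfl⟩ := e.surjective q
    rw [← map_mul, hw, map_mul]
  have hw4' : e w * e w ≠ 1 := fun h => hw4 (e.injective (by rw [map_mul, h, map_one]))
  rcases hq : e w with i | i
  · have h1 := hc (QuaternionGroup.xa 0)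
    rw [hq, QuaternionGroup.xa_mul_a, QuaternionGroup.a_mul_xa] at h1
    have h2 : (0 : ZMod (2 * n)) + i = 0 - i := QuaternionGroup.xa.inj h1
    refine absurd ?_ hw4'
    rw [hq, QuaternionGroup.a_mul_a, ← QuaternionGroup.a_zero]
    congr 1
    calc i + i = i + (0 + i) := by rw [zero_add]
      _ = i + (0 - i) := by rw [h2]
      _ = 0 := by ring
  · have h1 := hc (QuaternionGroup.a 1)
    rw [hq, QuaternionGroup.a_mul_xa, QuaternionGroup.xa_mul_a] at h1
    have h2 : i - 1 = i + (1 : ZMod (2 * n)) := QuaternionGroup.xa.inj h1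
    have h3 : ((2 : ℕ) : ZMod (2 * n)) = 0 := by
      push_cast
      linear_combination -h2
    rw [ZMod.natCast_eq_zero_iff] at h3
    have h4 : n = 1 := by
      have := Nat.le_of_dvd two_pos h3
      have := NeZero.pos n
      omega
    refine isCyclic_of_orderOf_eq_card w ?_
    rw [← e.orderOf_eq, hq, QuaternionGroup.orderOf_xa, Nat.card_congr e.toEquiv,
      Nat.card_eq_fintype_card, QuaternionGroup.card, h4]

/-- In a finite cyclic group, an element whose order divides that of `v` is a power of `v`. -/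
theorem mem_zpowers_of_dvd {K : Subgroup G} [IsCyclic K] {q v : G} (hq : q ∈ K) (hv : v ∈ K)
    (hd : orderOf q ∣ orderOf v) : q ∈ Subgroup.zpowers v := by
  classical
  haveI : Fintype K := Fintype.ofFinite _
  set v' : K := ⟨v, hv⟩
  set n := orderOf v'
  have hn : 0 < n := orderOf_pos v'
  have hle := IsCyclic.card_pow_eq_one_le (α := K) hn
  have hsub : (Finset.range n).image (fun i => v' ^ i) ⊆
      Finset.univ.filter (fun x : K => x ^ n = 1) := by
    intro x hx
    obtain ⟨i, -, rfl⟩ := Finset.mem_image.1 hx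
    refine Finset.mem_filter.2 ⟨Finset.mem_univ _, ?_⟩
    rw [← pow_mul, mul_comm, pow_mul, pow_orderOf_eq_one, one_pow]
  have hcard : ((Finset.range n).image (fun i => v' ^ i)).card = n := by
    rw [Finset.card_image_of_injOn, Finset.card_range]
    intro i hi j hj h
    exact pow_injOn_Iio_orderOf (by simpa using hi) (by simpa using hj) h
  have heq := Finset.eq_of_subset_of_card_le hsub (by omega)
  have hq' : (⟨q, hq⟩ : K) ∈ Finset.univ.filter (fun x : K => x ^ n = 1) := by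
    refine Finset.mem_filter.2 ⟨Finset.mem_univ _, orderOf_dvd_iff_pow_eq_one.1 ?_⟩
    show orderOf (⟨q, hq⟩ : K) ∣ orderOf v'
    rw [Subgroup.orderOf_mk, Subgroup.orderOf_mk]
    exact hd
  rw [← heq] at hq'
  obtain ⟨i, -, hi⟩ := Finset.mem_image.1 hq'
  exact Subgroup.mem_zpowers_iff.2 ⟨i, by simpa using congrArg Subtype.val hi⟩

/-- A descent: in a finite 2-group, a nonempty set `A` closed under `x ↦ [g, x]` modulo `W`
has an element which is fixed modulo `W`. -/
theorem exists_fixed_mod {P : Type*} [Group P] [Finite P] (hP : IsPGroup 2 P) (A : Set P)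
    (W : Subgroup P) (hA : ∃ x ∈ A, x ∉ W)
    (hcl : ∀ x ∈ A, ∀ g : P, g * x * g⁻¹ * x⁻¹ ∈ A) :
    ∃ x ∈ A, x ∉ W ∧ ∀ g : P, g * x * g⁻¹ * x⁻¹ ∈ W := by
  by_contra hcon
  push Not at hcon
  haveI : Fact (Nat.Prime 2) := ⟨Nat.prime_two⟩
  haveI := hP.isNilpotent
  have h : ∀ k, ∃ x ∈ A, x ∉ W ∧ x ∈ (⊤ : Subgroup P).lowerCentralSeries k := by
    intro k
    induction k with
    | zero => obtain ⟨x, hx, hxW⟩ := hA; exact ⟨x, hx, hxW, by simp⟩
    | succ k ih =>
      obtain ⟨x, hx, hxW, hxk⟩ := ih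
      obtain ⟨g, hg⟩ := hcon x hx hxW
      refine ⟨_, hcl x hx g, hg, ?_⟩
      rw [Subgroup.lowerCentralSeries_succ]
      have h1 : g * x * g⁻¹ * x⁻¹ = (x * g * x⁻¹ * g⁻¹)⁻¹ := by group
      rw [h1]
      exact Subgroup.inv_mem _ (Subgroup.commutator_mem_commutator hxk (Subgroup.mem_top g))
  obtain ⟨n, hn⟩ := Subgroup.nilpotent_iff_lowerCentralSeries.1 ‹Group.IsNilpotent P›
  obtain ⟨x, -, hxW, hxn⟩ := h n
  rw [hn, Subgroup.mem_bot] at hxn
  exact hxW (hxn ▸ W.one_mem)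

end CfsgLib.InvChar.CyclicInter
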