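import Cfsg.Agent.Lib.InvChar.CyclicInterBasic
import Cfsg.Agent.Lib.InvChar.SolvableCore
import Cfsg.Agent.Lib.Invol.ZStar

/-!
# Cyclic Sylow 2-intersections: the set-up

`C` is the centraliser of the cyclic 2-core `V`, `w` an element of order four of `V` and `z = w * w`.
-/

set_option autoImplicit false
set_option linter.style.haveILetI false
set_option linter.unusedSectionVars false

open scoped Pointwise

namespace CfsgLib.InvChar.CyclicInter

/-- The standing assumptions for the proof that the 2-core is central. -/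
structure Setup (G : Type*) [Group G] where
  meet : CyclicMeet G
  two : ∀ S : Sylow 2 G, ∃ T : Sylow 2 G, T ≠ S
  core : Cfsg.oddCore G = ⊥
  V : Subgroup G
  hV : V = Cfsg.pCore 2 G
  C : Subgroup G
  hC : C = Subgroup.centralizer (V : Set G)
  hCne : C ≠ ⊤
  w : G
  hw : w ∈ V
  z : G
  hz : z = w * w
  hz1 : z ≠ 1
  hz2 : z * z = 1

variable {G : Type*} [Group G] [Finite G] (D : Setup G)

namespace Setup

theorem normal_V : D.V.Normal := D.hV ▸ CfsgLib.Solvable.pCore_normal 2 G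

theorem normal_C : D.C.Normal := by
  haveI := D.normal_V
  rw [D.hC]; infer_instance

theorem V_le (S : Sylow 2 G) : D.V ≤ (S : Subgroup G) :=
  D.hV ▸ CfsgLib.Solvable.pCore_le_sylow S

theorem cyclic_V : IsCyclic D.V := by
  obtain ⟨S⟩ : Nonempty (Sylow 2 G) := inferInstance
  obtain ⟨T, hT⟩ := D.two S
  haveI := D.meet T S hT
  exact Subgroup.isCyclic_of_le (le_inf (D.V_le T) (D.V_le S))

theorem isPGroup_V : IsPGroup 2 D.V := D.hV ▸ CfsgLib.Solvable.pCore_isPGroup 2 G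

theorem commute_of_mem_C {c v : G} (hc : c ∈ D.C) (hv : v ∈ D.V) : Commute v c := by
  rw [D.hC] at hc
  exact Subgroup.mem_centralizer_iff.1 hc v hv

theorem V_le_C : D.V ≤ D.C := fun v hv => by
  rw [D.hC]
  haveI := D.cyclic_V
  exact Subgroup.mem_centralizer_iff.2 fun u hu => (commute_of_cyclic hu hv).eq

theorem z_mem : D.z ∈ D.V := D.hz ▸ D.V.mul_mem D.hw D.hw

theorem z_mem_sylow (S : Sylow 2 G) : D.z ∈ S := D.V_le S D.z_mem

theorem w_ne : D.w ≠ 1 := fun h => D.hz1 (by rw [D.hz, h, one_mul])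

theorem involution_V {x : G} (hx : x ∈ D.V) (hx2 : x * x = 1) : x = 1 ∨ x = D.z := by
  by_cases h : x = 1
  · exact Or.inl h
  · haveI := D.cyclic_V
    exact Or.inr (eq_of_sq_one hx D.z_mem hx2 D.hz2 h D.hz1)

theorem z_conj (g : G) : g * D.z * g⁻¹ = D.z := by
  rcases D.involution_V (D.normal_V.conj_mem _ D.z_mem g) (by
    rw [show g * D.z * g⁻¹ * (g * D.z * g⁻¹) = g * (D.z * D.z) * g⁻¹ by group, D.hz2]; group)
    with h | h
  · exact absurd (conj_eq_one_iff.1 h) D.hz1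
  · exact h

theorem z_central (g : G) : Commute g D.z := mul_inv_eq_iff_eq_mul.1 (D.z_conj g)

theorem index_C : ∃ a, D.C.index = 2 ^ a := by
  rw [D.hC]
  haveI := D.cyclic_V
  haveI := D.normal_V
  exact exists_index_centralizer_eq_two_pow D.V D.isPGroup_V

theorem mem_C_of_pow {x : G} {m : ℕ} (hm : Odd m) (h : x ^ m ∈ D.C) : x ∈ D.C := by
  haveI := D.normal_C
  obtain ⟨a, ha⟩ := D.index_C
  rw [← QuotientGroup.eq_one_iff] at h ⊢
  rw [QuotientGroup.mk_pow] at h
  have h1 : orderOf (QuotientGroup.mk x : G ⧸ D.C) ∣ Nat.gcd m (2 ^ a) :=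
    Nat.dvd_gcd (orderOf_dvd_of_pow_eq_one h) (by
      rw [← ha, Subgroup.index_eq_card]; exact orderOf_dvd_natCard _)
  rw [Nat.Coprime.gcd_eq_one (Nat.Coprime.pow_right a (Nat.coprime_two_right.2 hm)),
    Nat.dvd_one, orderOf_eq_one_iff] at h1
  exact h1

theorem exists_mul (S : Sylow 2 G) (g : G) : ∃ c ∈ D.C, ∃ s ∈ (S : Subgroup G), g = c * s := by
  haveI := D.normal_C
  have h : D.C ⊔ (S : Subgroup G) = ⊤ := by
    rw [← Subgroup.index_eq_one]
    obtain ⟨a, ha⟩ := D.index_C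
    have h1 : (D.C ⊔ (S : Subgroup G)).index ∣ 2 ^ a := by
      rw [← ha]
      exact Subgroup.index_dvd_of_le le_sup_left
    have h2 : (D.C ⊔ (S : Subgroup G)).index ∣ (S : Subgroup G).index :=
      Subgroup.index_dvd_of_le le_sup_right
    exact Nat.eq_one_of_dvd_coprimes
      (Nat.Coprime.pow_left a (Nat.prime_two.coprime_iff_not_dvd.2 S.not_dvd_index)) h1 h2
  have hg : g ∈ D.C ⊔ (S : Subgroup G) := by rw [h]; exact Subgroup.mem_top g
  obtain ⟨c, hc, s, hs, he⟩ := Subgroup.mem_sup_of_normal_left.1 hg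
  exact ⟨c, hc, s, hs, he.symm⟩

theorem exists_mem_not_mem_C (S : Sylow 2 G) : ∃ s ∈ (S : Subgroup G), s ∉ D.C := by
  by_contra hcon
  push Not at hcon
  refine D.hCne (eq_top_iff.2 fun g _ => ?_)
  obtain ⟨c, hc, s, hs, rfl⟩ := D.exists_mul S g
  exact D.C.mul_mem hc (hcon s hs)

theorem exists_C_not_normalizer (S : Sylow 2 G) :
    ∃ c ∈ D.C, c • S ≠ S := by
  by_contra hcon
  push Not at hcon
  obtain ⟨T, hT⟩ := D.two S
  obtain ⟨g, rfl⟩ := MulAction.exists_smul_eq G S T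
  obtain ⟨c, hc, s, hs, rfl⟩ := D.exists_mul S g
  refine hT ?_
  have h1 : s • S = S := Sylow.smul_eq_iff_mem_normalizer.2 (Subgroup.le_normalizer hs)
  rw [mul_smul, h1, hcon c hc]

/-- An involution different from `z`. -/
def IsInv (D : Setup G) (t : G) : Prop := t * t = 1 ∧ t ≠ 1 ∧ t ≠ D.z

theorem IsInv.bad {t : G} (ht : D.IsInv t) : Bad t D.z := Or.inr ⟨ht.1, D.hz2, ht.2.1, D.hz1, ht.2.2⟩

theorem IsInv.conj {t : G} (ht : D.IsInv t) (g : G) : D.IsInv (g * t * g⁻¹) := by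
  refine ⟨?_, fun h => ht.2.1 (conj_eq_one_iff.1 h), fun h => ht.2.2 ?_⟩
  · rw [show g * t * g⁻¹ * (g * t * g⁻¹) = g * (t * t) * g⁻¹ by group, ht.1]; group
  · rw [← D.z_conj g] at h
    exact mul_left_cancel (mul_right_cancel h)

theorem IsInv.mul_z {t : G} (ht : D.IsInv t) : D.IsInv (t * D.z) := by
  refine ⟨?_, fun h => ht.2.2 ?_, fun h => ht.2.1 ?_⟩
  · rw [show t * D.z * (t * D.z) = t * (D.z * t) * D.z by group, ← (D.z_central t).eq,
      show t * (t * D.z) * D.z = (t * t) * (D.z * D.z) by group, ht.1, D.hz2, one_mul]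
  · rw [mul_eq_one_iff_eq_inv.1 h, ← mul_eq_one_iff_eq_inv.1 D.hz2]
  · exact mul_eq_right.1 h

/-- Every Sylow 2-subgroup meets `C` in a group with an involution different from `z`. -/
theorem exists_inv (S : Sylow 2 G) : ∃ t ∈ (S : Subgroup G), t ∈ D.C ∧ D.IsInv t := by
  haveI := D.normal_C
  suffices ∃ S₁ : Sylow 2 G, ∃ t ∈ (S₁ : Subgroup G), t ∈ D.C ∧ D.IsInv t by
    obtain ⟨S₁, t, ht, htC, hti⟩ := this
    obtain ⟨g, rfl⟩ := MulAction.exists_smul_eq G S₁ S
    exact ⟨g * t * g⁻¹, conj_mem_smul_sylow ht, D.normal_C.conj_mem _ htC g, hti.conj D g⟩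
  obtain ⟨P⟩ : Nonempty (Sylow 2 D.C) := inferInstance
  obtain ⟨S₁, hS₁⟩ := (P.isPGroup'.map D.C.subtype).exists_le_sylow
  refine ⟨S₁, ?_⟩
  by_contra hcon
  push Not at hcon
  set Q : Subgroup G := (S₁ : Subgroup G) ⊓ D.C with hQ
  have hQp : IsPGroup 2 Q := S₁.isPGroup'.to_le inf_le_left
  haveI hcyc : IsCyclic Q := by
    refine isCyclic_of_unique_involution hQp ⟨D.w, D.V_le S₁ D.hw, D.V_le_C D.hw⟩
      (fun x => Subtype.ext (D.commute_of_mem_C x.2.2 D.hw).eq.symm)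
      (fun h => D.hz1 (D.hz.trans (congrArg Subtype.val h))) ?_
    intro u v hu hu1 hv hv1
    have key : ∀ x : Q, x ^ 2 = 1 → x ≠ 1 → (x : G) = D.z := fun x hx hx1 => by
      by_contra hne
      exact hcon x x.2.1 x.2.2 ⟨by simpa [pow_two] using congrArg Subtype.val hx,
        fun h => hx1 (Subtype.ext h), hne⟩
    exact Subtype.ext ((key u hu hu1).trans (key v hv hv1).symm)
  have hP : IsCyclic (P : Subgroup D.C) := by
    haveI : IsCyclic ((P : Subgroup D.C).map D.C.subtype) := Subgroup.isCyclic_of_le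
      (le_inf hS₁ (Subgroup.map_subtype_le _) : _ ≤ Q)
    exact isCyclic_of_surjective _
      ((P : Subgroup D.C).equivMapOfInjective D.C.subtype D.C.subtype_injective).symm.surjective
  have heven : Even (Nat.card D.C) := by
    rw [even_iff_two_dvd, ← orderOf_eq_prime (p := 2) (x := (⟨D.z, D.V_le_C D.z_mem⟩ : D.C))
      (Subtype.ext (by simpa [pow_two] using D.hz2)) (fun h => D.hz1 (congrArg Subtype.val h))]
    exact orderOf_dvd_natCard _
  have hcore : Cfsg.pPrimeCore 2 D.C = ⊥ := by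
    have h := CfsgLib.Solvable.map_subtype_pPrimeCore_le (p := 2) D.C
    rw [show Cfsg.pPrimeCore 2 G = ⊥ from D.core, le_bot_iff] at h
    exact (Subgroup.map_eq_bot_iff_of_injective _ D.C.subtype_injective).1 h
  have htop := CfsgLib.Invol.eq_top_of_cyclic_sylow heven hcore P hP
  have hCp : IsPGroup 2 D.C := by
    obtain ⟨n, hn⟩ := IsPGroup.iff_card.1 P.isPGroup'
    exact IsPGroup.of_card (n := n) (by rw [← hn, htop, Subgroup.card_top])
  haveI : Fact (Nat.Prime 2) := ⟨Nat.prime_two⟩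
  obtain ⟨a, ha⟩ := D.index_C
  have hG : IsPGroup 2 G := isPGroup_two_of_card_eq (IsPGroup.iff_card.1 hCp) ⟨a, ha⟩
    (Subgroup.card_mul_index _).symm
  obtain ⟨T, hT⟩ := D.two S₁
  refine hT (Sylow.ext ?_)
  have h1 : ∀ R : Sylow 2 G, (R : Subgroup G) = ⊤ := fun R =>
    (R.is_maximal' (hG.to_subgroup ⊤) le_top).symm
  rw [h1, h1]

end Setup

end CfsgLib.InvChar.CyclicInter
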