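import Cfsg.Agent.Lib.InvChar.CyclicInterCore
import Cfsg.Agent.Lib.Solvable.SchurZassenhaus
import Mathlib.GroupTheory.SchurZassenhaus

/-!
# Cyclic Sylow 2-intersections: fusion of involutions and the odd part of the normalizer
-/

set_option autoImplicit false
set_option linter.style.haveILetI false
set_option linter.unusedSectionVars false

open scoped Pointwise

namespace CfsgLib.InvChar.CyclicInter

variable {G : Type*} [Group G] [Finite G] (D : Setup G)

omit [Finite G] in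
theorem pow_two_pow_of_sq {c : G} {n : ℕ} (h : (c * c) ^ (2 ^ n) = 1) : c ^ (2 ^ (n + 1)) = 1 := by
  rwa [pow_succ', pow_mul, pow_two]

omit [Finite G] in
/-- A conjugator for two involutions with product of odd order. -/
theorem conj_of_odd {u v : G} (hu : u * u = 1) (hv : v * v = 1) {j : ℕ}
    (h : (u * v) ^ (2 * j + 1) = 1) : (u * v) ^ (j + 1) * v * ((u * v) ^ (j + 1))⁻¹ = u := by
  have hvinv : v⁻¹ = v := inv_eq_of_mul_eq_one_left hv
  have huinv : u⁻¹ = u := inv_eq_of_mul_eq_one_left hu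
  have h1 : SemiconjBy v (u * v)⁻¹ (u * v) := by
    show v * (u * v)⁻¹ = u * v * v
    rw [mul_inv_rev, hvinv, huinv, ← mul_assoc, hv, one_mul, mul_assoc, hv, mul_one]
  have h2 := (h1.pow_right (j + 1)).eq
  rw [inv_pow] at h2
  rw [mul_assoc, h2, ← mul_assoc, ← pow_add, show (j + 1) + (j + 1) = (2 * j + 1) + 1 by omega,
    pow_add, h, one_mul, pow_one, mul_assoc, hv, mul_one]

omit [Finite G] in
theorem inv_conj_pow {u v : G} (hu : u * u = 1) (hv : v * v = 1) (k : ℕ) :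
    u * (u * v) ^ k * u⁻¹ = ((u * v) ^ k)⁻¹ ∧ v * (u * v) ^ k * v⁻¹ = ((u * v) ^ k)⁻¹ := by
  have hvinv : v⁻¹ = v := inv_eq_of_mul_eq_one_left hv
  have huinv : u⁻¹ = u := inv_eq_of_mul_eq_one_left hu
  constructor
  · rw [← conj_pow, ← inv_pow, mul_inv_rev, hvinv, huinv]
    congr 1
    rw [← mul_assoc u u v, hu, one_mul]
  · rw [← conj_pow, ← inv_pow, mul_inv_rev, hvinv, huinv, mul_assoc, mul_assoc u v v, hv, mul_one]

namespace Setup

/-- The involutions of `C` in a Sylow 2-subgroup are conjugate modulo `z` in its normalizer. -/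
theorem transitive {S : Sylow 2 G} {u t : G} (huS : u ∈ S) (huC : u ∈ D.C) (hu : D.IsInv u)
    (htS : t ∈ S) (htC : t ∈ D.C) (ht : D.IsInv t) :
    ∃ g ∈ D.C, g ∈ Subgroup.normalizer ((S : Subgroup G) : Set G) ∧
      (g * t * g⁻¹ = u ∨ g * t * g⁻¹ = u * D.z) := by
  haveI := D.normal_C
  suffices ∃ g ∈ D.C, g * t * g⁻¹ = u ∨ g * t * g⁻¹ = u * D.z by
    obtain ⟨g, hgC, hg⟩ := this
    refine ⟨g, hgC, D.meet.mem_normalizer (ht.bad D) htS (D.z_mem_sylow S) ?_ ?_, hg⟩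
    · rcases hg with h | h <;> rw [h]
      · exact huS
      · exact (S : Subgroup G).mul_mem huS (D.z_mem_sylow S)
    · rw [D.z_conj]; exact D.z_mem_sylow S
  obtain ⟨c, hcC, hcS⟩ := D.exists_C_not_normalizer S
  set T := c • S with hT
  set v := c * t * c⁻¹ with hv
  have hvT : v ∈ T := conj_mem_smul_sylow htS
  have hvC : v ∈ D.C := D.normal_C.conj_mem _ htC c
  have hvi : D.IsInv v := ht.conj D c
  set x := u * v with hx
  have hxC : x ∈ D.C := D.C.mul_mem huC hvC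
  have fin : ∀ g : G, g ∈ D.C → (g * v * g⁻¹ = u ∨ g * v * g⁻¹ = u * D.z) →
      ∃ g ∈ D.C, g * t * g⁻¹ = u ∨ g * t * g⁻¹ = u * D.z := fun g hg h => by
    refine ⟨g * c, D.C.mul_mem hg hcC, ?_⟩
    rwa [show g * c * t * (g * c)⁻¹ = g * v * g⁻¹ by rw [hv]; group]
  rcases Nat.even_or_odd (orderOf x) with ⟨k, hk⟩ | ⟨j, hj⟩
  swap
  · exact fin (x ^ (j + 1)) (D.C.pow_mem hxC _)
      (Or.inl (conj_of_odd hu.1 hvi.1 (hj ▸ pow_orderOf_eq_one x)))
  set d := x ^ k with hd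
  have hd2 : d * d = 1 := by rw [hd, ← pow_add, ← hk, pow_orderOf_eq_one]
  have hdinv : d⁻¹ = d := inv_eq_of_mul_eq_one_left hd2
  have hkpos : 0 < k := by have := orderOf_pos x; omega
  have hd1 : d ≠ 1 := fun h => by
    have := Nat.le_of_dvd hkpos (orderOf_dvd_of_pow_eq_one h)
    omega
  obtain ⟨hud, hvd⟩ := inv_conj_pow hu.1 hvi.1 k
  rw [← hx, ← hd, hdinv] at hud hvd
  have hduS : ∀ (R : Sylow 2 G) (y : G), y ∈ R → D.IsInv y → y * d * y⁻¹ = d → d ∈ R := by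
    intro R y hy hyi h
    refine D.meet.mem_of_conj (n := 1) (by rw [pow_one, pow_two, hd2]) (hyi.bad D) hy
      (D.z_mem_sylow R) ?_ (by rw [D.z_conj]; exact D.z_mem_sylow R)
    rw [show d * y = y * d from (mul_inv_eq_iff_eq_mul.1 h).symm, mul_assoc, mul_inv_cancel, mul_one]
    exact hy
  haveI : IsCyclic ↥((S : Subgroup G) ⊓ (T : Subgroup G)) := D.meet S T (Ne.symm hcS)
  have hdz : d = D.z := eq_of_sq_one
    (Subgroup.mem_inf.2 ⟨hduS S u huS hu hud, hduS T v hvT hvi hvd⟩)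
    (Subgroup.mem_inf.2 ⟨D.z_mem_sylow S, D.z_mem_sylow T⟩) hd2 D.hz2 hd1 D.hz1
  rcases Nat.even_or_odd k with ⟨i, hi⟩ | ⟨j, hj⟩
  · exfalso
    set y := x ^ i with hy
    have hy2 : y * y = D.z := by rw [hy, ← pow_add, ← hi, ← hd, hdz]
    obtain ⟨huy, hvy⟩ := inv_conj_pow hu.1 hvi.1 i
    rw [← hx, ← hy] at huy hvy
    have hyR : ∀ (R : Sylow 2 G) (a : G), a ∈ R → D.IsInv a → a * y * a⁻¹ = y⁻¹ → y ∈ R := by
      intro R a ha hai h
      refine D.meet.mem_of_conj (n := 2)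
        (pow_two_pow_of_sq (n := 1) (by rw [hy2, pow_one, pow_two, D.hz2])) (hai.bad D) ha
        (D.z_mem_sylow R) ?_ (by rw [D.z_conj]; exact D.z_mem_sylow R)
      have h' : a * y⁻¹ * a⁻¹ = y := conj_inv.symm.trans ((congrArg Inv.inv h).trans (inv_inv y))
      have h1 : y * a * y⁻¹ = y * y * a := by
        rw [mul_assoc, mul_inv_eq_iff_eq_mul.1 h', mul_assoc]
      rw [h1, hy2]
      exact (R : Subgroup G).mul_mem (D.z_mem_sylow R) ha
    have hyK := Subgroup.mem_inf.2 ⟨hyR S u huS hu huy, hyR T v hvT hvi hvy⟩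
    have hwK : D.w ∈ (S : Subgroup G) ⊓ (T : Subgroup G) :=
      Subgroup.mem_inf.2 ⟨D.V_le S D.hw, D.V_le T D.hw⟩
    have hyw : Commute y D.w := commute_of_cyclic hyK hwK
    have hyV : y ∈ D.V := by
      set e := y * D.w⁻¹ with he
      have he2 : e * e = 1 := by
        rw [he, mul_assoc, ← mul_assoc D.w⁻¹, ← hyw.inv_right.eq, mul_assoc, ← mul_assoc y y, hy2,
          D.hz, ← mul_inv_rev, mul_inv_cancel]
      have hy' : y = e * D.w := by rw [he]; group
      by_cases he1 : e = 1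
      · rw [hy', he1, one_mul]; exact D.hw
      · have heK : e ∈ (S : Subgroup G) ⊓ (T : Subgroup G) := by
          rw [he]; exact Subgroup.mul_mem _ hyK (Subgroup.inv_mem _ hwK)
        rw [hy', eq_of_sq_one heK
          (Subgroup.mem_inf.2 ⟨D.z_mem_sylow S, D.z_mem_sylow T⟩) he2 D.hz2 he1 D.hz1]
        exact D.V.mul_mem D.z_mem D.hw
    have h2 : y = y⁻¹ := by
      rw [← huy, ← (D.commute_of_mem_C huC hyV).eq, mul_assoc, mul_inv_cancel, mul_one]
    exact D.hz1 (hy2 ▸ mul_eq_one_iff_eq_inv.2 h2)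
  · have huz := hu.mul_z D
    have hx' : u * D.z * v = D.z * x := by rw [hx, (D.z_central u).eq, mul_assoc]
    have h1 : (u * D.z * v) ^ (2 * j + 1) = 1 := by
      rw [hx', ((D.z_central x).symm).mul_pow, ← hj, ← hd, hdz]
      have hzk : D.z ^ k = D.z := by
        rw [hj, pow_succ, pow_mul, pow_two, D.hz2, one_pow, one_mul]
      rw [hzk, D.hz2]
    exact fin ((u * D.z * v) ^ (j + 1))
      (D.C.pow_mem (D.C.mul_mem (D.C.mul_mem huC (D.V_le_C D.z_mem)) hvC) _)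
      (Or.inr (conj_of_odd huz.1 hvi.1 h1))

/-- An odd complement to `S ∩ C` in its normalizer in `C`. -/
structure OddPart (S : Sylow 2 G) where
  E : Subgroup G
  le_C : E ≤ D.C
  le_N : E ≤ Subgroup.normalizer ((S : Subgroup G) : Set G)
  split : ∀ g ∈ D.C, g ∈ Subgroup.normalizer ((S : Subgroup G) : Set G) →
    ∃ e ∈ E, ∃ q ∈ (S : Subgroup G), q ∈ D.C ∧ g = e * q
  fixed : ∀ s ∈ (S : Subgroup G), ∃ q ∈ (S : Subgroup G), q ∈ D.C ∧
    ∀ e ∈ E, Commute (q * s) e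

theorem exists_oddPart (S : Sylow 2 G) : Nonempty (D.OddPart S) := by
  haveI : Fact (Nat.Prime 2) := ⟨Nat.prime_two⟩
  haveI := D.normal_C
  set K : Subgroup G := D.C ⊓ Subgroup.normalizer ((S : Subgroup G) : Set G) with hK
  set Q : Subgroup G := (S : Subgroup G) ⊓ D.C with hQ
  have hQK : Q ≤ K := le_inf inf_le_right (inf_le_left.trans Subgroup.le_normalizer)
  have hconj : ∀ g ∈ Subgroup.normalizer ((S : Subgroup G) : Set G), ∀ q ∈ Q, g * q * g⁻¹ ∈ Q :=
    fun g hg q hq => ⟨(Subgroup.mem_normalizer_iff.1 hg q).1 hq.1, D.normal_C.conj_mem q hq.2 g⟩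
  set Q' : Subgroup K := Q.subgroupOf K with hQ'
  haveI hQn : Q'.Normal := ⟨fun q hq k => hconj k.1 k.2.2 q.1 hq⟩
  have hQp : IsPGroup 2 Q := S.isPGroup'.to_le inf_le_left
  have hQ'p : IsPGroup 2 Q' := hQp.comap_of_injective K.subtype K.subtype_injective
  obtain ⟨P, hP⟩ := hQ'p.exists_le_sylow
  have hPQ : (P : Subgroup K) = Q' := le_antisymm (fun p hp => by
    obtain ⟨n, hn⟩ := P.isPGroup' ⟨p, hp⟩
    have hn' : (p : G) ^ (2 ^ n) = 1 := by
      simpa using congrArg (fun a : (P : Subgroup K) => ((a : K) : G)) hn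
    exact ⟨mem_of_mem_normalizer hn' p.2.2, p.2.1⟩) hP
  have hco : (Nat.card Q').Coprime Q'.index := by
    rw [← hPQ]
    obtain ⟨n, hn⟩ := IsPGroup.iff_card.1 P.isPGroup'
    rw [hn]
    exact Nat.Coprime.pow_left n (Nat.prime_two.coprime_iff_not_dvd.2 P.not_dvd_index)
  obtain ⟨E', hE'⟩ := Subgroup.exists_right_complement'_of_coprime hco
  set E : Subgroup G := E'.map K.subtype with hE
  have hEK : E ≤ K := Subgroup.map_subtype_le _
  have hcop : (Nat.card Q).Coprime (Nat.card E) := by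
    rw [hE, Subgroup.card_map_of_injective K.subtype_injective,
      ← Nat.card_congr (Subgroup.subgroupOfEquivOfLe hQK).toEquiv, ← hE'.symm.index_eq_card]
    exact hco
  have hsplit : ∀ g ∈ K, ∃ e ∈ E, ∃ q ∈ Q, g = e * q := by
    intro g hg
    obtain ⟨⟨⟨e, he⟩, ⟨q, hq⟩⟩, hprod⟩ := hE'.symm.2 (⟨g, hg⟩ : K)
    exact ⟨e, ⟨e, he, rfl⟩, q, hq, (congrArg Subtype.val hprod).symm⟩
  refine ⟨⟨E, hEK.trans inf_le_left, hEK.trans inf_le_right, fun g hgC hgN => ?_, fun s hs => ?_⟩⟩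
  · obtain ⟨e, he, q, hq, h⟩ := hsplit g ⟨hgC, hgN⟩
    exact ⟨e, he, q, hq.1, hq.2, h⟩
  · have hsN : s ∈ Subgroup.normalizer ((S : Subgroup G) : Set G) := Subgroup.le_normalizer hs
    have hEN : E ≤ Subgroup.normalizer (Q : Set G) := fun e he => by
      refine Subgroup.mem_normalizer_iff.2 fun q => ⟨fun hq => hconj e (hEK he).2 q hq, fun hq => ?_⟩
      have := hconj e⁻¹ (Subgroup.inv_mem _ (hEK he).2) _ hq
      simpa [mul_assoc] using this
    have hsE : MulAut.conj s • E ≤ Q ⊔ E := by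
      intro y hy
      rw [Subgroup.mem_pointwise_smul_iff_inv_smul_mem] at hy
      have hy' : s⁻¹ * y * s ∈ E := by simpa [MulAut.smul_def] using hy
      have hyK : y ∈ K := by
        have h1 := hEK hy'
        refine ⟨?_, ?_⟩
        · simpa [mul_assoc] using D.normal_C.conj_mem _ h1.1 s
        · simpa [mul_assoc] using
            Subgroup.mul_mem _ (Subgroup.mul_mem _ hsN h1.2) (Subgroup.inv_mem _ hsN)
      obtain ⟨e, he, q, hq, rfl⟩ := hsplit y hyK
      exact Subgroup.mul_mem _ (Subgroup.mem_sup_right he) (Subgroup.mem_sup_left hq)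
    have hsol : Group.IsSolvable Q := by
      haveI := hQp.isNilpotent
      infer_instance
    obtain ⟨n, hn, hne⟩ := CfsgLib.Solvable.exists_conj_eq_of_coprime hEN hsE
      (Nat.card_congr (Subgroup.equivSMul (MulAut.conj s) E).toEquiv).symm hcop (Or.inl hsol)
    refine ⟨n⁻¹, Subgroup.inv_mem _ hn.1, Subgroup.inv_mem _ hn.2, fun e he => ?_⟩
    set r := n⁻¹ * s with hr
    have hrS : r ∈ (S : Subgroup G) := Subgroup.mul_mem _ (Subgroup.inv_mem _ hn.1) hs
    have h1 : r * e * r⁻¹ ∈ E := by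
      have h2 : s * e * s⁻¹ ∈ MulAut.conj s • E :=
        ⟨e, he, by simp⟩
      rw [← hne, Subgroup.mem_pointwise_smul_iff_inv_smul_mem] at h2
      rw [hr, show n⁻¹ * s * e * (n⁻¹ * s)⁻¹ = n⁻¹ * (s * e * s⁻¹) * n by group]
      simpa [MulAut.smul_def, mul_assoc] using h2
    have h3 : r * e * r⁻¹ * e⁻¹ ∈ (S : Subgroup G) := by
      rw [show r * e * r⁻¹ * e⁻¹ = r * (e * r⁻¹ * e⁻¹) by group]
      exact Subgroup.mul_mem _ hrS
        ((Subgroup.mem_normalizer_iff.1 (hEK he).2 _).1 (Subgroup.inv_mem _ hrS))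
    have h4 : r * e * r⁻¹ * e⁻¹ ∈ Q ⊓ E :=
      ⟨⟨h3, Subgroup.mul_mem _ (hEK h1).1 (Subgroup.inv_mem _ (hEK he).1)⟩,
        Subgroup.mul_mem _ h1 (Subgroup.inv_mem _ he)⟩
    rw [(Subgroup.disjoint_of_coprime_natCard hcop).eq_bot, Subgroup.mem_bot, mul_inv_eq_one,
      mul_inv_eq_iff_eq_mul] at h4
    exact h4

end Setup

end CfsgLib.InvChar.CyclicInter
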