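import Cfsg.Agent.Lib.InvChar.CyclicInterBasic

/-!
# A 2-group with a central element of order four and a further involution
has an involution whose class lies in a coset of the central involution
-/

set_option autoImplicit false
set_option linter.style.haveILetI false
set_option linter.unusedSectionVars false

open scoped Pointwise

namespace CfsgLib.InvChar.CyclicInter

variable {P : Type*} [Group P] [Finite P]

/-- `t` is an involution outside `⟨z⟩` whose `H`-class lies in `{t, t * z}`. -/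
def PairFixed (z : P) (H : Subgroup P) (t : P) : Prop :=
  t ∈ H ∧ t * t = 1 ∧ t ≠ 1 ∧ t ≠ z ∧ ∀ h ∈ H, h * t * h⁻¹ = t ∨ h * t * h⁻¹ = t * z

omit [Finite P] in
theorem eq_of_mem_zpowers {z a : P} (hz2 : z * z = 1) (ha : a ∈ Subgroup.zpowers z) :
    a = 1 ∨ a = z := by
  obtain ⟨i, rfl⟩ := Subgroup.mem_zpowers_iff.1 ha
  rcases Int.even_or_odd i with ⟨j, rfl⟩ | ⟨j, rfl⟩
  · left
    rw [← two_mul, zpow_mul, zpow_two, hz2, one_zpow]
  · right
    rw [zpow_add, zpow_mul, zpow_two, hz2, one_zpow, one_mul, zpow_one]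

theorem exists_pairFixed (hP : IsPGroup 2 P) (w z : P) (hw : ∀ x : P, x * w = w * x)
    (hz : z = w * w) (hz1 : z ≠ 1) (hz2 : z * z = 1) (t : P) (ht : t * t = 1) (ht1 : t ≠ 1)
    (htz : t ≠ z) : ∃ t₁ : P, PairFixed z ⊤ t₁ := by
  haveI : Fact (Nat.Prime 2) := ⟨Nat.prime_two⟩
  haveI := hP.isNilpotent
  have hzc : ∀ x : P, x * z = z * x := fun x => by
    rw [hz, ← mul_assoc, hw, mul_assoc, hw, ← mul_assoc]
  have hzt : ∀ a ∈ Subgroup.zpowers z, a * a = 1 ∧ ∀ x : P, x * a = a * x := fun a ha => by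
    rcases eq_of_mem_zpowers hz2 ha with rfl | rfl
    · simp
    · exact ⟨hz2, hzc⟩
  set F : Set (Subgroup P) := {H | w ∈ H ∧ ∃ t₁, PairFixed z H t₁} with hF
  have hne : F.Nonempty := by
    refine ⟨Subgroup.closure {t, w}, Subgroup.subset_closure (by simp), t,
      Subgroup.subset_closure (by simp), ht, ht1, htz, fun h hh => Or.inl ?_⟩
    have hle : Subgroup.closure ({t, w} : Set P) ≤ Subgroup.centralizer ({t} : Set P) := by
      rw [Subgroup.closure_le]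
      rintro x (rfl | rfl) <;> rw [SetLike.mem_coe, Subgroup.mem_centralizer_singleton_iff]
      exact (hw t).symm
    rw [Subgroup.mem_centralizer_singleton_iff.1 (hle hh), mul_assoc, mul_inv_cancel, mul_one]
  obtain ⟨H, ⟨hwH, t₀, ht₀⟩, hmax⟩ := (Set.toFinite F).exists_maximal hne
  by_cases htop : H = ⊤
  · exact ⟨t₀, htop ▸ ht₀⟩
  exfalso
  have hlt : H < Subgroup.normalizer (H : Set P) :=
    Group.normalizerCondition_of_isNilpotent H (lt_top_iff_ne_top.2 htop)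
  set N : Subgroup P := Subgroup.normalizer (H : Set P) with hN
  suffices ∃ t₁, PairFixed z N t₁ from
    hlt.not_ge (hmax ⟨hlt.le hwH, this⟩ hlt.le)
  set W : Subgroup P := Subgroup.zpowers w with hW
  let A : Set N := {x | (x : P) ∈ H ∧ (x : P) * x ∈ Subgroup.zpowers z ∧
    ∀ h ∈ H, h * (x : P) * h⁻¹ * (x : P)⁻¹ ∈ Subgroup.zpowers z}
  have hzfix : ∀ (g : P), ∀ a ∈ Subgroup.zpowers z, g * a * g⁻¹ = a := fun g a ha => by
    rw [(hzt a ha).2 g, mul_assoc, mul_inv_cancel, mul_one]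
  have hAinv : ∀ x : P, x * x ∈ Subgroup.zpowers z → x⁻¹ * x⁻¹ ∈ Subgroup.zpowers z := fun x h => by
    rw [← mul_inv_rev]; exact Subgroup.inv_mem _ h
  have hcl : ∀ x ∈ A, ∀ g : N, g * x * g⁻¹ * x⁻¹ ∈ A := by
    rintro ⟨x, hxN⟩ ⟨hxH, hxx, hxc⟩ ⟨g, hg⟩
    have hgH : ∀ y, y ∈ H ↔ g * y * g⁻¹ ∈ H := Subgroup.mem_normalizer_iff.1 hg
    set a := g * x * g⁻¹ with ha
    have haH : a ∈ H := (hgH x).1 hxH
    have haa : a * a ∈ Subgroup.zpowers z := by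
      rw [ha, show g * x * g⁻¹ * (g * x * g⁻¹) = g * (x * x) * g⁻¹ by group, hzfix g _ hxx]
      exact hxx
    have hac : ∀ h ∈ H, h * a * h⁻¹ * a⁻¹ ∈ Subgroup.zpowers z := fun h hh => by
      have h1 : g⁻¹ * h * g ∈ H := by
        rw [hgH, show g * (g⁻¹ * h * g) * g⁻¹ = h by group]; exact hh
      rw [ha, show h * (g * x * g⁻¹) * h⁻¹ * (g * x * g⁻¹)⁻¹ =
        g * (g⁻¹ * h * g * x * (g⁻¹ * h * g)⁻¹ * x⁻¹) * g⁻¹ by group, hzfix g _ (hxc _ h1)]
      exact hxc _ h1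
    show a * x⁻¹ ∈ H ∧ a * x⁻¹ * (a * x⁻¹) ∈ Subgroup.zpowers z ∧
      ∀ h ∈ H, h * (a * x⁻¹) * h⁻¹ * (a * x⁻¹)⁻¹ ∈ Subgroup.zpowers z
    refine ⟨H.mul_mem haH (H.inv_mem hxH), ?_, fun h hh => ?_⟩
    · have hk := hac x⁻¹ (H.inv_mem hxH)
      rw [inv_inv] at hk
      set k := x⁻¹ * a * x * a⁻¹ with hkd
      have e : a * x⁻¹ * (a * x⁻¹) = a * k * a * (x⁻¹ * x⁻¹) := by rw [hkd]; group
      rw [e, (hzt k hk).2 a, mul_assoc k]
      exact Subgroup.mul_mem _ (Subgroup.mul_mem _ hk haa) (hAinv x hxx)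
    · have h1 := hac h hh
      have h2 := hxc h hh
      set p := h * a * h⁻¹ * a⁻¹ with hp
      set q := h * x * h⁻¹ * x⁻¹ with hq
      have e : h * (a * x⁻¹) * h⁻¹ * (a * x⁻¹)⁻¹ = p * (a * (x⁻¹ * q⁻¹ * x) * a⁻¹) := by
        rw [hp, hq]; group
      rw [e, show x⁻¹ * q⁻¹ * x = x⁻¹ * q⁻¹ * (x⁻¹)⁻¹ by group,
        hzfix x⁻¹ _ (Subgroup.inv_mem _ h2), hzfix a _ (Subgroup.inv_mem _ h2)]
      exact Subgroup.mul_mem _ h1 (Subgroup.inv_mem _ h2)
  have hW' : ∀ a ∈ W, a * a = 1 → a ∈ Subgroup.zpowers z := by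
    intro a ha ha2
    by_cases ha1 : a = 1
    · rw [ha1]; exact Subgroup.one_mem _
    · haveI : IsCyclic W := inferInstance
      rw [eq_of_sq_one ha (hz ▸ Subgroup.mul_mem _ (Subgroup.mem_zpowers w) (Subgroup.mem_zpowers w) :
        z ∈ W) ha2 hz2 ha1 hz1]
      exact Subgroup.mem_zpowers z
  obtain ⟨ht₀H, ht₀2, ht₀1, ht₀z, ht₀c⟩ := ht₀
  have hA : ∃ x ∈ A, x ∉ W.subgroupOf N := by
    refine ⟨⟨t₀, hlt.le ht₀H⟩, ⟨ht₀H, by rw [ht₀2]; exact Subgroup.one_mem _, fun h hh => ?_⟩,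
      fun hm => ?_⟩
    · rcases ht₀c h hh with e | e <;> rw [e]
      · rw [mul_inv_cancel]; exact Subgroup.one_mem _
      · rw [hzc, mul_assoc, mul_inv_cancel, mul_one]; exact Subgroup.mem_zpowers z
    · rcases eq_of_mem_zpowers hz2 (hW' t₀ hm ht₀2) with e | e
      · exact ht₀1 e
      · exact ht₀z e
  obtain ⟨⟨x, hxN⟩, ⟨hxH, hxx, -⟩, hxW, hfix⟩ :=
    exists_fixed_mod (hP.to_subgroup N) A (W.subgroupOf N) hA hcl
  have hxW' : x ∉ W := hxW
  have hfix' : ∀ g ∈ N, g * x * g⁻¹ * x⁻¹ ∈ Subgroup.zpowers z := fun g hg => by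
    have h1 : g * x * g⁻¹ * x⁻¹ ∈ W := hfix ⟨g, hg⟩
    set a := g * x * g⁻¹ * x⁻¹ with ha
    refine hW' a h1 ?_
    have hca : ∀ y : P, y * a = a * y := fun y => by
      obtain ⟨i, hi⟩ := Subgroup.mem_zpowers_iff.1 h1
      rw [← hi]
      exact (Commute.zpow_right (hw y : Commute y w) i).eq
    have h2 : g * (x * x) * g⁻¹ = a * x * (a * x) := by
      have e : a * x = g * x * g⁻¹ := by rw [ha]; group
      rw [e]; group
    rw [hzfix g _ hxx, show a * x * (a * x) = a * (x * a) * x by group, hca,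
      show a * (a * x) * x = a * a * (x * x) by group] at h2
    exact right_eq_mul.1 h2
  obtain ⟨x₁, hx₁H, hx₁2, hx₁W, hx₁c⟩ : ∃ x₁, x₁ ∈ H ∧ x₁ * x₁ = 1 ∧ x₁ ∉ W ∧
      ∀ g ∈ N, g * x₁ * g⁻¹ * x₁⁻¹ ∈ Subgroup.zpowers z := by
    rcases eq_of_mem_zpowers hz2 hxx with e | e
    · exact ⟨x, hxH, e, hxW', hfix'⟩
    · refine ⟨x * w, H.mul_mem hxH hwH, ?_, fun hm => hxW' ?_, fun g hg => ?_⟩
      · rw [show x * w * (x * w) = x * (w * x) * w by group, ← hw,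
          show x * (x * w) * w = x * x * (w * w) by group, e, ← hz, hz2]
      · have := Subgroup.mul_mem _ hm (Subgroup.inv_mem _ (Subgroup.mem_zpowers w))
        rwa [mul_inv_cancel_right] at this
      · have e2 : g * (x * w) * g⁻¹ * (x * w)⁻¹ = g * x * g⁻¹ * x⁻¹ := by
          have hcw : g * w * g⁻¹ = w := by rw [hw, mul_assoc, mul_inv_cancel, mul_one]
          calc g * (x * w) * g⁻¹ * (x * w)⁻¹ = g * x * g⁻¹ * (g * w * g⁻¹) * w⁻¹ * x⁻¹ := by group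
            _ = g * x * g⁻¹ * x⁻¹ := by rw [hcw]; group
        rw [e2]; exact hfix' g hg
  refine ⟨x₁, hlt.le hx₁H, hx₁2, fun h => hx₁W (h ▸ W.one_mem), fun h => hx₁W ?_, fun g hg => ?_⟩
  · rw [h, hz]; exact Subgroup.mul_mem _ (Subgroup.mem_zpowers w) (Subgroup.mem_zpowers w)
  · rcases eq_of_mem_zpowers hz2 (hx₁c g hg) with e | e
    · exact Or.inl (mul_inv_eq_one.1 e)
    · exact Or.inr (by rw [mul_inv_eq_iff_eq_mul.1 e, hzc])

end CfsgLib.InvChar.CyclicInter
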