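import Cfsg.Agent.Lib.InvChar.CyclicInterFusion
import Cfsg.Agent.Lib.InvChar.CyclicInterPair
import Cfsg.Agent.Lib.Invol.GlaubermanZStar

/-!
# Cyclic Sylow 2-intersections: no involution but `z` is centralized by the odd part
-/

set_option autoImplicit false
set_option linter.style.haveILetI false
set_option linter.unusedSectionVars false

open scoped Pointwise

universe u

namespace CfsgLib.InvChar.CyclicInter.Setup

variable {G : Type u} [Group G] [Finite G] (D : Setup G)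

/-- The odd core of `G / V` is trivial. -/
theorem eq_V_of_odd (K : Subgroup G) [K.Normal] (hVK : D.V ≤ K) (hodd : Odd (D.V.relIndex K)) :
    K = D.V := by
  haveI : Fact (Nat.Prime 2) := ⟨Nat.prime_two⟩
  haveI := D.normal_V
  haveI := D.normal_C
  set V' : Subgroup K := D.V.subgroupOf K with hV'
  have hidx : V'.index = D.V.relIndex K := rfl
  obtain ⟨n, hn⟩ := IsPGroup.iff_card.1 D.isPGroup_V
  have hcardV : Nat.card V' = 2 ^ n := by
    rw [hV', Nat.card_congr (Subgroup.subgroupOfEquivOfLe hVK).toEquiv, hn]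
  have hco : (Nat.card V').Coprime V'.index := by
    rw [hcardV, hidx]
    exact Nat.Coprime.pow_left n (Nat.coprime_two_left.2 hodd)
  have hKC : K ≤ D.C := fun k hk => D.mem_C_of_pow hodd (D.V_le_C (by
    have h1 := Subgroup.pow_index_mem V' (⟨k, hk⟩ : K)
    rw [hidx] at h1
    exact h1))
  obtain ⟨O, hO⟩ := Subgroup.exists_right_complement'_of_coprime hco
  have hcardO : Nat.card O = D.V.relIndex K := by rw [← hO.symm.index_eq_card, hidx]
  set O' : Subgroup G := O.map K.subtype with hO'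
  have hO'n : O'.Normal := ⟨fun o ho g => by
    obtain ⟨o₁, ho₁, rfl⟩ := ho
    set m := Nat.card O
    have hpow : ∀ x ∈ O, x ^ m = 1 := fun x hx =>
      congrArg Subtype.val (pow_card_eq_one' (x := (⟨x, hx⟩ : O)))
    have hxK : g * (o₁ : G) * g⁻¹ ∈ K := ‹K.Normal›.conj_mem _ o₁.2 g
    obtain ⟨⟨⟨v, hv⟩, ⟨o₂, ho₂⟩⟩, hvo⟩ := hO.2 (⟨_, hxK⟩ : K)
    have hvo' : (v : G) * o₂ = g * (o₁ : G) * g⁻¹ := congrArg Subtype.val hvo
    have hc : Commute (v : G) o₂ := D.commute_of_mem_C (hKC o₂.2) hv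
    have hxm : (g * (o₁ : G) * g⁻¹) ^ m = 1 := by
      rw [conj_pow, ← SubmonoidClass.coe_pow, hpow o₁ ho₁]; simp
    rw [← hvo', hc.mul_pow, ← SubmonoidClass.coe_pow o₂, hpow o₂ ho₂, Subgroup.coe_one, mul_one] at hxm
    have hv1 : (v : G) = 1 := by
      have hd1 : orderOf (v : G) ∣ 2 ^ n := by
        have h := orderOf_dvd_natCard (⟨v, hv⟩ : D.V)
        rwa [← Subgroup.orderOf_coe, hn] at h
      have hd2 : orderOf (v : G) ∣ m := orderOf_dvd_of_pow_eq_one hxm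
      have : orderOf (v : G) = 1 := Nat.eq_one_of_dvd_coprimes
        (Nat.Coprime.pow_left n (Nat.coprime_two_left.2 (hcardO ▸ hodd : Odd m))) hd1 hd2
      exact orderOf_eq_one_iff.1 this
    refine ⟨o₂, ho₂, ?_⟩
    show (o₂ : G) = g * (o₁ : G) * g⁻¹
    rw [← hvo', hv1, one_mul]⟩
  have hbot : O' = ⊥ := by
    have h := CfsgLib.Solvable.le_pPrimeCore (p := 2) hO'n (by
      rw [hO', Subgroup.card_map_of_injective K.subtype_injective, hcardO]
      exact Nat.coprime_two_right.2 hodd)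
    rw [show Cfsg.pPrimeCore 2 G = ⊥ from D.core] at h
    exact le_bot_iff.1 h
  have h1 : D.V.relIndex K = 1 := by
    rw [← hcardO, ← Subgroup.card_map_of_injective K.subtype_injective, ← hO', hbot,
      Subgroup.card_bot]
  exact le_antisymm (Subgroup.relIndex_eq_one.1 h1) hVK

/-- No involution of `C` other than `z` is centralized by the odd part. -/
theorem not_centralized {S : Sylow 2 G} (O : D.OddPart S) {t : G} (htS : t ∈ S) (htC : t ∈ D.C)
    (ht : D.IsInv t) : ∃ e ∈ O.E, ¬ Commute t e := by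
  by_contra hcon
  push Not at hcon
  haveI : Fact (Nat.Prime 2) := ⟨Nat.prime_two⟩
  haveI := D.normal_V
  haveI := D.normal_C
  set Q : Subgroup G := (S : Subgroup G) ⊓ D.C with hQ
  have hQp : IsPGroup 2 Q := S.isPGroup'.to_le inf_le_left
  have hzQ : D.z ∈ Q := ⟨D.z_mem_sylow S, D.V_le_C D.z_mem⟩
  obtain ⟨⟨t₁, ht₁Q⟩, -, h2, h1, hne, hcl⟩ := exists_pairFixed hQp
    ⟨D.w, D.V_le S D.hw, D.V_le_C D.hw⟩ ⟨D.z, hzQ⟩
    (fun x => Subtype.ext (D.commute_of_mem_C x.2.2 D.hw).eq.symm)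
    (Subtype.ext D.hz) (fun h => D.hz1 (congrArg Subtype.val h)) (Subtype.ext D.hz2)
    ⟨t, htS, htC⟩ (Subtype.ext ht.1) (fun h => ht.2.1 (congrArg Subtype.val h))
    (fun h => ht.2.2 (congrArg Subtype.val h))
  have ht₁ : D.IsInv t₁ := ⟨congrArg Subtype.val h2, fun h => h1 (Subtype.ext h),
    fun h => hne (Subtype.ext h)⟩
  have step : ∀ u : G, u ∈ S → u ∈ D.C → D.IsInv u →
      ∃ e ∈ O.E, ∃ i : ℕ, u = e * t₁ * e⁻¹ * D.z ^ i := by
    intro u huS huC hu
    obtain ⟨g, hgC, hgN, hg⟩ := D.transitive huS huC hu ht₁Q.1 ht₁Q.2 ht₁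
    obtain ⟨e, he, q, hqS, hqC, rfl⟩ := O.split g hgC hgN
    refine ⟨e, he, ?_⟩
    have hq : q * t₁ * q⁻¹ = t₁ ∨ q * t₁ * q⁻¹ = t₁ * D.z := by
      rcases hcl ⟨q, hqS, hqC⟩ (Subgroup.mem_top _) with h | h
      · exact Or.inl (congrArg Subtype.val h)
      · exact Or.inr (congrArg Subtype.val h)
    have hz2' : D.z ^ 2 = 1 := by rw [pow_two, D.hz2]
    have hconj : e * q * t₁ * (e * q)⁻¹ = e * (q * t₁ * q⁻¹) * e⁻¹ := by group
    have hze : e * (t₁ * D.z) * e⁻¹ = e * t₁ * e⁻¹ * D.z := by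
      conv_rhs => rw [← D.z_conj e]
      group
    rcases hg with hg | hg <;> rcases hq with hq | hq <;> rw [hconj, hq] at hg
    · exact ⟨0, by rw [pow_zero, mul_one]; exact hg.symm⟩
    · exact ⟨1, by rw [pow_one, ← hze]; exact hg.symm⟩
    · exact ⟨1, by rw [pow_one, hg, mul_assoc, D.hz2, mul_one]⟩
    · exact ⟨0, by rw [pow_zero, mul_one]; exact (mul_right_cancel (hze ▸ hg)).symm⟩
  obtain ⟨e₀, he₀, i₀, hti⟩ := step t htS htC ht
  have ht₁t : t₁ = t * (D.z ^ i₀)⁻¹ := by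
    have h3 : e₀⁻¹ * t * e₀ = t := by
      rw [mul_assoc, (hcon e₀ he₀).eq, inv_mul_cancel_left]
    calc t₁ = e₀⁻¹ * (e₀ * t₁ * e₀⁻¹ * D.z ^ i₀) * e₀ * (e₀⁻¹ * (D.z ^ i₀) * e₀)⁻¹ := by group
      _ = t * (D.z ^ i₀)⁻¹ := by
        rw [← hti, h3, mul_assoc e₀⁻¹, ← ((D.z_central e₀).pow_right i₀).eq, inv_mul_cancel_left]
  have only : ∀ u : G, u ∈ S → u ∈ D.C → D.IsInv u → u * t⁻¹ ∈ D.V := by
    intro u huS huC hu
    obtain ⟨e, he, i, rfl⟩ := step u huS huC hu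
    have hetE : e * t * e⁻¹ = t := by rw [(hcon e he).eq.symm, mul_inv_cancel_right]
    have hzz : ∀ j : ℕ, e * (D.z ^ j)⁻¹ * e⁻¹ = (D.z ^ j)⁻¹ := fun j => by
      rw [(((D.z_central e).pow_right j).inv_right).eq, mul_inv_cancel_right]
    rw [ht₁t, show e * (t * (D.z ^ i₀)⁻¹) * e⁻¹ = e * t * e⁻¹ * (e * (D.z ^ i₀)⁻¹ * e⁻¹) by group,
      hetE, hzz, show t * (D.z ^ i₀)⁻¹ * D.z ^ i * t⁻¹ = t * ((D.z ^ i₀)⁻¹ * D.z ^ i) * t⁻¹ by group]
    exact D.normal_V.conj_mem _ (D.V.mul_mem (D.V.inv_mem (D.V.pow_mem D.z_mem _))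
      (D.V.pow_mem D.z_mem _)) t
  -- the image of `t` in `G / V` is isolated
  have htV : t ∉ D.V := fun h => (D.involution_V h ht.1).elim ht.2.1 ht.2.2
  set π := QuotientGroup.mk' D.V with hπ
  have hsurj : Function.Surjective π := QuotientGroup.mk'_surjective _
  have hord : orderOf (π t) = 2 := orderOf_eq_prime (by rw [← map_pow, pow_two, ht.1, map_one])
    (fun h => htV ((QuotientGroup.eq_one_iff t).1 h))
  obtain ⟨N, hNn, hNodd, hN⟩ := CfsgLib.Invol.zStar_sylow (S.mapSurjective hsurj) (π t) hord (by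
    intro g hg
    obtain ⟨g, rfl⟩ := hsurj g
    rw [← map_inv, ← map_mul, ← map_mul] at hg ⊢
    have hmem : g * t * g⁻¹ ∈ (S : Subgroup G) := by
      obtain ⟨s, hs, hs'⟩ := hg
      have h1 : s⁻¹ * (g * t * g⁻¹) ∈ D.V := by
        rw [← QuotientGroup.eq]; exact hs'
      have := (S : Subgroup G).mul_mem hs (D.V_le S h1)
      rwa [mul_inv_cancel_left] at this
    have h1 := only _ hmem (D.normal_C.conj_mem _ htC g) (ht.conj D g)
    show (QuotientGroup.mk (g * t * g⁻¹) : G ⧸ D.V) = QuotientGroup.mk t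
    rw [eq_comm, QuotientGroup.eq]
    simpa [mul_assoc] using D.normal_V.conj_mem _ h1 t⁻¹)
  set K : Subgroup G := N.comap π with hK
  haveI : K.Normal := hNn.comap _
  have hVK : D.V ≤ K := fun v hv => by
    rw [hK, Subgroup.mem_comap, hπ, QuotientGroup.mk'_apply, (QuotientGroup.eq_one_iff v).2 hv]
    exact N.one_mem
  have hidx : Nat.card N = D.V.relIndex K := by
    have : D.V = Subgroup.comap π ⊥ := by rw [MonoidHom.comap_bot, hπ, QuotientGroup.ker_mk']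
    conv_rhs => rw [this, hK]
    rw [Subgroup.relIndex_comap, Subgroup.map_comap_eq_self_of_surjective hsurj,
      Subgroup.relIndex_bot_left]
  have hKV : K = D.V := D.eq_V_of_odd K hVK (hidx ▸ hNodd)
  have hcomm : ∀ g : G, t * g * t⁻¹ * g⁻¹ ∈ D.V := fun g => by
    rw [← hKV, hK, Subgroup.mem_comap]
    simpa using hN (π g)
  set W : Subgroup G := D.V ⊔ Subgroup.zpowers t with hW
  have hWn : W.Normal := by
    refine ⟨fun y hy g => ?_⟩
    obtain ⟨v, hv, s, hs, rfl⟩ := Subgroup.mem_sup_of_normal_left.1 hy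
    obtain ⟨i, rfl⟩ := Subgroup.mem_zpowers_iff.1 hs
    rw [show g * (v * t ^ i) * g⁻¹ = g * v * g⁻¹ * (g * t * g⁻¹) ^ i by rw [conj_zpow]; group]
    refine W.mul_mem (Subgroup.mem_sup_left (D.normal_V.conj_mem _ hv g)) (W.zpow_mem ?_ i)
    rw [show g * t * g⁻¹ = (t * g * t⁻¹ * g⁻¹)⁻¹ * t by group]
    exact W.mul_mem (Subgroup.mem_sup_left (D.V.inv_mem (hcomm g)))
      (Subgroup.mem_sup_right (Subgroup.mem_zpowers t))
  have hWp : IsPGroup 2 W := S.isPGroup'.to_le (sup_le (D.V_le S) (Subgroup.zpowers_le.2 htS))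
  exact htV (D.hV ▸ CfsgLib.Solvable.le_pCore hWn hWp
    (Subgroup.mem_sup_right (Subgroup.mem_zpowers t) : t ∈ W))

end CfsgLib.InvChar.CyclicInter.Setup
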