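import Cfsg.Agent.Lib.InvChar.CyclicInterIsolated
import Cfsg.Agent.Lib.Solvable.SmallOrder

/-!
# Cyclic Sylow 2-intersections: the radical is central modulo the core
-/

set_option autoImplicit false
set_option linter.style.haveILetI false
set_option linter.unusedSectionVars false

open scoped Pointwise

universe u

namespace CfsgLib.InvChar.CyclicInter

variable {G : Type u} [Group G] [Finite G]

namespace Setup

variable (D : Setup G)

/-- Some element outside `C` of a Sylow 2-subgroup has its square in `V`. -/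
theorem exists_sq_mem (S : Sylow 2 G) : ∃ s ∈ (S : Subgroup G), s ∉ D.C ∧ s * s ∈ D.V := by
  haveI : Fact (Nat.Prime 2) := ⟨Nat.prime_two⟩
  haveI := D.normal_C
  obtain ⟨O⟩ := D.exists_oddPart S
  obtain ⟨s₀, hs₀, hs₀C⟩ := D.exists_mem_not_mem_C S
  obtain ⟨q, hq, hqC, hfix⟩ := O.fixed s₀ hs₀
  obtain ⟨s, hsS, hsC, hs2C, hsE⟩ : ∃ s ∈ (S : Subgroup G), s ∉ D.C ∧ s * s ∈ D.C ∧
      ∀ e ∈ O.E, Commute s e := by
    have h1 : q * s₀ ∉ D.C := fun h => hs₀C (by
      simpa using D.C.mul_mem (D.C.inv_mem hqC) h)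
    have hS1 : q * s₀ ∈ (S : Subgroup G) := Subgroup.mul_mem _ hq hs₀
    obtain ⟨n, hn⟩ := exists_pow_two_pow hS1
    classical
    have hex : ∃ j : ℕ, (q * s₀) ^ (2 ^ j) ∈ D.C := ⟨n, hn ▸ D.C.one_mem⟩
    obtain ⟨j, hj⟩ : ∃ j, Nat.find hex = j + 1 := by
      refine Nat.exists_eq_succ_of_ne_zero fun h => h1 ?_
      have := Nat.find_spec hex
      rwa [h, pow_zero, pow_one] at this
    refine ⟨(q * s₀) ^ (2 ^ j), Subgroup.pow_mem _ hS1 _, Nat.find_min hex (by omega), ?_,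
      fun e he => (hfix e he).pow_left _⟩
    rw [← pow_add, ← two_mul, ← pow_succ', ← hj]
    exact Nat.find_spec hex
  refine ⟨s, hsS, hsC, ?_⟩
  by_contra hV
  set P : Subgroup G := (S : Subgroup G) ⊓ D.C ⊓ Subgroup.centralizer (O.E : Set G) with hP
  have hmemP : ∀ x : G, x ∈ P → x ∈ S ∧ x ∈ D.C ∧ ∀ e ∈ O.E, Commute x e := fun x hx =>
    ⟨hx.1.1, hx.1.2, fun e he => (Subgroup.mem_centralizer_iff.1 hx.2 e he).symm⟩
  have hP' : ∀ x : G, x ∈ S → x ∈ D.C → (∀ e ∈ O.E, Commute x e) → x ∈ P := fun x h1 h2 h3 =>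
    ⟨⟨h1, h2⟩, Subgroup.mem_centralizer_iff.2 fun e he => (h3 e he).eq.symm⟩
  have hVP : ∀ v ∈ D.V, v ∈ P := fun v hv => hP' v (D.V_le S hv) (D.V_le_C hv)
    fun e he => D.commute_of_mem_C (O.le_C he) hv
  haveI hcyc : IsCyclic P := by
    refine isCyclic_of_unique_involution (S.isPGroup'.to_le (inf_le_left.trans inf_le_left))
      ⟨D.w, hVP _ D.hw⟩
      (fun x => Subtype.ext (D.commute_of_mem_C (hmemP _ x.2).2.1 D.hw).eq.symm)
      (fun h => D.hz1 (D.hz.trans (congrArg Subtype.val h))) ?_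
    intro u v hu hu1 hv hv1
    have key : ∀ x : P, x ^ 2 = 1 → x ≠ 1 → (x : G) = D.z := fun x hx hx1 => by
      by_contra hne
      obtain ⟨e, he, hec⟩ := D.not_centralized O (hmemP _ x.2).1 (hmemP _ x.2).2.1
        ⟨by simpa [pow_two] using congrArg Subtype.val hx, fun h => hx1 (Subtype.ext h), hne⟩
      exact hec ((hmemP _ x.2).2.2 e he)
    exact Subtype.ext ((key u hu hu1).trans (key v hv hv1).symm)
  have hs2 : s * s ∈ P := hP' _ (Subgroup.mul_mem _ hsS hsS) hs2C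
    fun e he => (hsE e he).mul_left (hsE e he)
  haveI := D.cyclic_V
  obtain ⟨v₀, hv₀⟩ := IsCyclic.exists_generator (α := D.V)
  have hgen : ∀ v ∈ D.V, v ∈ Subgroup.zpowers (v₀ : G) := fun v hv => by
    obtain ⟨i, hi⟩ := Subgroup.mem_zpowers_iff.1 (hv₀ ⟨v, hv⟩)
    exact Subgroup.mem_zpowers_iff.2 ⟨i, by rw [← SubgroupClass.coe_zpow, hi]⟩
  obtain ⟨a, ha⟩ : ∃ a, orderOf (s * s) = 2 ^ a := by
    obtain ⟨n, hn⟩ := exists_pow_two_pow (S := S) (Subgroup.mul_mem _ hsS hsS)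
    exact ⟨_, ((Nat.dvd_prime_pow Nat.prime_two).1 (orderOf_dvd_of_pow_eq_one hn)).choose_spec.2⟩
  obtain ⟨b, hb⟩ : ∃ b, orderOf (v₀ : G) = 2 ^ b := by
    obtain ⟨n, hn⟩ := exists_pow_two_pow (S := S) (D.V_le S v₀.2)
    exact ⟨_, ((Nat.dvd_prime_pow Nat.prime_two).1 (orderOf_dvd_of_pow_eq_one hn)).choose_spec.2⟩
  rcases le_total a b with hab | hab
  · exact hV (Subgroup.zpowers_le.2 v₀.2
      (mem_zpowers_of_dvd hs2 (hVP _ v₀.2) (ha ▸ hb ▸ pow_dvd_pow 2 hab)))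
  · have h := mem_zpowers_of_dvd (hVP _ v₀.2) hs2 (ha ▸ hb ▸ pow_dvd_pow 2 hab)
    refine hsC ?_
    rw [D.hC]
    refine Subgroup.mem_centralizer_iff.2 fun v hv => ?_
    obtain ⟨i, rfl⟩ := Subgroup.mem_zpowers_iff.1 (hgen v hv)
    obtain ⟨k, hk⟩ := Subgroup.mem_zpowers_iff.1 h
    rw [← hk]
    exact ((((Commute.refl s).mul_left (Commute.refl s)).zpow_left k).zpow_left i).eq

include D in
/-- The standing assumptions are contradictory. -/
theorem contradiction_of_setup : False := by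
  haveI : Fact (Nat.Prime 2) := ⟨Nat.prime_two⟩
  haveI := D.normal_V
  haveI := D.normal_C
  obtain ⟨S⟩ : Nonempty (Sylow 2 G) := inferInstance
  obtain ⟨T, hTS⟩ := D.two S
  obtain ⟨t, htT, htC, ht⟩ := D.exists_inv T
  obtain ⟨s, hsS, hsC, hs2⟩ := D.exists_sq_mem S
  haveI hcyc : IsCyclic ↥((S : Subgroup G) ⊓ (T : Subgroup G)) := D.meet S T (Ne.symm hTS)
  set e := s * s with he
  set x := t * s with hx
  have htinv : t⁻¹ = t := inv_eq_of_mul_eq_one_left ht.1
  have hxC : x ∉ D.C := fun h => hsC (by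
    have := D.C.mul_mem htC h
    rwa [hx, ← mul_assoc, ht.1, one_mul] at this)
  have hst : s * t = e * x⁻¹ := by rw [hx, mul_inv_rev, htinv, he]; group
  have hte : Commute e t := D.commute_of_mem_C htC hs2
  have hse : Commute e s := (Commute.refl s).mul_left (Commute.refl s)
  have hex : Commute e x := hte.mul_right hse
  have hx2C : x * x ∈ D.C := by
    rw [hx, show t * s * (t * s) = t * (s * t * s⁻¹) * (s * s) by group]
    exact D.C.mul_mem (D.C.mul_mem htC (D.normal_C.conj_mem t htC s)) (D.V_le_C hs2)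
  set m := orderOf (QuotientGroup.mk x : G ⧸ D.V) with hm
  have hxm : x ^ m ∈ D.V := by
    rw [← QuotientGroup.eq_one_iff, QuotientGroup.mk_pow, hm, pow_orderOf_eq_one]
  rcases Nat.even_or_odd m with ⟨k, hk⟩ | hodd
  swap
  · exact hxC (D.mem_C_of_pow hodd (D.V_le_C hxm))
  set c := x ^ k with hc
  have hmpos : 0 < m := orderOf_pos _
  have hc2 : c * c ∈ D.V := by rw [hc, ← pow_add, ← hk]; exact hxm
  have hcV : c ∉ D.V := fun h => by
    rw [hc, ← QuotientGroup.eq_one_iff, QuotientGroup.mk_pow] at h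
    have := Nat.le_of_dvd (by omega) (orderOf_dvd_of_pow_eq_one h)
    omega
  set a := e ^ k * (c * c)⁻¹ with ha
  have haV : a ∈ D.V := D.V.mul_mem (D.V.pow_mem hs2 _) (D.V.inv_mem hc2)
  have hpow : (s * t) ^ k = a * c := by
    rw [hst, hex.inv_right.mul_pow, inv_pow, ← hc, ha]
    group
  have htc : t * c * t⁻¹ = a * c := by
    rw [← hpow, hc, ← conj_pow]
    congr 1
    rw [hx, ← mul_assoc, ht.1, one_mul, htinv]
  have hsc : s * c * s⁻¹ = a * c := by
    rw [← hpow, hc, ← conj_pow]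
    congr 1
    rw [hx]; group
  obtain ⟨n, hn⟩ : ∃ n : ℕ, c ^ (2 ^ n) = 1 := by
    obtain ⟨n, hn⟩ := exists_pow_two_pow (D.V_le S hc2)
    exact ⟨n + 1, pow_two_pow_of_sq hn⟩
  have hcs : c * s * c⁻¹ = a⁻¹ * s := by
    calc c * s * c⁻¹ = c * (s * c * s⁻¹)⁻¹ * s := by group
      _ = a⁻¹ * s := by rw [hsc]; group
  have hct : c * t * c⁻¹ = a⁻¹ * t := by
    calc c * t * c⁻¹ = c * (t * c * t⁻¹)⁻¹ * t := by group
      _ = a⁻¹ * t := by rw [htc]; group
  have hcS : c ∈ S := by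
    obtain ⟨v, hv, hvs⟩ : ∃ v ∈ D.V, ¬ Commute v s := by
      by_contra hcon
      push Not at hcon
      exact hsC (D.hC ▸ Subgroup.mem_centralizer_iff.2 fun v hv => (hcon v hv).eq)
    refine D.meet.mem_of_conj hn (Or.inl hvs) (D.V_le S hv) hsS
      (D.V_le S (D.normal_V.conj_mem v hv c)) ?_
    rw [hcs]
    exact (S : Subgroup G).mul_mem (D.V_le S (D.V.inv_mem haV)) hsS
  have hcT : c ∈ T := by
    refine D.meet.mem_of_conj hn (ht.bad D) htT (D.z_mem_sylow T) ?_ (by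
      rw [D.z_conj]; exact D.z_mem_sylow T)
    rw [hct]
    exact (T : Subgroup G).mul_mem (D.V_le T (D.V.inv_mem haV)) htT
  have hcK : c ∈ (S : Subgroup G) ⊓ (T : Subgroup G) := ⟨hcS, hcT⟩
  have hcC : c ∈ D.C := by
    rw [D.hC]
    exact Subgroup.mem_centralizer_iff.2 fun v hv =>
      (commute_of_cyclic (Subgroup.mem_inf.2 ⟨D.V_le S hv, D.V_le T hv⟩) hcK).eq
  obtain ⟨i, hi⟩ : Even k := by
    rcases Nat.even_or_odd k with h | h
    · exact h
    · exact absurd (D.mem_C_of_pow h hcC) hxC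
  have hta : Commute t a := (D.commute_of_mem_C htC haV).symm
  have hca : Commute c a := (D.commute_of_mem_C hcC haV).symm
  have ha2 : a * a = 1 := by
    have h1 : t * (a * c) * t⁻¹ = a * (a * c) := by
      rw [show t * (a * c) * t⁻¹ = (t * a * t⁻¹) * (t * c * t⁻¹) by group, htc,
        show t * a * t⁻¹ = a by rw [hta.eq, mul_inv_cancel_right]]
    rw [← htc, show t * (t * c * t⁻¹) * t⁻¹ = (t * t) * c * (t * t)⁻¹ by group, ht.1] at h1
    rw [htc] at h1
    simpa [← mul_assoc] using h1.symm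
  -- `c * c` is the square of an element of `V`
  obtain ⟨v, hv, hvc⟩ : ∃ v ∈ D.V, c * c = v * v := by
    have h0 : c * c = a⁻¹ * e ^ k := by
      rw [ha, mul_inv_rev, inv_inv, mul_assoc, inv_mul_cancel, mul_one]
    rw [hi, pow_add] at h0
    rcases D.involution_V haV ha2 with h | h
    · exact ⟨e ^ i, D.V.pow_mem hs2 _, by rw [h0, h, inv_one, one_mul]⟩
    · refine ⟨D.w * e ^ i, D.V.mul_mem D.hw (D.V.pow_mem hs2 _), ?_⟩
      haveI := D.cyclic_V
      rw [h0, h, inv_eq_of_mul_eq_one_left D.hz2, D.hz]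
      exact (commute_of_cyclic D.hw (D.V.pow_mem hs2 i)).mul_mul_mul_comm _ _
  have hcv : Commute c v := (D.commute_of_mem_C hcC hv).symm
  set d := c * v⁻¹ with hd
  have hd2 : d * d = 1 := by
    rw [hd, hcv.inv_right.symm.mul_mul_mul_comm, ← mul_inv_rev, hvc, mul_inv_cancel]
  have hdK : d ∈ (S : Subgroup G) ⊓ (T : Subgroup G) := by
    rw [hd]
    exact Subgroup.mul_mem _ hcK (Subgroup.inv_mem _ ⟨D.V_le S hv, D.V_le T hv⟩)
  have hdV : d ∈ D.V := by
    by_cases h1 : d = 1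
    · rw [h1]; exact D.V.one_mem
    · rw [eq_of_sq_one hdK ⟨D.z_mem_sylow S, D.z_mem_sylow T⟩ hd2 D.hz2 h1 D.hz1]
      exact D.z_mem
  refine hcV ?_
  rw [show c = d * v by rw [hd, inv_mul_cancel_right]]
  exact D.V.mul_mem hdV hv

end Setup

/-- With trivial core and at least two Sylow 2-subgroups, `O₂` is cyclic and central. -/
theorem pCore_cyclic_central (hI : CyclicMeet G) (hO : Cfsg.oddCore G = ⊥)
    (htwo : ∀ S : Sylow 2 G, ∃ T : Sylow 2 G, T ≠ S) :
    IsCyclic (Cfsg.pCore 2 G) ∧ Cfsg.pCore 2 G ≤ Subgroup.center G := by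
  haveI : Fact (Nat.Prime 2) := ⟨Nat.prime_two⟩
  haveI hVn : (Cfsg.pCore 2 G).Normal := CfsgLib.Solvable.pCore_normal 2 G
  obtain ⟨S⟩ : Nonempty (Sylow 2 G) := inferInstance
  obtain ⟨T, hT⟩ := htwo S
  haveI := hI T S hT
  haveI hVc : IsCyclic (Cfsg.pCore 2 G) := Subgroup.isCyclic_of_le
    (le_inf (CfsgLib.Solvable.pCore_le_sylow T) (CfsgLib.Solvable.pCore_le_sylow S))
  refine ⟨hVc, ?_⟩
  by_contra hcen
  obtain ⟨v₀, hv₀⟩ := IsCyclic.exists_generator (α := Cfsg.pCore 2 G)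
  obtain ⟨n, hn⟩ := IsPGroup.iff_orderOf.1 (CfsgLib.Solvable.pCore_isPGroup 2 G) v₀
  rw [← Subgroup.orderOf_coe] at hn
  have hpow : ∀ v ∈ Cfsg.pCore 2 G, v ∈ Subgroup.zpowers (v₀ : G) := fun v hv => by
    obtain ⟨i, hi⟩ := Subgroup.mem_zpowers_iff.1 (hv₀ ⟨v, hv⟩)
    exact Subgroup.mem_zpowers_iff.2 ⟨i, by rw [← SubgroupClass.coe_zpow, hi]⟩
  by_cases hn2 : n ≤ 1
  · refine hcen fun v hv => Subgroup.mem_center_iff.2 fun g => ?_
    by_cases hv1 : v = 1
    · simp [hv1]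
    have hsq : ∀ u ∈ Cfsg.pCore 2 G, u * u = 1 := fun u hu => by
      obtain ⟨i, rfl⟩ := Subgroup.mem_zpowers_iff.1 (hpow u hu)
      rw [← zpow_add, ← two_mul, zpow_mul, zpow_two, ← pow_two,
        orderOf_dvd_iff_pow_eq_one.1 (hn ▸ (pow_dvd_pow 2 hn2).trans (by norm_num) :
          orderOf (v₀ : G) ∣ 2), one_zpow]
    have hg := hVn.conj_mem v hv g
    exact (mul_inv_eq_iff_eq_mul.1 (eq_of_sq_one hg hv (hsq _ hg) (hsq _ hv)
      (fun h => hv1 (conj_eq_one_iff.1 h)) hv1))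
  refine Setup.contradiction_of_setup (G := G) ⟨hI, htwo, hO, Cfsg.pCore 2 G, rfl,
    Subgroup.centralizer (Cfsg.pCore 2 G : Set G), rfl, fun h => hcen fun v hv => ?_,
    (v₀ : G) ^ (2 ^ (n - 2)), Subgroup.pow_mem _ v₀.2 _, _, rfl, ?_, ?_⟩
  · refine Subgroup.mem_center_iff.2 fun g => ?_
    have hg : g ∈ Subgroup.centralizer (Cfsg.pCore 2 G : Set G) := by
      rw [h]; exact Subgroup.mem_top g
    exact (Subgroup.mem_centralizer_iff.1 hg v hv).symm
  · rw [← pow_add, ← two_mul, ← pow_succ']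
    intro h
    have := (Nat.pow_dvd_pow_iff_le_right (le_refl 2)).1 (hn ▸ orderOf_dvd_of_pow_eq_one h)
    omega
  · rw [← pow_add, ← two_mul, ← pow_succ', ← pow_add, ← two_mul, ← pow_succ']
    exact orderOf_dvd_iff_pow_eq_one.1 (hn ▸ pow_dvd_pow 2 (by omega))

/-- The hypothesis passes to quotients by normal subgroups of odd order. -/
theorem cyclicMeet_quotient (hI : CyclicMeet G) (N : Subgroup G) [N.Normal] :
    CyclicMeet (G ⧸ N) := by
  haveI : Fact (Nat.Prime 2) := ⟨Nat.prime_two⟩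
  intro S' T' hne
  set π := QuotientGroup.mk' N with hπ
  have hsurj : Function.Surjective π := QuotientGroup.mk'_surjective N
  obtain ⟨S, hS⟩ := Sylow.mapSurjective_surjective hsurj 2 S'
  obtain ⟨T, hT⟩ := Sylow.mapSurjective_surjective hsurj 2 T'
  set R : Subgroup (G ⧸ N) := (S' : Subgroup (G ⧸ N)) ⊓ T' with hR
  set U : Subgroup G := (S : Subgroup G) ⊓ R.comap π with hU
  set H : Subgroup G := (T' : Subgroup (G ⧸ N)).comap π with hH
  have hTH : (T : Subgroup G) ≤ H := fun r hr => by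
    rw [hH, Subgroup.mem_comap, ← hT]; exact ⟨r, hr, rfl⟩
  have hUH : U ≤ H := fun u hu => hu.2.2
  obtain ⟨W, hW⟩ := ((S.isPGroup'.to_le (inf_le_left : U ≤ (S : Subgroup G))).comap_of_injective
    H.subtype H.subtype_injective : IsPGroup 2 (U.subgroupOf H)).exists_le_sylow
  obtain ⟨h, hh⟩ := MulAction.exists_smul_eq H (T.subtype hTH) W
  have hUT : U ≤ ((h : G) • T : Sylow 2 G) := fun u hu => by
    have hu' : (⟨u, hUH hu⟩ : H) ∈ W := hW hu
    rw [← hh] at hu'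
    change (⟨u, hUH hu⟩ : H) ∈ ((h • T.subtype hTH : Sylow 2 H) : Subgroup H) at hu'
    rw [Sylow.coe_subgroup_smul, Subgroup.mem_pointwise_smul_iff_inv_smul_mem] at hu'
    show u ∈ ((h : G) • T : Sylow 2 G).toSubgroup
    rw [Sylow.coe_subgroup_smul, Subgroup.mem_pointwise_smul_iff_inv_smul_mem]
    simpa [MulAut.smul_def, Sylow.coe_subtype, Subgroup.mem_subgroupOf] using hu'
  have hne' : S ≠ (h : G) • T := fun e => hne (by
    rw [← hS]
    refine Sylow.ext (((S.mapSurjective hsurj).is_maximal' T'.isPGroup' ?_)).symm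
    rintro _ ⟨r, hr, rfl⟩
    rw [e] at hr
    have hr' : (h : G)⁻¹ * r * (h : G) ∈ H := hTH (mem_smul_sylow.1 hr)
    show r ∈ H
    simpa [mul_assoc] using H.mul_mem (H.mul_mem h.2 hr') (H.inv_mem h.2))
  haveI := hI S _ hne'
  haveI : IsCyclic U := Subgroup.isCyclic_of_le (le_inf inf_le_left hUT)
  let f : U →* R := (π.comp U.subtype).codRestrict R fun u => u.2.2
  refine isCyclic_of_surjective f fun r => ?_
  have hr : (r : G ⧸ N) ∈ ((S.mapSurjective hsurj : Sylow 2 (G ⧸ N)) : Subgroup (G ⧸ N)) := by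
    rw [hS]; exact r.2.1
  obtain ⟨x, hx, hxr⟩ := hr
  exact ⟨⟨x, hx, show π x ∈ R from hxr ▸ r.2⟩, Subtype.ext hxr⟩

/-- The image of a solvable normal subgroup modulo the core is cyclic and central. -/
theorem radical_mod_core (hns : ¬ Group.IsSolvable G) (hI : CyclicMeet G)
    (hFT : ∀ (X : Type u) [Group X] [Finite X], Odd (Nat.card X) → Group.IsSolvable X)
    (N : Subgroup G) [N.Normal] (hN : Group.IsSolvable ↥N) [(Cfsg.oddCore G).Normal] :
    IsCyclic ↥(N.map (QuotientGroup.mk' (Cfsg.oddCore G))) ∧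
      IsPGroup 2 ↥(N.map (QuotientGroup.mk' (Cfsg.oddCore G))) ∧
      N.map (QuotientGroup.mk' (Cfsg.oddCore G)) ≤ Subgroup.center (G ⧸ Cfsg.oddCore G) := by
  haveI : Fact (Nat.Prime 2) := ⟨Nat.prime_two⟩
  set O := Cfsg.oddCore G with hO
  have hOodd : Odd (Nat.card O) := Nat.coprime_two_right.1 (CfsgLib.Solvable.pPrimeCore_card_coprime 2 G)
  have hbot : Cfsg.oddCore (G ⧸ O) = ⊥ := CfsgLib.Solvable.pPrimeCore_quotient_eq_bot O rfl
  have htwo : ∀ S : Sylow 2 (G ⧸ O), ∃ T : Sylow 2 (G ⧸ O), T ≠ S := by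
    intro S
    by_contra hcon
    push Not at hcon
    haveI : Subsingleton (Sylow 2 (G ⧸ O)) := ⟨fun A B => (hcon A).trans (hcon B).symm⟩
    haveI : (S : Subgroup (G ⧸ O)).Normal := S.normal_of_subsingleton
    refine hns (CfsgLib.Solvable.isSolvable_of_normal O (hFT O hOodd)
      (CfsgLib.Solvable.isSolvable_of_normal (S : Subgroup (G ⧸ O)) ?_ (hFT _ ?_)))
    · haveI := S.isPGroup'.isNilpotent
      infer_instance
    · rw [← Subgroup.index_eq_card]
      exact Nat.not_even_iff_odd.1 fun h => S.not_dvd_index (even_iff_two_dvd.1 h)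
  obtain ⟨hcyc, hcen⟩ := pCore_cyclic_central (cyclicMeet_quotient hI O) hbot htwo
  set M := N.map (QuotientGroup.mk' O) with hM
  haveI hMn : M.Normal := Subgroup.Normal.map ‹N.Normal› _ (QuotientGroup.mk'_surjective O)
  haveI : Group.IsSolvable M :=
    Group.isSolvable_of_surjective (f := (QuotientGroup.mk' O).subgroupMap N)
      ((QuotientGroup.mk' O).subgroupMap_surjective N)
  have hMO : Cfsg.oddCore M = ⊥ := by
    have h := CfsgLib.Solvable.map_subtype_pPrimeCore_le (p := 2) M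
    rw [show Cfsg.pPrimeCore 2 (G ⧸ O) = ⊥ from hbot, le_bot_iff] at h
    exact (Subgroup.map_eq_bot_iff_of_injective _ M.subtype_injective).1 h
  haveI : IsCyclic (Cfsg.pCore 2 M) := by
    haveI := Subgroup.isCyclic_of_le (CfsgLib.Solvable.map_subtype_pCore_le (p := 2) M)
    exact isCyclic_of_surjective _
      ((Cfsg.pCore 2 M).equivMapOfInjective M.subtype M.subtype_injective).symm.surjective
  have hMp : IsPGroup 2 M := isPGroup_of_cyclic_pCore hMO inferInstance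
  have hle : M ≤ Cfsg.pCore 2 (G ⧸ O) := CfsgLib.Solvable.le_pCore hMn hMp
  exact ⟨Subgroup.isCyclic_of_le hle, hMp, hle.trans hcen⟩

end CfsgLib.InvChar.CyclicInter
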