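import Cfsg.Agent.Lib.PLocal.Locals
import Cfsg.Agent.S0631

/-!
`p`-constraint of a group with a normal `p`-subgroup whose centralizer is `p`-constrained, and of the
`p`-locals inside constrained subgroups.
-/

set_option autoImplicit false

open Cfsg Subgroup

namespace CfsgLib.InvChar

variable {G : Type*} [Group G] [Finite G] {p : ℕ} [Fact p.Prime]

theorem isPConstrained_congr {H : Type*} [Group H] (e : G ≃* H) :
    IsPConstrained p G ↔ IsPConstrained p H :=
  CfsgLib.PLoc.isPConstrained_iff_of_coprime_ker (f := e.toMonoidHom) e.surjective (by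
    rw [show e.toMonoidHom.ker = ⊥ from (MonoidHom.ker_eq_bot_iff _).mpr e.injective, Subgroup.card_bot]
    exact Nat.coprime_one_left p)

/-- A subgroup of `M` and its image in `G`. -/
theorem isPConstrained_map_subtype {M : Subgroup G} (K : Subgroup ↥M) :
    IsPConstrained p ↥K ↔ IsPConstrained p ↥(K.map M.subtype) :=
  isPConstrained_congr (K.equivMapOfInjective M.subtype M.subtype_injective)

theorem centralizer_subgroupOf_map {M T : Subgroup G} (hT : T ≤ M) :
    (Subgroup.centralizer ((T.subgroupOf M : Subgroup ↥M) : Set ↥M)).map M.subtype =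
      Subgroup.centralizer (T : Set G) ⊓ M := by
  ext x
  constructor
  · rintro ⟨y, hy, rfl⟩
    exact ⟨fun t ht => congrArg Subtype.val (hy ⟨t, hT ht⟩ (Subgroup.mem_subgroupOf.mpr ht)), y.2⟩
  · rintro ⟨hx, hxM⟩
    exact ⟨⟨x, hxM⟩, fun t ht => Subtype.ext (hx (t : G) ht), rfl⟩

theorem normalizer_subgroupOf_map {M T : Subgroup G} (hT : T ≤ M) :
    (Subgroup.normalizer ((T.subgroupOf M : Subgroup ↥M) : Set ↥M)).map M.subtype =
      Subgroup.normalizer (T : Set G) ⊓ M := by
  ext x
  constructor
  · rintro ⟨y, hy, rfl⟩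
    refine ⟨Subgroup.mem_normalizer_iff.mpr fun t => ?_, y.2⟩
    constructor
    · intro ht
      exact Subgroup.mem_subgroupOf.mp ((Subgroup.mem_normalizer_iff.mp hy ⟨t, hT ht⟩).mp ht)
    · intro ht
      have htM : t ∈ M := by
        have h := M.mul_mem (M.mul_mem (M.inv_mem y.2) (hT ht)) y.2
        simpa [mul_assoc] using h
      exact Subgroup.mem_subgroupOf.mp ((Subgroup.mem_normalizer_iff.mp hy ⟨t, htM⟩).mpr ht)
  · rintro ⟨hx, hxM⟩
    exact ⟨⟨x, hxM⟩, Subgroup.mem_normalizer_iff.mpr fun t => Subgroup.mem_normalizer_iff.mp hx (t : G), rfl⟩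

/-- A group with a normal `p`-subgroup with `p`-constrained centralizer is `p`-constrained. -/
theorem isPConstrained_of_centralizer_normal (T : Subgroup G) [T.Normal] (hT : IsPGroup p T)
    (h : IsPConstrained p ↥(Subgroup.centralizer (T : Set G))) : IsPConstrained p G := by
  rw [CfsgLib.PLoc.isPConstrained_iff]
  set π := QuotientGroup.mk' (pPrimeCore p G) with hπ
  have hs : Function.Surjective π := QuotientGroup.mk'_surjective _
  have hcop : (Nat.card π.ker).Coprime p := by
    rw [hπ, QuotientGroup.ker_mk']; exact CfsgLib.PLoc.pPrimeCore_coprime p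
  set D := Subgroup.centralizer ((T.map π : Subgroup _) : Set (G ⧸ pPrimeCore p G)) with hD
  have hTn : (T.map π).Normal := Subgroup.Normal.map inferInstance π hs
  have hDn : D.Normal := by
    rw [hD]; exact Subgroup.normal_centralizer
  have hDc : IsPConstrained p ↥D := by
    rw [hD, CfsgLib.PLoc.centralizer_map_eq hs hcop hT, ← CfsgLib.PLoc.isPConstrained_subgroup_iff hcop]
    exact h
  have hO : pPrimeCore p ↥D = ⊥ := by
    have h1 := CfsgLib.Solvable.map_subtype_pPrimeCore_le (p := p) D
    rw [CfsgLib.PLoc.pPrimeCore_quotient_eq_bot hs (QuotientGroup.ker_mk' _), le_bot_iff,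
      Subgroup.map_eq_bot_iff_of_injective _ D.subtype_injective] at h1
    exact h1
  have hc : Subgroup.centralizer (pCore p ↥D : Set ↥D) ≤ pCore p ↥D :=
    (CfsgLib.PLoc.isPConstrained_iff_of_surjective (f := MonoidHom.id ↥D) Function.surjective_id
      (by rw [hO, MonoidHom.ker_id])).mp hDc
  intro x hx
  have hTle : T.map π ≤ pCore p (G ⧸ pPrimeCore p G) := CfsgLib.PLoc.le_pCore_of hTn (hT.map π)
  have hxD : x ∈ D := fun t ht => hx t (hTle ht)
  have hle := CfsgLib.Solvable.map_subtype_pCore_le (p := p) D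
  have hx' : (⟨x, hxD⟩ : ↥D) ∈ Subgroup.centralizer (pCore p ↥D : Set ↥D) := fun y hy =>
    Subtype.ext (hx (y : G ⧸ pPrimeCore p G) (hle (Subgroup.mem_map_of_mem D.subtype hy)))
  exact hle (Subgroup.mem_map_of_mem D.subtype (hc hx'))

/-- Normalizers of `p`-subgroups of a constrained subgroup `M` lying in `M`. -/
theorem isPConstrained_normalizer_of_le {M T : Subgroup G} (hM : IsPConstrained p ↥M) (hT : IsPGroup p T)
    (hNM : Subgroup.normalizer (T : Set G) ≤ M) : IsPConstrained p ↥(Subgroup.normalizer (T : Set G)) := by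
  have hTM : T ≤ M := le_trans Subgroup.le_normalizer hNM
  have h := (Cfsg.Agent.S0631.result hM (T.subgroupOf M) hT.comap_subtype).1
  rwa [isPConstrained_map_subtype, normalizer_subgroupOf_map hTM, inf_eq_left.mpr hNM] at h

/-- If centralizers of elements of order `p` are constrained, so are all `p`-locals. -/
theorem isPConstrained_normalizer_of_centralizer
    (hC : ∀ x : G, orderOf x = p → IsPConstrained p ↥(Subgroup.centralizer ({x} : Set G)))
    {T : Subgroup G} (hT : IsPGroup p T) (hT1 : T ≠ ⊥) :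
    IsPConstrained p ↥(Subgroup.normalizer (T : Set G)) := by
  have : Nontrivial ↥T := (Subgroup.nontrivial_iff_ne_bot T).mpr hT1
  have hZ : Nontrivial ↥(Subgroup.center ↥T) := hT.center_nontrivial
  have hdvd : p ∣ Nat.card ↥(Subgroup.center ↥T) := by
    obtain ⟨k, hk, hkc⟩ := (hT.to_subgroup (Subgroup.center ↥T)).nontrivial_iff_card.mp hZ
    exact hkc ▸ dvd_pow_self p hk.ne'
  obtain ⟨z, hz⟩ := exists_prime_orderOf_dvd_card' p hdvd
  set x : G := ((z : ↥T) : G) with hx
  have hxo : orderOf x = p := by rw [hx, Subgroup.orderOf_coe, Subgroup.orderOf_coe, hz]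
  have hTC : T ≤ Subgroup.centralizer ({x} : Set G) := fun t ht =>
    Subgroup.mem_centralizer_singleton_iff.mpr
      (congrArg Subtype.val (Subgroup.mem_center_iff.mp z.2 ⟨t, ht⟩))
  have hCle : Subgroup.centralizer (T : Set G) ≤ Subgroup.centralizer ({x} : Set G) := fun g hg =>
    Subgroup.mem_centralizer_singleton_iff.mpr (hg x (z : ↥T).2).symm
  have h := (Cfsg.Agent.S0631.result (hC x hxo) (T.subgroupOf (Subgroup.centralizer ({x} : Set G)))
    hT.comap_subtype).2
  rw [isPConstrained_map_subtype, centralizer_subgroupOf_map hTC, inf_eq_left.mpr hCle] at h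
  have hTN : T ≤ Subgroup.normalizer (T : Set G) := Subgroup.le_normalizer
  have : (T.subgroupOf (Subgroup.normalizer (T : Set G))).Normal :=
    (Subgroup.normal_subgroupOf_iff_le_normalizer hTN).mpr le_rfl
  refine isPConstrained_of_centralizer_normal (T.subgroupOf (Subgroup.normalizer (T : Set G))) hT.comap_subtype ?_
  rwa [isPConstrained_map_subtype, centralizer_subgroupOf_map hTN,
    inf_eq_left.mpr (Subgroup.centralizer_le_normalizer _)]

end CfsgLib.InvChar
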