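import Cfsg.Prelude.Def_CaseTheorems
import Cfsg.Prelude.Def_OddOrderLocal
import Cfsg.Agent.Lib.InvChar.Basic
import Cfsg.Agent.Lib.PLocal.Locals
import Cfsg.Agent.Lib.Balance.Orbit
import Cfsg.Agent.Lib.Solvable.CoprimeGeneration
import Cfsg.Agent.Lib.Fusion.AlperinGroup
import Cfsg.Agent.S3246

/-!
Groups of characteristic 2 type in the early sense: all involution centralisers have trivial odd
core, and, if the centres of the maximal 2-local 2-cores are cyclic, a central involution of a
Sylow 2-subgroup is isolated.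
-/

set_option autoImplicit false

open Subgroup CfsgLib.Balance

set_option linter.unusedSectionVars false
set_option linter.unusedVariables false

namespace CfsgLib.InvChar.Early

variable {G : Type*} [Group G] [Finite G]

/-- Local hypothesis: every 2-local is constrained. -/
def AllConstrained (G : Type*) [Group G] : Prop :=
  ∀ T : Subgroup G, IsPGroup 2 ↥T → T ≠ ⊥ →
    Cfsg.IsPConstrained 2 ↥(Subgroup.normalizer (T : Set G))

theorem centralizer_eq_normalizer_zpowers {t : G} (ht : t * t = 1) :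
    Subgroup.centralizer ({t} : Set G) = Subgroup.normalizer ((Subgroup.zpowers t : Subgroup G) : Set G) := by
  refine le_antisymm (fun g hg => centralizer_le_normalizer _ ?_) (fun g hg => ?_)
  · intro s hs
    obtain ⟨k, rfl⟩ := Subgroup.mem_zpowers_iff.mp hs
    exact ((show Commute t g from (mem_centralizer_singleton_iff.mp hg).symm).zpow_left k).eq
  · have h1 := (mem_normalizer_iff.mp hg t).mp (mem_zpowers t)
    obtain ⟨k, hk⟩ := Subgroup.mem_zpowers_iff.mp h1
    rw [mem_centralizer_singleton_iff]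
    rcases Int.even_or_odd k with ⟨i, rfl⟩ | ⟨i, rfl⟩
    · rw [zpow_add, ← (Commute.refl t).mul_zpow, ht, one_zpow] at hk
      have h2 : t = 1 := conj_eq_one_iff.mp hk.symm
      simp [h2]
    · rw [zpow_add, zpow_mul, zpow_two, ht, one_zpow, one_mul, zpow_one] at hk
      exact (eq_mul_inv_iff_mul_eq.mp hk).symm

theorem isPGroup_zpowers_of_mul_self {t : G} (ht : t * t = 1) : IsPGroup 2 ↥(Subgroup.zpowers t) :=
  fun ⟨x, hx⟩ => ⟨1, Subtype.ext (by
    obtain ⟨k, rfl⟩ := Subgroup.mem_zpowers_iff.mp hx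
    show (t ^ k) ^ (2 ^ 1) = 1
    rw [pow_one, pow_two, ← (Commute.refl t).mul_zpow, ht, one_zpow])⟩

theorem AllConstrained.centralizer (h : AllConstrained G) {t : G} (ht : t * t = 1) (ht1 : t ≠ 1) :
    Cfsg.IsPConstrained 2 ↥(Subgroup.centralizer ({t} : Set G)) := by
  rw [centralizer_eq_normalizer_zpowers ht]
  exact h _ (isPGroup_zpowers_of_mul_self ht) (by simpa using ht1)

/-- In a constrained group the odd core of the centraliser of a 2-subgroup lies in the odd core. -/
theorem coreP_centralizer_le (hG : Cfsg.IsPConstrained 2 G) {P : Subgroup G} (hP : IsPGroup 2 ↥P) :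
    coreP 2 (Subgroup.centralizer (P : Set G)) ≤ Cfsg.pPrimeCore 2 G := by
  have hn : (Cfsg.pPrimeCore 2 G).Normal := CfsgLib.Solvable.pPrimeCore_normal 2 G
  set π := QuotientGroup.mk' (Cfsg.pPrimeCore 2 G) with hπ
  have hs : Function.Surjective π := QuotientGroup.mk'_surjective _
  have hcop : (Nat.card π.ker).Coprime 2 := by
    rw [hπ, QuotientGroup.ker_mk']; exact CfsgLib.PLoc.pPrimeCore_coprime 2
  have hc := CfsgLib.PLoc.isPConstrained_iff.mp hG
  set L := Subgroup.centralizer ((P.map π : Subgroup _) : Set (G ⧸ Cfsg.pPrimeCore 2 G)) with hL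
  have hbot : coreP 2 L = ⊥ := by
    rw [coreP, CfsgLib.PLoc.pPrimeCore_local_eq_bot hc (hP.map π) (centralizer_le_normalizer _) le_rfl
      (Or.inr le_rfl), Subgroup.map_bot]
  have hL' : L = (Subgroup.centralizer (P : Set G)).map π := CfsgLib.PLoc.centralizer_map_eq hs hcop hP
  have hle : (coreP 2 (Subgroup.centralizer (P : Set G))).map π ≤ coreP 2 L := by
    refine le_coreP ?_ ?_ ?_
    · rw [hL']; exact map_mono (coreP_le 2 _)
    · rw [hL']
      exact (map_mono (le_normalizer_coreP 2 _)).trans (le_normalizer_map π)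
    · exact (coreP_coprime 2 _).coprime_dvd_left (card_map_dvd _ _)
  rw [hbot, le_bot_iff, Subgroup.map_eq_bot_iff, hπ, QuotientGroup.ker_mk'] at hle
  exact hle

/-- The signalizer `O(C(t))`. -/
abbrev theta (t : G) : Subgroup G := coreP 2 (Subgroup.centralizer ({t} : Set G))

theorem odd_theta (t : G) : Odd (Nat.card ↥(theta t)) :=
  Nat.coprime_two_right.mp (coreP_coprime 2 _)

/-- Balance. -/
theorem AllConstrained.balance (h : AllConstrained G) {v w : G} (hw : w * w = 1) (hw1 : w ≠ 1)
    (hv : v * v = 1) (hvw : v * w = w * v) :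
    theta v ⊓ Subgroup.centralizer ({w} : Set G) ≤ theta w := by
  rintro x ⟨hx, hxw⟩
  set C := Subgroup.centralizer ({w} : Set G) with hC
  have hvC : v ∈ C := mem_centralizer_singleton_iff.mpr hvw
  let v' : ↥C := ⟨v, hvC⟩
  have hv' : v' * v' = 1 := Subtype.ext hv
  have hcent : Subgroup.centralizer ((Subgroup.zpowers v' : Subgroup ↥C) : Set ↥C) =
      Subgroup.centralizer ({v'} : Set ↥C) := by
    refine le_antisymm (fun g hg => mem_centralizer_singleton_iff.mpr (hg v' (mem_zpowers v')).symm)
      (fun g hg s hs => ?_)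
    obtain ⟨k, rfl⟩ := Subgroup.mem_zpowers_iff.mp hs
    exact ((show Commute v' g from (mem_centralizer_singleton_iff.mp hg).symm).zpow_left k).eq
  have hle : (theta v).subgroupOf C ≤ coreP 2 (Subgroup.centralizer ((Subgroup.zpowers v' : Subgroup ↥C) : Set ↥C)) := by
    rw [hcent]
    refine le_coreP (fun y hy => ?_) (le_normalizer_iff.mpr fun g hg y hy => ?_) ?_
    · rw [mem_centralizer_singleton_iff]
      exact Subtype.ext (mem_centralizer_singleton_iff.mp (coreP_le 2 _ (mem_subgroupOf.mp hy)))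
    · rw [mem_subgroupOf] at hy ⊢
      exact le_normalizer_iff.mp (le_normalizer_coreP 2 _) (g : G)
        (mem_centralizer_singleton_iff.mpr
          (congrArg Subtype.val (mem_centralizer_singleton_iff.mp hg))) (y : G) hy
    · exact (coreP_coprime 2 _).coprime_dvd_left (card_comap_dvd_of_injective _ _ C.subtype_injective)
  exact ⟨⟨x, hxw⟩, coreP_centralizer_le (h.centralizer hw hw1) (isPGroup_zpowers_of_mul_self hv')
    (hle (mem_subgroupOf.mpr hx)), rfl⟩

/-- Conjugation carries `O(C(t))` to `O(C(gtg⁻¹))`. -/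
theorem conj_mem_theta {g t x : G} (hx : x ∈ theta t) : g * x * g⁻¹ ∈ theta (g * t * g⁻¹) := by
  refine le_coreP (p := 2) (N := conjSub g (theta t)) ?_ ?_ ?_ (conj_mem_conjSub hx)
  · rintro _ ⟨y, hy, rfl⟩
    have h1 := mem_centralizer_singleton_iff.mp (coreP_le 2 _ hy)
    rw [mem_centralizer_singleton_iff]
    show g * y * g⁻¹ * (g * t * g⁻¹) = g * t * g⁻¹ * (g * y * g⁻¹)
    rw [conj_mul, conj_mul, h1]
  · rw [le_normalizer_iff]
    intro c hc y hy
    rw [mem_conjSub] at hy ⊢
    have hc' : g⁻¹ * c * g ∈ Subgroup.centralizer ({t} : Set G) := by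
      have h2 := mem_centralizer_singleton_iff.mp hc
      rw [mem_centralizer_singleton_iff]
      calc g⁻¹ * c * g * t = g⁻¹ * (c * (g * t * g⁻¹)) * g := by simp [mul_assoc]
        _ = t * (g⁻¹ * c * g) := by rw [h2]; simp [mul_assoc]
    have h3 := le_normalizer_iff.mp (le_normalizer_coreP 2 _) _ hc' _ hy
    simpa [mul_assoc] using h3
  · rw [card_conjSub]; exact coreP_coprime 2 _

/-- A four group acting on an odd group generates it by centralisers of its involutions. -/
theorem le_of_four {E X W : Subgroup G} (hE : ∀ a ∈ E, a * a = 1) (hE2 : 2 < Nat.card ↥E)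
    (hEX : E ≤ Subgroup.normalizer (X : Set G)) (hX : Odd (Nat.card ↥X))
    (hW : ∀ a ∈ E, a ≠ 1 → X ⊓ Subgroup.centralizer {a} ≤ W) : X ≤ W := by
  have : IsMulCommutative ↥E := ⟨⟨fun a b => Subtype.ext (by
    have hab := hE _ (E.mul_mem a.2 b.2)
    have ai : (a : G)⁻¹ = a := inv_eq_of_mul_eq_one_right (hE _ a.2)
    have bi : (b : G)⁻¹ = b := inv_eq_of_mul_eq_one_right (hE _ b.2)
    have abi := inv_eq_of_mul_eq_one_right hab
    rw [mul_inv_rev, ai, bi] at abi
    exact abi.symm)⟩⟩
  have hEp : IsPGroup 2 ↥E := fun a => ⟨1, Subtype.ext (by simpa [pow_two] using hE a a.2)⟩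
  refine CfsgLib.Solvable.le_of_centralizer_le ?_ hEX ?_ hW
  · intro hcyc
    obtain ⟨a, ha⟩ := IsCyclic.exists_generator (α := ↥E)
    have h1 := orderOf_eq_card_of_forall_mem_zpowers ha
    have h2 : orderOf a ∣ 2 := orderOf_dvd_of_pow_eq_one (Subtype.ext (by simpa [pow_two] using hE a a.2))
    have := Nat.le_of_dvd (by norm_num) h2
    omega
  · obtain ⟨n, hn⟩ := hEp.exists_card_eq
    rw [hn]
    exact (Nat.coprime_two_left.mpr hX).pow_left n

/-- The standing hypotheses: a normal elementary subgroup of rank at least three, a central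
involution and the absence of invariant odd subgroups. -/
structure Setup (S : Sylow 2 G) (V : Subgroup G) (z : G) : Prop where
  le : V ≤ (S : Subgroup G)
  normal : (S : Subgroup G) ≤ Subgroup.normalizer (V : Set G)
  sq : ∀ v ∈ V, v * v = 1
  card : 4 < Nat.card ↥V
  z_mem : z ∈ V
  z_ne : z ≠ 1
  z_central : ∀ s ∈ (S : Subgroup G), s * z = z * s
  inv : ∀ X : Subgroup G, Odd (Nat.card ↥X) → (S : Subgroup G) ≤ Subgroup.normalizer (X : Set G) → X = ⊥
  con : AllConstrained G

variable {S : Sylow 2 G} {V : Subgroup G} {z : G}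

theorem Setup.comm (h : Setup S V z) {a b : G} (ha : a ∈ V) (hb : b ∈ V) : a * b = b * a := by
  have hab := inv_eq_of_mul_eq_one_right (h.sq _ (V.mul_mem ha hb))
  rw [mul_inv_rev, inv_eq_of_mul_eq_one_right (h.sq _ ha), inv_eq_of_mul_eq_one_right (h.sq _ hb)] at hab
  exact hab.symm

theorem Setup.le_centralizer (h : Setup S V z) {v : G} (hv : v ∈ V) :
    V ≤ Subgroup.centralizer ({v} : Set G) :=
  fun _ ha => mem_centralizer_singleton_iff.mpr (h.comm ha hv)

theorem Setup.theta_z (h : Setup S V z) : theta z = ⊥ :=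
  h.inv _ (odd_theta z) (le_trans (b := Subgroup.centralizer ({z} : Set G))
    (fun _ hs => mem_centralizer_singleton_iff.mpr (h.z_central _ hs)) (le_normalizer_coreP 2 _))

theorem Setup.inverted (h : Setup S V z) {v : G} (hv : v ∈ V) :
    ∀ x ∈ theta v, z * x * z = x⁻¹ := by
  have hzz := h.sq z h.z_mem
  refine Cfsg.Agent.S3246.inverts hzz _ (fun x hx => ?_) (fun x hx hxz => ?_)
  · have := le_normalizer_iff.mp (le_normalizer_coreP 2 _) z (h.le_centralizer hv h.z_mem) x hx
    rwa [inv_eq_of_mul_eq_one_right hzz] at this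
  · have h1 := h.con.balance hzz h.z_ne (h.sq v hv) (h.comm hv h.z_mem)
      ⟨hx, mem_centralizer_singleton_iff.mpr hxz.symm⟩
    rw [h.theta_z] at h1
    exact Subgroup.mem_bot.mp h1

theorem Setup.theta_comm (h : Setup S V z) {v : G} (hv : v ∈ V) {x y : G} (hx : x ∈ theta v)
    (hy : y ∈ theta v) : x * y = y * x := by
  have hzz := h.sq z h.z_mem
  have e : z * (x * y) * z = (z * x * z) * (z * y * z) := by
    calc z * (x * y) * z = z * x * 1 * (y * z) := by simp [mul_assoc]
      _ = _ := by rw [← hzz]; simp [mul_assoc]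
  rw [h.inverted hv _ (mul_mem hx hy), h.inverted hv _ hx, h.inverted hv _ hy, ← mul_inv_rev,
    inv_inj] at e
  exact e

/-- The signalizers at the involutions of `V` commute. -/
theorem Setup.theta_comm' (h : Setup S V z) {v w : G} (hv : v ∈ V) (hv1 : v ≠ 1) (hw : w ∈ V)
    {x y : G} (hx : x ∈ theta v) (hy : y ∈ theta w) : x * y = y * x := by
  have hzpc : ∀ a ∈ V, Nat.card ↥(Subgroup.zpowers a) ≤ 2 := fun a ha => by
    rw [Nat.card_zpowers]
    exact orderOf_le_of_pow_eq_one (by norm_num) (by rw [pow_two, h.sq a ha])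
  obtain ⟨a, haV, hav⟩ : ∃ a ∈ V, a ∉ Subgroup.zpowers v := by
    by_contra hcon
    push Not at hcon
    have h1 := Subgroup.card_le_of_le (fun a ha => hcon a ha : V ≤ Subgroup.zpowers v)
    have := hzpc v hv
    have := h.card
    omega
  set F := Subgroup.zpowers v ⊔ Subgroup.zpowers a with hF
  have hFV : F ≤ V := sup_le (zpowers_le.mpr hv) (zpowers_le.mpr haV)
  obtain ⟨b, hbV, hbF⟩ : ∃ b ∈ V, b ∉ F := by
    by_contra hcon
    push Not at hcon
    have h1 := Subgroup.card_le_of_le (fun a ha => hcon a ha : V ≤ F)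
    have h2 : Nat.card ↥F ≤ Nat.card ↥(Subgroup.zpowers v) * Nat.card ↥(Subgroup.zpowers a) :=
      Nat.le_of_dvd (Nat.mul_pos Nat.card_pos Nat.card_pos) (CfsgLib.Components.card_sup_dvd
        ((zpowers_le.mpr hv).trans ((h.le_centralizer haV).trans (by
          rw [centralizer_eq_normalizer_zpowers (h.sq a haV)]))))
    have h3 := Nat.mul_le_mul (hzpc v hv) (hzpc a haV)
    have := h.card
    omega
  -- the four group `E = ⟨a, b⟩` does not contain `v`
  have haa := h.sq a haV
  have hbb := h.sq b hbV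
  have hba : b * a = a * b := h.comm hbV haV
  let E : Subgroup G :=
    { carrier := {g | g = 1 ∨ g = a ∨ g = b ∨ g = a * b}
      one_mem' := Or.inl rfl
      mul_mem' := by
        have e1 : a * (a * b) = b := by rw [← mul_assoc, haa, one_mul]
        have e2 : b * (a * b) = a := by rw [← mul_assoc, hba, mul_assoc, hbb, mul_one]
        have e3 : a * b * a = b := by rw [mul_assoc, hba, e1]
        have e4 : a * b * b = a := by rw [mul_assoc, hbb, mul_one]
        have e5 : a * b * (a * b) = 1 := by rw [← mul_assoc, e3, hbb]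
        rintro p q (rfl | rfl | rfl | rfl) (rfl | rfl | rfl | rfl) <;>
          simp [haa, hbb, hba, e1, e2, e3, e4, e5]
      inv_mem' := by
        rintro p (rfl | rfl | rfl | rfl) <;>
          simp [inv_eq_of_mul_eq_one_right haa, inv_eq_of_mul_eq_one_right hbb, hba] }
  have hEV : E ≤ V := by
    rintro g (rfl | rfl | rfl | rfl)
    exacts [V.one_mem, haV, hbV, V.mul_mem haV hbV]
  have haF : a ∈ F := Subgroup.mem_sup_right (mem_zpowers a)
  have hvF : v ∈ F := Subgroup.mem_sup_left (mem_zpowers v)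
  have hvE : ∀ g ∈ E, g ≠ 1 → g ≠ v := by
    rintro g (rfl | rfl | rfl | rfl) hg1 hgv
    · exact hg1 rfl
    · exact hav (hgv ▸ mem_zpowers v)
    · exact hbF (hgv ▸ hvF)
    · exact hbF (by
        have := F.mul_mem (F.inv_mem haF) hvF
        rw [← hgv] at this
        simpa using this)
  have hEc : 2 < Nat.card ↥E := by
    have h1 : Nat.card ({1, a, b} : Set G) = 3 := by
      rw [Nat.card_coe_set_eq, Set.ncard_eq_three]
      refine ⟨1, a, b, fun h1 => hav (h1 ▸ one_mem _), fun h1 => hbF (h1 ▸ one_mem _),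
        fun h1 => hbF (h1 ▸ haF), rfl⟩
    calc 2 < Nat.card ({1, a, b} : Set G) := by omega
      _ ≤ Nat.card ↥E := by
        refine Nat.card_mono (Set.toFinite _) ?_
        rintro g (rfl | rfl | rfl)
        exacts [Or.inl rfl, Or.inr (Or.inl rfl), Or.inr (Or.inr (Or.inl rfl))]
  have key : ∀ c ∈ E, c ≠ 1 → ∀ x' ∈ theta v ⊓ Subgroup.centralizer ({c} : Set G),
      theta w ≤ Subgroup.centralizer ({x'} : Set G) := by
    intro c hc hc1 x' hx'
    have hcV := hEV hc
    have hcv := hvE c hc hc1
    have hxc : x' ∈ theta c := h.con.balance (h.sq c hcV) hc1 (h.sq v hv) (h.comm hv hcV) hx'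
    let D : Subgroup G := V ⊓ Subgroup.centralizer ({x'} : Set G)
    have hvD : v ∈ D := ⟨hv, mem_centralizer_singleton_iff.mpr
      (mem_centralizer_singleton_iff.mp (coreP_le 2 _ hx'.1)).symm⟩
    have hcD : c ∈ D := ⟨hcV, mem_centralizer_singleton_iff.mpr
      (mem_centralizer_singleton_iff.mp hx'.2).symm⟩
    have hDc : 2 < Nat.card ↥D := by
      have h1 : Nat.card ({1, v, c} : Set G) = 3 := by
        rw [Nat.card_coe_set_eq, Set.ncard_eq_three]
        exact ⟨1, v, c, Ne.symm hv1, Ne.symm hc1, Ne.symm hcv, rfl⟩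
      calc 2 < Nat.card ({1, v, c} : Set G) := by omega
        _ ≤ Nat.card ↥D := by
          refine Nat.card_mono (Set.toFinite _) ?_
          rintro g (rfl | rfl | rfl)
          exacts [D.one_mem, hvD, hcD]
    refine le_of_four (E := D) (fun g hg => h.sq g hg.1) hDc
      (fun g hg => le_normalizer_coreP 2 _ (h.le_centralizer hw hg.1)) (odd_theta w) ?_
    intro f hf hf1 y' hy'
    have hyf : y' ∈ theta f := h.con.balance (h.sq f hf.1) hf1 (h.sq w hw) (h.comm hw hf.1) hy'
    have hxf : x' ∈ theta f := h.con.balance (h.sq f hf.1) hf1 (h.sq v hv) (h.comm hv hf.1)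
      ⟨hx'.1, mem_centralizer_singleton_iff.mpr (mem_centralizer_singleton_iff.mp hf.2).symm⟩
    exact mem_centralizer_singleton_iff.mpr (h.theta_comm hf.1 hyf hxf)
  have hle : theta v ≤ Subgroup.centralizer ({y} : Set G) := by
    refine le_of_four (E := E) (fun g hg => h.sq g (hEV hg)) hEc
      (fun g hg => le_normalizer_coreP 2 _ (h.le_centralizer hv (hEV hg))) (odd_theta v) ?_
    intro c hc hc1 x' hx'
    exact mem_centralizer_singleton_iff.mpr
      (mem_centralizer_singleton_iff.mp (key c hc hc1 x' hx' hy)).symm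
  exact mem_centralizer_singleton_iff.mp (hle hx)

/-- All involutions of `V` have centraliser with trivial odd core. -/
theorem Setup.theta_eq_bot (h : Setup S V z) {v : G} (hv : v ∈ V) (hv1 : v ≠ 1) : theta v = ⊥ := by
  let s : Set G := {x | ∃ v ∈ V, v ≠ 1 ∧ x ∈ theta v}
  let K : Subgroup G := Subgroup.closure s
  have hcomm : ∀ x ∈ s, ∀ y ∈ s, x * y = y * x := by
    rintro x ⟨a, ha, ha1, hx⟩ y ⟨b, hb, -, hy⟩
    exact h.theta_comm' ha ha1 hb hx hy
  have hKc : ∀ x ∈ K, ∀ y ∈ K, x * y = y * x := by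
    have h1 : K ≤ Subgroup.centralizer s := (Subgroup.closure_le _).mpr fun x hx y hy => (hcomm x hx y hy).symm
    have h2 : K ≤ Subgroup.centralizer (K : Set G) := (Subgroup.closure_le _).mpr fun x hx y hy =>
      (h1 hy x hx).symm
    exact fun x hx y hy => (h2 hx y hy).symm
  have hodd : ∀ x ∈ K, Odd (orderOf x) := by
    intro x hx
    induction hx using Subgroup.closure_induction with
    | mem x hx =>
      obtain ⟨a, -, -, hxa⟩ := hx
      exact (odd_theta a).of_dvd_nat (Subgroup.orderOf_dvd_natCard _ hxa)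
    | one => simp
    | mul x y hxK hyK hx hy =>
      exact (hx.mul hy).of_dvd_nat ((show Commute x y from hKc x hxK y hyK).orderOf_mul_dvd_mul_orderOf)
    | inv x _ hx => rwa [orderOf_inv]
  have hKodd : Odd (Nat.card ↥K) := by
    rw [← Nat.not_even_iff_odd, even_iff_two_dvd]
    intro hdvd
    obtain ⟨x, hx⟩ := exists_prime_orderOf_dvd_card' 2 hdvd
    have := hodd x x.2
    rw [Subgroup.orderOf_coe, hx] at this
    exact absurd this (by decide)
  have hKn : (S : Subgroup G) ≤ Subgroup.normalizer (K : Set G) := by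
    rw [le_normalizer_iff]
    intro g hg x hx
    have hle : K ≤ K.comap (MulAut.conj g).toMonoidHom := (Subgroup.closure_le _).mpr (by
      rintro y ⟨a, ha, ha1, hy⟩
      exact Subgroup.subset_closure ⟨g * a * g⁻¹, (mem_normalizer_iff.mp (h.normal hg) a).mp ha,
        fun h1 => ha1 (conj_eq_one_iff.mp h1), conj_mem_theta hy⟩)
    exact hle hx
  have hK := h.inv K hKodd hKn
  rw [eq_bot_iff]
  exact fun x hx => hK ▸ Subgroup.subset_closure ⟨v, hv, hv1, hx⟩

/-- All involution centralisers have trivial odd core. -/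
theorem Setup.theta_eq_bot' (h : Setup S V z) {t : G} (ht : t * t = 1) (ht1 : t ≠ 1) : theta t = ⊥ := by
  obtain ⟨g, hg⟩ := exists_conjSub_le_sylow (isPGroup_zpowers_of_mul_self ht) S
  set u := g * t * g⁻¹ with hu
  have huS : u ∈ (S : Subgroup G) := hg (conj_mem_conjSub (mem_zpowers t))
  have huu : u * u = 1 := by rw [hu, conj_mul, ht, mul_one, mul_inv_cancel]
  suffices hub : theta u = ⊥ by
    rw [eq_bot_iff]
    intro x hx
    have h1 : g * x * g⁻¹ ∈ theta u := conj_mem_theta hx
    rw [hub, Subgroup.mem_bot, conj_eq_one_iff] at h1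
    exact Subgroup.mem_bot.mpr h1
  set D := V ⊓ Subgroup.centralizer ({u} : Set G) with hD
  have hui : u⁻¹ = u := inv_eq_of_mul_eq_one_right huu
  have hnV : ∀ v ∈ V, u * v * u ∈ V := fun v hv => by
    have := (mem_normalizer_iff.mp (h.normal huS) v).mp hv
    rwa [hui] at this
  let φ : ↥V →* ↥V :=
    { toFun := fun v => ⟨(v : G) * (u * v * u), V.mul_mem v.2 (hnV v v.2)⟩
      map_one' := Subtype.ext (by simp [huu])
      map_mul' := fun a b => Subtype.ext (by
        show (a : G) * b * (u * (a * b) * u) = a * (u * a * u) * (b * (u * b * u))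
        calc (a : G) * b * (u * (a * b) * u) = a * (b * (u * a * u)) * (u * b * u) := by
              simp only [mul_assoc]
              rw [← mul_assoc u u, huu, one_mul]
          _ = a * ((u * a * u) * b) * (u * b * u) := by rw [h.comm b.2 (hnV a a.2)]
          _ = _ := by simp only [mul_assoc]) }
  have hker : φ.ker = D.subgroupOf V := by
    ext v
    rw [MonoidHom.mem_ker, mem_subgroupOf, hD, mem_inf, and_iff_right v.2,
      mem_centralizer_singleton_iff]
    constructor
    · intro h1
      have h1' : (v : G) * (u * v * u) = 1 := congrArg Subtype.val h1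
      have h2 := inv_eq_of_mul_eq_one_right h1'
      rw [inv_eq_of_mul_eq_one_right (h.sq _ v.2)] at h2
      calc (v : G) * u = u * v * u * u := by rw [← h2]
        _ = u * v := by rw [mul_assoc, huu, mul_one]
    · intro h1
      refine Subtype.ext ?_
      show (v : G) * (u * v * u) = 1
      rw [← h1, mul_assoc (v : G) u u, huu, mul_one, h.sq _ v.2]
  have hrk : φ.range ≤ φ.ker := by
    rintro _ ⟨v, rfl⟩
    rw [MonoidHom.mem_ker]
    refine Subtype.ext ?_
    show (v : G) * (u * v * u) * (u * ((v : G) * (u * v * u)) * u) = 1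
    have e : u * ((v : G) * (u * v * u)) * u = u * v * u * v := by simp [mul_assoc, huu]
    rw [e, h.comm (hnV v v.2) v.2]
    exact h.sq _ (V.mul_mem v.2 (hnV v v.2))
  have hD2 : 2 < Nat.card ↥D := by
    have h1 : Nat.card ↥V = Nat.card ↥φ.ker * Nat.card ↥φ.range := by
      rw [← Subgroup.index_ker, Subgroup.card_mul_index]
    have h2 := Subgroup.card_le_of_le hrk
    have h3 : Nat.card ↥φ.ker = Nat.card ↥D := by
      rw [hker]; exact Nat.card_congr (subgroupOfEquivOfLe inf_le_left).toEquiv
    by_contra h4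
    have h5 : Nat.card ↥φ.ker * Nat.card ↥φ.range ≤ 2 * 2 := Nat.mul_le_mul (by omega) (by omega)
    have := h.card
    omega
  rw [eq_bot_iff]
  refine le_of_four (E := D) (fun g hg => h.sq g hg.1) hD2
    (fun g hg => le_normalizer_coreP 2 _ hg.2) (odd_theta u) ?_
  intro f hf hf1
  rw [← h.theta_eq_bot hf.1 hf1]
  exact h.con.balance (h.sq f hf.1) hf1 huu
    (mem_centralizer_singleton_iff.mp hf.2).symm

/-- Every 2-local has its 2-core self-centralising. -/
theorem Setup.centralizer_pCore_le (h : Setup S V z) {T : Subgroup G} (hT : IsPGroup 2 ↥T)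
    (hT1 : T ≠ ⊥) :
    Subgroup.centralizer (Cfsg.pCore 2 ↥(Subgroup.normalizer (T : Set G)) : Set ↥(Subgroup.normalizer (T : Set G)))
      ≤ Cfsg.pCore 2 ↥(Subgroup.normalizer (T : Set G)) := by
  set N := Subgroup.normalizer (T : Set G) with hN
  have hTnt : Nontrivial ↥T := (Subgroup.nontrivial_iff_ne_bot T).mpr hT1
  obtain ⟨x, -, hx1, hxc⟩ := exists_ne_one_mem_center_of_normal hT (⊤ : Subgroup ↥T) top_ne_bot
  -- an involution in the centre of `T`
  obtain ⟨k, hk⟩ := IsPGroup.iff_orderOf.mp hT x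
  have hk0 : k ≠ 0 := fun h0 => hx1 (orderOf_eq_one_iff.mp (by rw [hk, h0, pow_zero]))
  set y : ↥T := x ^ 2 ^ (k - 1) with hy
  have hyo : orderOf y = 2 := by
    rw [hy, orderOf_pow, hk, Nat.gcd_eq_right (pow_dvd_pow 2 (Nat.sub_le k 1)),
      Nat.pow_div (Nat.sub_le k 1) (by norm_num)]
    rw [show k - (k - 1) = 1 by omega, pow_one]
  have hyc : y ∈ Subgroup.center ↥T := pow_mem hxc _
  set t : G := (y : G) with ht
  have hto : orderOf t = 2 := by rw [ht, Subgroup.orderOf_coe, hyo]
  have htt : t * t = 1 := by rw [← pow_two, ← hto]; exact pow_orderOf_eq_one t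
  have ht1 : t ≠ 1 := fun h1 => by rw [h1, orderOf_one] at hto; omega
  set C := Subgroup.centralizer ({t} : Set G) with hC
  have hTC : T ≤ C := fun s hs => mem_centralizer_singleton_iff.mpr
    (congrArg Subtype.val (Subgroup.mem_center_iff.mp hyc ⟨s, hs⟩))
  have hCT : Subgroup.centralizer (T : Set G) ≤ C := fun g hg =>
    mem_centralizer_singleton_iff.mpr (hg t y.2).symm
  -- the odd core of `N` centralises `T`
  set X := coreP 2 N with hX
  have hXT : X ≤ Subgroup.centralizer (T : Set G) := by
    intro a ha s hs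
    have hd : T ⊓ X = ⊥ := by
      obtain ⟨n, hn⟩ := hT.exists_card_eq
      exact (Subgroup.disjoint_of_coprime_natCard (by rw [hn]; exact ((coreP_coprime 2 N).symm).pow_left n)).eq_bot
    have hc : s * a * s⁻¹ * a⁻¹ ∈ T ⊓ X := by
      refine ⟨?_, ?_⟩
      · have h1 := (mem_normalizer_iff.mp (coreP_le 2 N ha) s⁻¹).mp (T.inv_mem hs)
        have h2 := T.mul_mem hs h1
        simpa [mul_assoc] using h2
      · exact X.mul_mem (le_normalizer_iff.mp (le_normalizer_coreP 2 N) s (Subgroup.le_normalizer hs) a ha)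
          (X.inv_mem ha)
    rw [hd, Subgroup.mem_bot, mul_inv_eq_one, mul_inv_eq_iff_eq_mul] at hc
    exact hc
  have hXb : X = ⊥ := by
    have hCcon := CfsgLib.PLoc.isPConstrained_iff_of_surjective (f := MonoidHom.id ↥C)
      Function.surjective_id (by
        rw [MonoidHom.ker_id]
        exact ((Subgroup.map_eq_bot_iff_of_injective _ C.subtype_injective).mp
          (h.theta_eq_bot' htt ht1)).symm) |>.mp (h.con.centralizer htt ht1)
    set T' := T.subgroupOf C with hT'
    set L := Subgroup.normalizer (T' : Set ↥C) with hL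
    have hbot : coreP 2 L = ⊥ := by
      have h0 : Cfsg.pPrimeCore 2 ↥L = ⊥ :=
        CfsgLib.PLoc.pPrimeCore_local_eq_bot hCcon (P := T') hT.comap_subtype le_rfl
          (centralizer_le_normalizer _) (Or.inl Subgroup.le_normalizer)
      rw [coreP, h0, Subgroup.map_bot]
    have hle : X.subgroupOf C ≤ coreP 2 L := by
      refine le_coreP (fun a ha => ?_) (le_normalizer_iff.mpr fun g hg a ha => ?_) ?_
      · refine centralizer_le_normalizer _ fun s hs => Subtype.ext ?_
        exact hXT (mem_subgroupOf.mp ha) (s : G) (mem_subgroupOf.mp hs)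
      · rw [mem_subgroupOf] at ha ⊢
        refine le_normalizer_iff.mp (le_normalizer_coreP 2 N) (g : G) ?_ (a : G) ha
        rw [hN, mem_normalizer_iff]
        intro s
        constructor
        · intro hs
          exact mem_subgroupOf.mp ((mem_normalizer_iff.mp hg ⟨s, hTC hs⟩).mp (mem_subgroupOf.mpr hs))
        · intro hs
          have hsC : s ∈ C := by
            have := C.mul_mem (C.mul_mem (C.inv_mem g.2) (hTC hs)) g.2
            simpa [mul_assoc] using this
          exact mem_subgroupOf.mp ((mem_normalizer_iff.mp hg ⟨s, hsC⟩).mpr (mem_subgroupOf.mpr hs))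
      · exact (coreP_coprime 2 N).coprime_dvd_left (card_comap_dvd_of_injective _ _ C.subtype_injective)
    rw [hbot, le_bot_iff, Subgroup.subgroupOf_eq_bot, disjoint_iff,
      inf_eq_left.mpr (hXT.trans hCT)] at hle
    exact hle
  exact (CfsgLib.PLoc.isPConstrained_iff_of_surjective (f := MonoidHom.id ↥N) Function.surjective_id (by
    rw [MonoidHom.ker_id]
    exact ((Subgroup.map_eq_bot_iff_of_injective _ N.subtype_injective).mp hXb).symm)).mp
    (h.con T hT hT1)

end CfsgLib.InvChar.Early
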