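import Mathlib.Combinatorics.SimpleGraph.Diam
import Mathlib.Tactic.NormNum

/-!
# Graphs of diameter two
-/

set_option autoImplicit false

namespace CfsgLib.InvChar

/-- A graph in which nonadjacent distinct vertices exist and always have a common neighbour. -/
theorem connected_and_diam_two {α : Type*} {Γ : SimpleGraph α}
    (hcommon : ∀ x y : α, x ≠ y → ¬ Γ.Adj x y → ∃ z, Γ.Adj x z ∧ Γ.Adj z y)
    (hex : ∃ x y : α, x ≠ y ∧ ¬ Γ.Adj x y) : Γ.Connected ∧ Γ.diam = 2 := by
  obtain ⟨x, y, hxy, hna⟩ := hex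
  haveI : Nonempty α := ⟨x⟩
  have hle : Γ.ediam ≤ 2 := by
    refine SimpleGraph.ediam_le_of_edist_le fun u v => ?_
    by_cases huv : u = v
    · subst huv; simp
    by_cases hadj : Γ.Adj u v
    · exact le_trans (le_of_eq (SimpleGraph.edist_eq_one_iff_adj.2 hadj)) (by norm_num)
    · obtain ⟨z, h1, h2⟩ := hcommon u v huv hadj
      exact le_trans (SimpleGraph.edist_le (.cons h1 (.cons h2 .nil))) (by simp)
  have hne : Γ.ediam ≠ ⊤ := ne_top_of_le_ne_top (by simp) hle
  refine ⟨SimpleGraph.connected_of_ediam_ne_top hne, ?_⟩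
  have h2 : (2 : ℕ∞) ≤ Γ.edist x y := by
    by_contra h
    rcases hd : Γ.edist x y with _ | n
    · exact h (by rw [hd]; exact le_top)
    · rw [hd] at h
      match n with
      | 0 => exact hxy (SimpleGraph.edist_eq_zero_iff.1 hd)
      | 1 => exact hna (SimpleGraph.edist_eq_one_iff_adj.1 hd)
      | n + 2 => exact h (WithTop.coe_le_coe.2 (Nat.le_add_left 2 n))
  have heq : Γ.ediam = 2 := le_antisymm hle (h2.trans SimpleGraph.edist_le_ediam)
  rw [SimpleGraph.diam, heq]
  rfl

end CfsgLib.InvChar
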