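import Cfsg.Agent.Lib.InvChar.BSW.Phi

/-!
# The class formula for products of two involutions, one class of involutions
-/

set_option autoImplicit false

open scoped ComplexConjugate

namespace CfsgLib.InvChar.PairsFormula

universe u

variable {G : Type u} [Group G] [Fintype G]

local notation "C(" x ")" => Subgroup.centralizer ({x} : Set _)

open BSW in
/-- The number of ordered pairs of involutions with product `g`, times the group order. -/
theorem card_mul_pairs (t : G) (hconj : ∀ s : G, orderOf s = 2 → IsConj t s) (g : G) :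
    (Nat.card G : ℂ) * (pairs g : ℂ) =
      (Nat.card {v : G // orderOf v = 2} : ℂ) * (Nat.card {v : G // orderOf v = 2} : ℂ) *
        ∑ ξ : Cfsg.IrrCharacter G,
          (ξ : G → ℂ) t * (ξ : G → ℂ) t * conj ((ξ : G → ℂ) g) / (ξ : G → ℂ) 1 := by
  classical
  set I : Finset G := Finset.univ.filter fun x => orderOf x = 2 with hI
  have hIn : Nat.card {v : G // orderOf v = 2} = I.card := by
    rw [Nat.card_eq_fintype_card, Fintype.card_subtype]
  have hIt : ∀ ξ : Cfsg.IrrCharacter G,
      ∑ p ∈ I, (ξ : G → ℂ) p = (I.card : ℂ) * (ξ : G → ℂ) t := by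
    intro ξ
    rw [Finset.sum_congr rfl (g := fun _ => (ξ : G → ℂ) t) fun p hp => ?_, Finset.sum_const,
      nsmul_eq_mul]
    exact (Char.IsClassFunction.eq_of_isConj (Char.IsIrrCharacter.isClassFunction ξ.2)
      (hconj p (Finset.mem_filter.1 hp).2)).symm
  have hleft : ∑ ξ : Cfsg.IrrCharacter G,
      conj ((ξ : G → ℂ) g) * ∑ p ∈ I, ∑ q ∈ I, (ξ : G → ℂ) (p * q) =
      (pairs g : ℂ) * (Nat.card G : ℂ) := by
    have hswap : ∑ ξ : Cfsg.IrrCharacter G,
        conj ((ξ : G → ℂ) g) * ∑ p ∈ I, ∑ q ∈ I, (ξ : G → ℂ) (p * q) =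
        ∑ x : G × G with x.1 ∈ I ∧ x.2 ∈ I,
          if IsConj (x.1 * x.2) g then (Nat.card (C(x.1 * x.2) : Subgroup G) : ℂ) else 0 := by
      simp only [Finset.mul_sum]
      rw [Finset.sum_comm]
      rw [show (Finset.univ.filter fun x : G × G => x.1 ∈ I ∧ x.2 ∈ I) = I ×ˢ I by ext; simp,
        Finset.sum_product]
      refine Finset.sum_congr rfl fun p _ => ?_
      rw [Finset.sum_comm]
      refine Finset.sum_congr rfl fun q _ => ?_
      rw [← Char.sum_mul_conj (p * q) g]
      exact Finset.sum_congr rfl fun ξ _ => mul_comm _ _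
    rw [hswap, ← Finset.sum_filter, Finset.filter_filter]
    rw [← Finset.sum_fiberwise_of_maps_to (t := Finset.univ.filter fun z => IsConj g z)
      (g := fun x : G × G => x.1 * x.2) (fun x hx => Finset.mem_filter.2
        ⟨Finset.mem_univ _, (Finset.mem_filter.1 hx).2.2.symm⟩)]
    rw [Finset.sum_congr rfl (g := fun z => (pairs g : ℂ) *
      (Nat.card (C(g) : Subgroup G) : ℂ)) ?_, Finset.sum_const, nsmul_eq_mul,
      ← Fintype.card_subtype, ← Nat.card_eq_fintype_card,
      ← Char.card_isConj_mul_card_centralizer g]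
    · push_cast; ring
    intro z hz
    have hgz : IsConj g z := (Finset.mem_filter.1 hz).2
    obtain ⟨w, hw⟩ := isConj_iff.1 hgz
    rw [Finset.sum_congr rfl (g := fun _ => (Nat.card (C(g) : Subgroup G) : ℂ)) ?_,
      Finset.sum_const, nsmul_eq_mul, ← pairs_conj w g, hw]
    · congr 1
      rw [Finset.filter_filter, ← Fintype.card_subtype, ← Nat.card_eq_fintype_card]
      unfold pairs
      congr 1
      refine Nat.card_congr (Equiv.subtypeEquivRight fun x => ?_)
      simp only [hI, Finset.mem_filter, Finset.mem_univ, true_and]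
      refine ⟨fun ⟨⟨⟨a, b⟩, _⟩, c⟩ => ⟨a, b, c⟩, fun ⟨a, b, c⟩ => ⟨⟨⟨a, b⟩, ?_⟩, c⟩⟩
      rw [c]; exact hgz.symm
    · intro x hx
      rw [(Finset.mem_filter.1 hx).2, ← hw]
      congr 1
      exact Nat.card_congr (((MulAut.conj w).toEquiv).subtypeEquiv fun c => by
        simp only [MulEquiv.toEquiv_eq_coe, EquivLike.coe_coe, MulAut.conj_apply, mem_cent_conj]
        simp [mul_assoc]).symm
  have hright : ∀ ξ : Cfsg.IrrCharacter G,
      conj ((ξ : G → ℂ) g) * ∑ p ∈ I, ∑ q ∈ I, (ξ : G → ℂ) (p * q) =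
      (I.card : ℂ) * (I.card : ℂ) *
        ((ξ : G → ℂ) t * (ξ : G → ℂ) t * conj ((ξ : G → ℂ) g) / (ξ : G → ℂ) 1) := by
    intro ξ
    have h1 := Invol.BSLarge.apply_one_mul_sum_sum ξ I (fun x => by simp [hI])
    rw [hIt] at h1
    have hne := Char.IsIrrCharacter.apply_one_ne_zero ξ.2
    field_simp
    linear_combination (conj ((ξ : G → ℂ) g)) * h1
  rw [hIn, Finset.mul_sum, ← Finset.sum_congr rfl fun ξ _ => hright ξ, hleft, mul_comm]

end CfsgLib.InvChar.PairsFormula
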