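import Mathlib.Data.Fin.Tuple.Basic
import Mathlib.Data.Fin.VecNotation
import Mathlib.Data.Finset.Card
import Mathlib.Data.Fintype.Basic
import Mathlib.Data.Fintype.Fin
import Mathlib.Algebra.Group.Nat.Even
import Mathlib.Logic.Function.Iterate
import Mathlib.Tactic.FinCases
import Mathlib.Tactic.Ring

/-!
# Two pairings have a pairing with odd products to both

For two involutive maps of a finite set moving equally many points there is a third one, moving
as many, whose compositions with both have only odd periods, apart from one configuration on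
four points.
-/

set_option autoImplicit false

namespace CfsgLib.InvChar.OddMid

variable {α : Type*} [DecidableEq α]

theorem inj2 {β : Type*} {a b : β} (h : a ≠ b) : Function.Injective ![a, b] := by
  intro i j hij
  fin_cases i <;> fin_cases j <;>
    first | rfl | exact absurd hij h | exact absurd hij.symm h

theorem inj3 {β : Type*} {a b c : β} (h₁ : a ≠ b) (h₂ : a ≠ c) (h₃ : b ≠ c) :
    Function.Injective ![a, b, c] := by
  intro i j hij
  fin_cases i <;> fin_cases j <;>
    first | rfl | exact absurd hij h₁ | exact absurd hij.symm h₁ | exact absurd hij h₂ |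
      exact absurd hij.symm h₂ | exact absurd hij h₃ | exact absurd hij.symm h₃

theorem inj4 {β : Type*} {a b c d : β} (h₁ : a ≠ b) (h₂ : a ≠ c) (h₃ : a ≠ d) (h₄ : b ≠ c)
    (h₅ : b ≠ d) (h₆ : c ≠ d) : Function.Injective ![a, b, c, d] := by
  intro i j hij
  fin_cases i <;> fin_cases j <;>
    first | rfl | exact absurd hij h₁ | exact absurd hij.symm h₁ | exact absurd hij h₂ |
      exact absurd hij.symm h₂ | exact absurd hij h₃ | exact absurd hij.symm h₃ |
      exact absurd hij h₄ | exact absurd hij.symm h₄ | exact absurd hij h₅ |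
      exact absurd hij.symm h₅ | exact absurd hij h₆ | exact absurd hij.symm h₆

/-- All periods odd. -/
def OddPer (σ : α → α) (U : Finset α) : Prop := ∀ v ∈ U, ∃ k, Odd k ∧ σ^[k] v = v

/-- An involutive map of `U`. -/
def Inv (U : Finset α) (x : α → α) : Prop := (∀ v ∈ U, x v ∈ U) ∧ ∀ v ∈ U, x (x v) = v

/-- The moved points. -/
def mv (U : Finset α) (x : α → α) : Finset α := U.filter fun v => x v ≠ v

/-- The exceptional configuration. -/
def Exc (U : Finset α) (x y : α → α) : Prop :=
  U.card = 4 ∧ ∀ v ∈ U, x v ≠ v ∧ y v ≠ v ∧ x v ≠ y v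

/-- The required third map. -/
def Sol (U : Finset α) (x y : α → α) : Prop :=
  ∃ z, Inv U z ∧ (mv U z).card = (mv U x).card ∧ OddPer (x ∘ z) U ∧ OddPer (y ∘ z) U

theorem Inv.apply_ne {U : Finset α} {x : α → α} (h : Inv U x) {v : α} (hv : v ∈ U)
    (hne : x v ≠ v) : x (x v) ≠ x v := fun he => hne (by rw [← he, h.2 v hv])

theorem mv_card_sdiff {U W : Finset α} (hW : W ⊆ U) (x : α → α) :
    (mv U x).card = (mv W x).card + (mv (U \ W) x).card := by
  unfold mv
  rw [← Finset.card_union_of_disjoint (Finset.disjoint_filter_filter Finset.disjoint_sdiff),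
    ← Finset.filter_union, Finset.union_sdiff_of_subset hW]

theorem mv_congr {U : Finset α} {x x' : α → α} (h : ∀ v ∈ U, x v = x' v) : mv U x = mv U x' :=
  Finset.filter_congr fun v hv => by rw [h v hv]

theorem Inv.sdiff {U W : Finset α} {x : α → α} (hU : Inv U x) (hW : ∀ v ∈ W, x v ∈ W) :
    Inv (U \ W) x := by
  refine ⟨fun v hv => ?_, fun v hv => hU.2 v (Finset.mem_sdiff.1 hv).1⟩
  rw [Finset.mem_sdiff] at hv ⊢
  exact ⟨hU.1 v hv.1, fun h => hv.2 (hU.2 v hv.1 ▸ hW _ h)⟩

theorem iterate_eq_of_eqOn {U : Finset α} {σ τ : α → α} (hmem : ∀ v ∈ U, τ v ∈ U)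
    (heq : ∀ v ∈ U, σ v = τ v) : ∀ (k : ℕ) (v : α), v ∈ U → σ^[k] v = τ^[k] v := by
  intro k
  induction k with
  | zero => intro v _; rfl
  | succ k ih =>
    intro v hv
    rw [Function.iterate_succ_apply, Function.iterate_succ_apply, heq v hv, ih _ (hmem v hv)]

theorem OddPer.congr {U : Finset α} {σ τ : α → α} (h : OddPer τ U) (hmem : ∀ v ∈ U, τ v ∈ U)
    (heq : ∀ v ∈ U, σ v = τ v) : OddPer σ U := fun v hv => by
  obtain ⟨k, hk, hkv⟩ := h v hv
  exact ⟨k, hk, (iterate_eq_of_eqOn hmem heq k v hv).trans hkv⟩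

theorem Sol.union {U W : Finset α} {x y : α → α} (hW : W ⊆ U) (hx : Inv U x) (hy : Inv U y)
    (hxW : ∀ v ∈ W, x v ∈ W) (hyW : ∀ v ∈ W, y v ∈ W)
    (h₁ : Sol W x y) (h₂ : Sol (U \ W) x y) : Sol U x y := by
  obtain ⟨z₁, hz₁, hc₁, hp₁, hq₁⟩ := h₁
  obtain ⟨z₂, hz₂, hc₂, hp₂, hq₂⟩ := h₂
  set z : α → α := fun v => if v ∈ W then z₁ v else z₂ v with hzdef
  have e₁ : ∀ v ∈ W, z v = z₁ v := fun v hv => if_pos hv
  have e₂ : ∀ v ∈ U \ W, z v = z₂ v := fun v hv => if_neg (Finset.mem_sdiff.1 hv).2
  have hsplit : ∀ v ∈ U, v ∈ W ∨ v ∈ U \ W := fun v hv => by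
    by_cases h : v ∈ W
    · exact Or.inl h
    · exact Or.inr (Finset.mem_sdiff.2 ⟨hv, h⟩)
  refine ⟨z, ⟨fun v hv => ?_, fun v hv => ?_⟩, ?_, fun v hv => ?_, fun v hv => ?_⟩
  · rcases hsplit v hv with h | h
    · rw [e₁ v h]; exact hW (hz₁.1 v h)
    · rw [e₂ v h]; exact (Finset.mem_sdiff.1 (hz₂.1 v h)).1
  · rcases hsplit v hv with h | h
    · rw [e₁ v h, e₁ _ (hz₁.1 v h), hz₁.2 v h]
    · rw [e₂ v h, e₂ _ (hz₂.1 v h), hz₂.2 v h]
  · rw [mv_card_sdiff hW z, mv_congr e₁, mv_congr e₂, hc₁, hc₂, ← mv_card_sdiff hW x]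
  · rcases hsplit v hv with h | h
    · exact (hp₁.congr (σ := x ∘ z) (fun u hu => hxW _ (hz₁.1 u hu))
        (fun u hu => congrArg x (e₁ u hu))) v h
    · exact (hp₂.congr (σ := x ∘ z) (fun u hu => (hx.sdiff hxW).1 _ (hz₂.1 u hu))
        (fun u hu => congrArg x (e₂ u hu))) v h
  · rcases hsplit v hv with h | h
    · exact (hq₁.congr (σ := y ∘ z) (fun u hu => hyW _ (hz₁.1 u hu))
        (fun u hu => congrArg y (e₁ u hu))) v h
    · exact (hq₂.congr (σ := y ∘ z) (fun u hu => (hy.sdiff hyW).1 _ (hz₂.1 u hu))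
        (fun u hu => congrArg y (e₂ u hu))) v h

theorem Sol.swap {U : Finset α} {x y : α → α} (h : Sol U y x)
    (hc : (mv U x).card = (mv U y).card) : Sol U x y := by
  obtain ⟨z, h₁, h₂, h₃, h₄⟩ := h
  exact ⟨z, h₁, h₂.trans hc.symm, h₄, h₃⟩

theorem Exc.swap {U : Finset α} {x y : α → α} (h : Exc U y x) : Exc U x y :=
  ⟨h.1, fun v hv => ⟨(h.2 v hv).2.1, (h.2 v hv).1, (h.2 v hv).2.2.symm⟩⟩

/-- The maps `x`, `y` look like `x₀`, `y₀` along `f`. -/
def Pat {m : ℕ} (x y : α → α) (f : Fin m → α) (x₀ y₀ : Fin m → Fin m) : Prop :=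
  Function.Injective f ∧ (∀ i, x (f i) = f (x₀ i)) ∧ (∀ i, y (f i) = f (y₀ i))

/-- Number of moved indices. -/
def cnt {m : ℕ} (x₀ : Fin m → Fin m) : ℕ := (Finset.univ.filter fun i => x₀ i ≠ i).card

/-- A tabulated solution. -/
def Tab {m : ℕ} (x₀ y₀ z₀ : Fin m → Fin m) (M : ℕ) : Prop :=
  Odd M ∧ (∀ i, z₀ (z₀ i) = i) ∧ cnt z₀ = cnt x₀ ∧ (∀ i, (x₀ ∘ z₀)^[M] i = i) ∧
    ∀ i, (y₀ ∘ z₀)^[M] i = i

/-- Side by side tables. -/
def app {m n : ℕ} (a : Fin m → Fin m) (b : Fin n → Fin n) : Fin (m + n) → Fin (m + n) :=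
  Fin.append (fun i => Fin.castAdd n (a i)) (fun i => Fin.natAdd m (b i))

theorem Pat.append {m n : ℕ} {x y : α → α} {f : Fin m → α} {g : Fin n → α}
    {x₀ y₀ : Fin m → Fin m} {x₁ y₁ : Fin n → Fin n} (hf : Pat x y f x₀ y₀)
    (hg : Pat x y g x₁ y₁) (hd : ∀ i j, f i ≠ g j) :
    Pat x y (Fin.append f g) (app x₀ x₁) (app y₀ y₁) := by
  refine ⟨?_, ?_, ?_⟩
  · intro i j
    induction i using Fin.addCases with
    | left i =>
      induction j using Fin.addCases with
      | left j => intro h; rw [Fin.append_left, Fin.append_left] at h; rw [hf.1 h]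
      | right j => intro h; rw [Fin.append_left, Fin.append_right] at h; exact absurd h (hd i j)
    | right i =>
      induction j using Fin.addCases with
      | left j =>
        intro h; rw [Fin.append_left, Fin.append_right] at h; exact absurd h.symm (hd j i)
      | right j => intro h; rw [Fin.append_right, Fin.append_right] at h; rw [hg.1 h]
  · intro i
    induction i using Fin.addCases with
    | left i => simp only [app, Fin.append_left, hf.2.1]
    | right i => simp only [app, Fin.append_right, hg.2.1]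
  · intro i
    induction i using Fin.addCases with
    | left i => simp only [app, Fin.append_left, hf.2.2]
    | right i => simp only [app, Fin.append_right, hg.2.2]

theorem Pat.mem_image {m : ℕ} {x y : α → α} {f : Fin m → α} {x₀ y₀ : Fin m → Fin m}
    (hf : Pat x y f x₀ y₀) {v : α} (hv : v ∈ Finset.univ.image f) :
    x v ∈ Finset.univ.image f ∧ y v ∈ Finset.univ.image f := by
  simp only [Finset.mem_image, Finset.mem_univ, true_and] at hv ⊢
  obtain ⟨i, rfl⟩ := hv
  exact ⟨⟨_, (hf.2.1 i).symm⟩, ⟨_, (hf.2.2 i).symm⟩⟩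

theorem mv_image {m : ℕ} {f : Fin m → α} (hf : Function.Injective f) {z : α → α}
    {z₀ : Fin m → Fin m} (h : ∀ i, z (f i) = f (z₀ i)) :
    (mv (Finset.univ.image f) z).card = cnt z₀ := by
  rw [mv, Finset.filter_image, Finset.card_image_of_injective _ hf, cnt]
  congr 1
  ext i
  simp [h, hf.eq_iff]

theorem Pat.sol {m M : ℕ} {x y : α → α} {f : Fin m → α} {x₀ y₀ z₀ : Fin m → Fin m}
    (hf : Pat x y f x₀ y₀) (ht : Tab x₀ y₀ z₀ M) : Sol (Finset.univ.image f) x y := by
  obtain ⟨hM, hinv, hcnt, hp, hq⟩ := ht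
  set z : α → α := Function.extend f (f ∘ z₀) id
  have hz : ∀ i, z (f i) = f (z₀ i) := fun i => hf.1.extend_apply _ _ i
  have hit : ∀ (w : α → α) (w₀ : Fin m → Fin m), (∀ i, w (f i) = f (w₀ i)) →
      ∀ k i, w^[k] (f i) = f (w₀^[k] i) := fun w w₀ hw k i => by
    induction k generalizing i with
    | zero => rfl
    | succ k ih => rw [Function.iterate_succ_apply, Function.iterate_succ_apply, hw, ih]
  refine ⟨z, ⟨?_, ?_⟩, by rw [mv_image hf.1 hz, mv_image hf.1 hf.2.1, hcnt], ?_, ?_⟩ <;>
    intro v hv <;> simp only [Finset.mem_image, Finset.mem_univ, true_and] at hv ⊢ <;>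
    obtain ⟨i, rfl⟩ := hv
  · exact ⟨z₀ i, (hz i).symm⟩
  · rw [hz, hz, hinv]
  · refine ⟨M, hM, ?_⟩
    rw [hit (x ∘ z) (x₀ ∘ z₀) (fun j => by simp [hz, hf.2.1]), hp]
  · refine ⟨M, hM, ?_⟩
    rw [hit (y ∘ z) (y₀ ∘ z₀) (fun j => by simp [hz, hf.2.2]), hq]

theorem disjoint_of_sdiff {m n : ℕ} {U : Finset α} {f : Fin m → α} {g : Fin n → α}
    (hg : ∀ j, g j ∈ U \ Finset.univ.image f) (i : Fin m) (j : Fin n) : f i ≠ g j := fun h =>
  (Finset.mem_sdiff.1 (hg j)).2 (Finset.mem_image.2 ⟨i, Finset.mem_univ i, h⟩)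

/-- The exceptional configuration is a four-cycle. -/
theorem Exc.exists_pat {U : Finset α} {x y : α → α} (h : Exc U x y) (hx : Inv U x) (hy : Inv U y)
    {v : α} (hv : v ∈ U) :
    Pat x y ![v, x v, y (x v), x (y (x v))] ![1, 0, 3, 2] ![3, 2, 1, 0] ∧
      Finset.univ.image ![v, x v, y (x v), x (y (x v))] = U := by
  have hb := hx.1 v hv
  have hc := hy.1 _ hb
  have hd := hx.1 _ hc
  obtain ⟨hv1, hv2, hv3⟩ := h.2 v hv
  obtain ⟨hb1, hb2, hb3⟩ := h.2 _ hb
  obtain ⟨hc1, hc2, hc3⟩ := h.2 _ hc
  obtain ⟨hd1, hd2, hd3⟩ := h.2 _ hd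
  rw [hx.2 v hv] at hb3 hb1
  rw [hy.2 _ hb] at hc2 hc3
  rw [hx.2 _ hc] at hd1 hd3
  have hvc : v ≠ y (x v) := hb3
  have hbd : x v ≠ x (y (x v)) := hc3.symm
  have hvd : v ≠ x (y (x v)) := fun e => hb2 ((congrArg x e).trans (hx.2 _ hc)).symm
  have hinj : Function.Injective ![v, x v, y (x v), x (y (x v))] := by
    exact inj4 hb1 hvc hvd hc2 hbd hd1
  have himg : Finset.univ.image ![v, x v, y (x v), x (y (x v))] = U := by
    refine Finset.eq_of_subset_of_card_le ?_ ?_
    · intro u hu
      simp only [Finset.mem_image, Finset.mem_univ, true_and] at hu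
      obtain ⟨i, rfl⟩ := hu
      fin_cases i <;> assumption
    · rw [Finset.card_image_of_injective _ hinj, h.1]; simp
  have hlast : y (x (y (x v))) = v := by
    have hm : y (x (y (x v))) ∈ Finset.univ.image ![v, x v, y (x v), x (y (x v))] := by
      rw [himg]; exact hy.1 _ hd
    simp only [Finset.mem_image, Finset.mem_univ, true_and] at hm
    obtain ⟨i, hi⟩ := hm
    fin_cases i <;> simp only [Fin.zero_eta, Fin.mk_one, Fin.reduceFinMk, Matrix.cons_val] at hi
    · exact hi.symm
    · exact absurd ((congrArg y hi).trans (hy.2 _ hd)).symm hc1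
    · exact absurd hi hd3
    · exact absurd hi.symm hd2
  refine ⟨⟨hinj, ?_, ?_⟩, himg⟩ <;> intro i <;> fin_cases i <;> simp
  · exact hx.2 v hv
  · exact hx.2 _ hc
  · conv_lhs => rw [← hlast]
    exact hy.2 _ hd
  · exact hy.2 _ hb
  · exact hlast

/-- Removing a block. -/
theorem step {U : Finset α} {x y : α → α}
    (IH : ∀ U' : Finset α, ∀ x' y' : α → α, U'.card < U.card → Inv U' x' → Inv U' y' →
      (mv U' x').card = (mv U' y').card → ¬ Exc U' x' y' → Sol U' x' y')
    (hx : Inv U x) (hy : Inv U y) (hc : (mv U x).card = (mv U y).card)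
    {m : ℕ} (hm : 0 < m) {f : Fin m → α} {x₀ y₀ : Fin m → Fin m} (hf : Pat x y f x₀ y₀)
    (hfU : ∀ i, f i ∈ U) (hcnt : cnt x₀ = cnt y₀) {z₀ : Fin m → Fin m} {M : ℕ}
    (ht : Tab x₀ y₀ z₀ M) {z₄ : Fin (m + 4) → Fin (m + 4)} {M₄ : ℕ}
    (ht4 : Tab (app x₀ ![1, 0, 3, 2]) (app y₀ ![3, 2, 1, 0]) z₄ M₄) : Sol U x y := by
  set W := Finset.univ.image f with hWdef
  have hWU : W ⊆ U := fun v hv => by
    simp only [hWdef, Finset.mem_image, Finset.mem_univ, true_and] at hv
    obtain ⟨i, rfl⟩ := hv
    exact hfU i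
  have hxW : ∀ v ∈ W, x v ∈ W := fun v hv => (hf.mem_image hv).1
  have hyW : ∀ v ∈ W, y v ∈ W := fun v hv => (hf.mem_image hv).2
  by_cases he : Exc (U \ W) x y
  · obtain ⟨v, hv⟩ := Finset.card_pos.1 (show 0 < (U \ W).card by rw [he.1]; norm_num)
    obtain ⟨hp, himg⟩ := he.exists_pat (hx.sdiff hxW) (hy.sdiff hyW) hv
    have hd := disjoint_of_sdiff (U := U) (f := f) (g := ![v, x v, y (x v), x (y (x v))])
      (fun j => by
        rw [← hWdef]
        nth_rw 1 [← himg]
        exact Finset.mem_image_of_mem _ (Finset.mem_univ j))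
    have hall := hf.append hp hd
    have himg2 : Finset.univ.image (Fin.append f ![v, x v, y (x v), x (y (x v))]) = U := by
      refine Finset.eq_of_subset_of_card_le ?_ ?_
      · intro u hu
        simp only [Finset.mem_image, Finset.mem_univ, true_and] at hu
        obtain ⟨i, rfl⟩ := hu
        induction i using Fin.addCases with
        | left i => rw [Fin.append_left]; exact hfU i
        | right i =>
          rw [Fin.append_right]
          refine (Finset.mem_sdiff.1 (?_ : _ ∈ U \ W)).1
          nth_rw 1 [← himg]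
          exact Finset.mem_image_of_mem _ (Finset.mem_univ i)
      · rw [Finset.card_image_of_injective _ hall.1, Finset.card_univ, Fintype.card_fin,
          ← Finset.card_sdiff_add_card_eq_card hWU, he.1, hWdef,
          Finset.card_image_of_injective _ hf.1, Finset.card_univ, Fintype.card_fin, add_comm]
    exact himg2 ▸ hall.sol ht4
  · refine Sol.union hWU hx hy hxW hyW (hf.sol ht)
      (IH _ x y ?_ (hx.sdiff hxW) (hy.sdiff hyW) ?_ he)
    · refine Finset.card_lt_card (Finset.sdiff_ssubset hWU ⟨f ⟨0, hm⟩, ?_⟩)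
      exact Finset.mem_image_of_mem _ (Finset.mem_univ _)
    · have h1 := mv_card_sdiff hWU x
      have h2 := mv_card_sdiff hWU y
      rw [hWdef, mv_image hf.1 hf.2.1] at h1
      rw [hWdef, mv_image hf.1 hf.2.2] at h2
      rw [← hWdef] at h1 h2
      omega

/-- Shortening a long component by four points. -/
theorem segment {U : Finset α} {x y : α → α}
    (IH : ∀ U' : Finset α, ∀ x' y' : α → α, U'.card < U.card → Inv U' x' → Inv U' y' →
      (mv U' x').card = (mv U' y').card → ¬ Exc U' x' y' → Sol U' x' y')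
    (hx : Inv U x) (hy : Inv U y) (hc : (mv U x).card = (mv U y).card)
    {a b c d : α} (ha : a ∈ U) (hb : b = x a) (hcd : c = y b) (hd : d = x c)
    (hab : b ≠ a) (hbc : c ≠ b) (hcd' : d ≠ c) (hca : c ≠ a) (had : y a ≠ d)
    (hnot : ¬ (y a = a ∧ y d = d)) : Sol U x y := by
  have hbU : b ∈ U := hb ▸ hx.1 a ha
  have hcU : c ∈ U := hcd ▸ hy.1 b hbU
  have hdU : d ∈ U := hd ▸ hx.1 c hcU
  have xa : x a = b := hb.symm
  have xb : x b = a := by rw [hb, hx.2 a ha]
  have yb : y b = c := hcd.symm
  have yc : y c = b := by rw [hcd, hy.2 b hbU]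
  have xc : x c = d := hd.symm
  have xd : x d = c := by rw [hd, hx.2 c hcU]
  have hda : d ≠ a := fun e => hbc (by rw [← xd, e, xa])
  have hdb : d ≠ b := fun e => hca (by rw [← xd, e, xb])
  set W : Finset α := {a, b, c, d} with hWdef
  have memW : ∀ t, t ∈ W ↔ t = a ∨ t = b ∨ t = c ∨ t = d := fun t => by simp [hWdef]
  have hWU : W ⊆ U := fun t ht => by
    rcases (memW t).1 ht with rfl | rfl | rfl | rfl <;> assumption
  have hxW : ∀ t ∈ W, x t ∈ W := fun t ht => by
    rcases (memW t).1 ht with rfl | rfl | rfl | rfl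
    · simp [memW, xa]
    · simp [memW, xb]
    · simp [memW, xc]
    · simp [memW, xd]
  set U' := U \ W with hU'def
  have memU' : ∀ t, t ∈ U' ↔ t ∈ U ∧ t ≠ a ∧ t ≠ b ∧ t ≠ c ∧ t ≠ d := fun t => by
    simp [hU'def, memW]
  -- the neighbours of the segment
  have hu : y a ≠ a → y a ∈ U' := fun hne => by
    refine (memU' _).2 ⟨hy.1 a ha, hne, fun e => hca ?_, fun e => hab ?_, had⟩
    · rw [← yb, ← e, hy.2 a ha]
    · rw [← yc, ← e, hy.2 a ha]
  have hv : y d ≠ d → y d ∈ U' := fun hne => by
    refine (memU' _).2 ⟨hy.1 d hdU, fun e => had ?_, fun e => hcd' ?_, fun e => hdb ?_, hne⟩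
    · rw [← e, hy.2 d hdU]
    · rw [← yb, ← e, hy.2 d hdU]
    · rw [← yc, ← e, hy.2 d hdU]
  set y' : α → α := fun t =>
    if y t = a then (if y d = d then t else y d)
    else if y t = d then (if y a = a then t else y a) else y t with hy'def
  have e_a : ∀ t, y t = a → y d = d → y' t = t := fun t h1 h2 => by simp [hy'def, h1, h2]
  have e_a' : ∀ t, y t = a → y d ≠ d → y' t = y d := fun t h1 h2 => by simp [hy'def, h1, h2]
  have e_d : ∀ t, y t ≠ a → y t = d → y a = a → y' t = t := fun t h1 h2 h3 => by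
    simp [hy'def, h2, h3, hda]
  have e_d' : ∀ t, y t ≠ a → y t = d → y a ≠ a → y' t = y a := fun t h1 h2 h3 => by
    simp [hy'def, h2, h3, hda]
  have e_o : ∀ t, y t ≠ a → y t ≠ d → y' t = y t := fun t h1 h2 => by simp [hy'def, h1, h2]
  have houtside : ∀ t ∈ U', y t ≠ a → y t ≠ d → y t ∈ U' := fun t ht h1 h2 => by
    obtain ⟨htU, -, htb, htc, -⟩ := (memU' t).1 ht
    exact (memU' _).2 ⟨hy.1 t htU, h1, fun e => htc (by rw [← yb, ← e, hy.2 t htU]),
      fun e => htb (by rw [← yc, ← e, hy.2 t htU]), h2⟩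
  have back : ∀ {t s : α}, t ∈ U' → y t = s → y s = t := fun {t s} ht e => by
    rw [← e, hy.2 t ((memU' t).1 ht).1]
  have hy' : Inv U' y' := by
    refine ⟨fun t ht => ?_, fun t ht => ?_⟩ <;> by_cases h1 : y t = a
    · by_cases h2 : y d = d
      · rw [e_a t h1 h2]; exact ht
      · rw [e_a' t h1 h2]; exact hv h2
    · by_cases h3 : y t = d
      · by_cases h2 : y a = a
        · rw [e_d t h1 h3 h2]; exact ht
        · rw [e_d' t h1 h3 h2]; exact hu h2
      · rw [e_o t h1 h3]; exact houtside t ht h1 h3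
    · have hya := back ht h1
      have hne : y a ≠ a := fun e => ((memU' t).1 ht).2.1 (hya.symm.trans e)
      by_cases h2 : y d = d
      · rw [e_a t h1 h2, e_a t h1 h2]
      · have hv2 : y (y d) = d := hy.2 d hdU
        rw [e_a' t h1 h2, e_d' _ (by rw [hv2]; exact hda) hv2 hne, hya]
    · by_cases h3 : y t = d
      · have hyd := back ht h3
        have hne : y d ≠ d := fun e => ((memU' t).1 ht).2.2.2.2 (hyd.symm.trans e)
        by_cases h2 : y a = a
        · rw [e_d t h1 h3 h2, e_d t h1 h3 h2]
        · rw [e_d' t h1 h3 h2, e_a' _ (hy.2 a ha) hne, hyd]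
      · have h5 := hy.2 t ((memU' t).1 ht).1
        obtain ⟨-, hta, -, -, htd⟩ := (memU' t).1 ht
        rw [e_o t h1 h3, e_o _ (by rw [h5]; exact hta) (by rw [h5]; exact htd), h5]
  -- counting
  have hx' : Inv U' x := hx.sdiff hxW
  have hc' : (mv U' x).card = (mv U' y').card := by
    have h1 := mv_card_sdiff hWU x
    have h2 := mv_card_sdiff hWU y
    rw [← hU'def] at h1 h2
    have hxWc : (mv W x).card = 4 := by
      have : mv W x = W := Finset.filter_true_of_mem fun t ht => by
        rcases (memW t).1 ht with rfl | rfl | rfl | rfl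
        · rw [xa]; exact hab
        · rw [xb]; exact hab.symm
        · rw [xc]; exact hcd'
        · rw [xd]; exact hcd'.symm
      rw [this, hWdef, Finset.card_insert_of_notMem (by simp [hab.symm, hca.symm, hda.symm]),
        Finset.card_insert_of_notMem (by simp [hbc.symm, hdb.symm]), Finset.card_pair hcd'.symm]
    by_cases hya : y a = a
    · have hyd : y d ≠ d := fun e => hnot ⟨hya, e⟩
      have hyW : (mv W y).card = 3 := by
        have : mv W y = {b, c, d} := by
          ext t
          simp only [mv, Finset.mem_filter, memW, Finset.mem_insert, Finset.mem_singleton]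
          constructor
          · rintro ⟨rfl | rfl | rfl | rfl, h⟩
            · exact absurd hya h
            all_goals simp
          · rintro (rfl | rfl | rfl)
            · exact ⟨by simp, by rw [yb]; exact hbc⟩
            · exact ⟨by simp, by rw [yc]; exact hbc.symm⟩
            · exact ⟨by simp, hyd⟩
        rw [this, Finset.card_insert_of_notMem (by simp [hbc.symm, hdb.symm]),
          Finset.card_pair hcd'.symm]
      have hm : mv U' y' = (mv U' y).erase (y d) := by
        ext t
        simp only [mv, Finset.mem_filter, Finset.mem_erase]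
        constructor
        · rintro ⟨ht, hne⟩
          by_cases h1 : y t = a
          · exact absurd ((back ht h1).symm.trans hya) ((memU' t).1 ht).2.1
          by_cases h3 : y t = d
          · exact absurd (e_d t h1 h3 hya) hne
          · refine ⟨fun e => h3 (by rw [e, hy.2 d hdU]), ht, ?_⟩
            rwa [e_o t h1 h3] at hne
        · rintro ⟨hne, ht, hyt⟩
          refine ⟨ht, ?_⟩
          by_cases h1 : y t = a
          · exact absurd ((back ht h1).symm.trans hya) ((memU' t).1 ht).2.1
          by_cases h3 : y t = d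
          · exact absurd (back ht h3).symm hne
          · rwa [e_o t h1 h3]
      have hmem : y d ∈ mv U' y := by
        simp only [mv, Finset.mem_filter]
        exact ⟨hv hyd, by rw [hy.2 d hdU]; exact hyd.symm⟩
      rw [hm, Finset.card_erase_of_mem hmem]
      have := Finset.card_pos.2 ⟨_, hmem⟩
      omega
    · by_cases hyd : y d = d
      · have hyW : (mv W y).card = 3 := by
          have : mv W y = {a, b, c} := by
            ext t
            simp only [mv, Finset.mem_filter, memW, Finset.mem_insert, Finset.mem_singleton]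
            constructor
            · rintro ⟨rfl | rfl | rfl | rfl, h⟩
              · simp
              · simp
              · simp
              · exact absurd hyd h
            · rintro (rfl | rfl | rfl)
              · exact ⟨by simp, hya⟩
              · exact ⟨by simp, by rw [yb]; exact hbc⟩
              · exact ⟨by simp, by rw [yc]; exact hbc.symm⟩
          rw [this, Finset.card_insert_of_notMem (by simp [hab.symm, hca.symm]),
            Finset.card_pair hbc.symm]
        have hm : mv U' y' = (mv U' y).erase (y a) := by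
          ext t
          simp only [mv, Finset.mem_filter, Finset.mem_erase]
          constructor
          · rintro ⟨ht, hne⟩
            by_cases h1 : y t = a
            · exact absurd (e_a t h1 hyd) hne
            by_cases h3 : y t = d
            · exact absurd ((back ht h3).symm.trans hyd) ((memU' t).1 ht).2.2.2.2
            · refine ⟨fun e => h1 (by rw [e, hy.2 a ha]), ht, ?_⟩
              rwa [e_o t h1 h3] at hne
          · rintro ⟨hne, ht, hyt⟩
            refine ⟨ht, ?_⟩
            by_cases h1 : y t = a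
            · exact absurd (back ht h1).symm hne
            by_cases h3 : y t = d
            · exact absurd ((back ht h3).symm.trans hyd) ((memU' t).1 ht).2.2.2.2
            · rwa [e_o t h1 h3]
        have hmem : y a ∈ mv U' y := by
          simp only [mv, Finset.mem_filter]
          exact ⟨hu hya, by rw [hy.2 a ha]; exact fun e => hya e.symm⟩
        rw [hm, Finset.card_erase_of_mem hmem]
        have := Finset.card_pos.2 ⟨_, hmem⟩
        omega
      · have hyW : (mv W y).card = 4 := by
          have : mv W y = W := Finset.filter_true_of_mem fun t ht => by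
            rcases (memW t).1 ht with rfl | rfl | rfl | rfl
            · exact hya
            · rw [yb]; exact hbc
            · rw [yc]; exact hbc.symm
            · exact hyd
          rw [this, hWdef, Finset.card_insert_of_notMem (by simp [hab.symm, hca.symm, hda.symm]),
            Finset.card_insert_of_notMem (by simp [hbc.symm, hdb.symm]), Finset.card_pair hcd'.symm]
        have hne2 : y a ≠ y d := fun e => hda.symm (by
          rw [← hy.2 a ha, e, hy.2 d hdU])
        have hm : mv U' y' = mv U' y := by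
          refine Finset.filter_congr fun t ht => ?_
          obtain ⟨-, hta, -, -, htd⟩ := (memU' t).1 ht
          by_cases h1 : y t = a
          · rw [e_a' t h1 hyd, h1, ← back ht h1]
            exact iff_of_true hne2.symm (fun e => hya e.symm)
          by_cases h3 : y t = d
          · rw [e_d' t h1 h3 hya, h3, ← back ht h3]
            exact iff_of_true hne2 (fun e => hyd e.symm)
          · rw [e_o t h1 h3]
        rw [hm]
        omega
  by_cases he : Exc U' x y'
  · -- eight points on one component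
    have hya : y a ≠ a := fun e => by
      have hyd : y d ≠ d := fun e' => hnot ⟨e, e'⟩
      have h2 : y (y d) = d := hy.2 d hdU
      exact (he.2 _ (hv hyd)).2.1 (e_d _ (by rw [h2]; exact hda) h2 e)
    have hyd : y d ≠ d := fun e => by
      exact (he.2 _ (hu hya)).2.1 (e_a _ (hy.2 a ha) e)
    obtain ⟨hp, himg⟩ := he.exists_pat hx' hy' (hv hyd)
    set v := y d with hvdef
    have h1 : y v = d := hy.2 d hdU
    have hxv : x v ∈ U' := hx'.1 _ (hv hyd)
    obtain ⟨-, hv1, -, -, hv4⟩ := (memU' _).1 hxv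
    have hy'v : y' v = y a := e_d' v (by rw [h1]; exact hda) h1 hya
    -- the second half
    have hyxv : y' (x v) = y (x v) := by
      refine e_o _ (fun e => (he.2 v (hv hyd)).2.2 ?_) (fun e => ?_)
      · rw [hy'v, back hxv e]
      · exact (he.2 v (hv hyd)).1 (by rw [← back hxv e])
    have h8 : x (y' (x v)) = y a := by
      rw [← hy'v]
      have := hp.2.2 0
      simpa using this.symm
    rw [hyxv] at hp himg h8
    have hg : ∀ j, (![v, x v, y (x v), x (y (x v))] : Fin 4 → α) j ∈ U' := fun j => by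
      rw [← himg]; exact Finset.mem_image_of_mem _ (Finset.mem_univ j)
    have hinj : Function.Injective (Fin.append ![a, b, c, d] ![v, x v, y (x v), x (y (x v))]) := by
      have h4 : Function.Injective ![a, b, c, d] :=
        inj4 hab.symm hca.symm hda.symm hbc.symm hdb.symm hcd'.symm
      intro i j
      induction i using Fin.addCases with
      | left i =>
        induction j using Fin.addCases with
        | left j => intro h; rw [Fin.append_left, Fin.append_left] at h; rw [h4 h]
        | right j =>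
          intro h; rw [Fin.append_left, Fin.append_right] at h
          obtain ⟨-, k1, k2, k3, k4⟩ := (memU' _).1 (hg j)
          rw [← h] at k1 k2 k3 k4
          fin_cases i
          · exact absurd rfl k1
          · exact absurd rfl k2
          · exact absurd rfl k3
          · exact absurd rfl k4
      | right i =>
        induction j using Fin.addCases with
        | left j =>
          intro h; rw [Fin.append_left, Fin.append_right] at h
          obtain ⟨-, k1, k2, k3, k4⟩ := (memU' _).1 (hg i)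
          rw [h] at k1 k2 k3 k4
          fin_cases j
          · exact absurd rfl k1
          · exact absurd rfl k2
          · exact absurd rfl k3
          · exact absurd rfl k4
        | right j => intro h; rw [Fin.append_right, Fin.append_right] at h; rw [hp.1 h]
    have hg2 : ∀ j, (![v, x v, y (x v), x (y (x v))] : Fin 4 → α) j ∈ U := fun j =>
      ((memU' _).1 (hg j)).1
    have hpat : Pat x y (Fin.append ![a, b, c, d] ![v, x v, y (x v), x (y (x v))])
        (![1, 0, 3, 2, 5, 4, 7, 6] : Fin (4 + 4) → Fin (4 + 4))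
        (![7, 2, 1, 4, 3, 6, 5, 0] : Fin (4 + 4) → Fin (4 + 4)) := by
      refine ⟨hinj, ?_, ?_⟩ <;> intro i <;> fin_cases i
      · exact xa
      · exact xb
      · exact xc
      · exact xd
      · rfl
      · exact hx.2 _ (hg2 0)
      · rfl
      · exact hx.2 _ (hg2 2)
      · exact h8.symm
      · exact yb
      · exact yc
      · rfl
      · exact h1
      · rfl
      · exact hy.2 _ (hg2 1)
      · show y (x (y (x v))) = a
        rw [h8, hy.2 a ha]
    have himg2 : Finset.univ.image
        (Fin.append ![a, b, c, d] ![v, x v, y (x v), x (y (x v))]) = U := by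
      refine Finset.eq_of_subset_of_card_le ?_ ?_
      · intro u hu'
        simp only [Finset.mem_image, Finset.mem_univ, true_and] at hu'
        obtain ⟨i, rfl⟩ := hu'
        induction i using Fin.addCases with
        | left i => rw [Fin.append_left]; fin_cases i <;> assumption
        | right i => rw [Fin.append_right]; exact hg2 i
      · rw [Finset.card_image_of_injective _ hinj, Finset.card_univ, Fintype.card_fin,
          ← Finset.card_sdiff_add_card_eq_card hWU, ← hU'def, he.1]
        have : W.card ≤ 4 := Finset.card_le_four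
        omega
    exact himg2 ▸ hpat.sol (z₀ := (![1, 0, 4, 7, 2, 6, 5, 3] : Fin (4 + 4) → Fin (4 + 4))) (M := 3)
      (by unfold Tab cnt; decide)
  -- general case: recursion
  have hlt : U'.card < U.card :=
    Finset.card_lt_card (Finset.sdiff_ssubset hWU ⟨a, (memW a).2 (Or.inl rfl)⟩)
  obtain ⟨z', hz', hcz, hp', hq'⟩ := IH U' x y' hlt hx' hy' hc' he
  set z : α → α := fun t => if t ∈ W then x t else z' t with hzdef
  have ez : ∀ t ∈ W, z t = x t := fun t ht => if_pos ht
  have ez' : ∀ t ∈ U', z t = z' t := fun t ht => if_neg (Finset.mem_sdiff.1 ht).2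
  have hsplit : ∀ t ∈ U, t ∈ W ∨ t ∈ U' := fun t ht => by
    by_cases h : t ∈ W
    · exact Or.inl h
    · exact Or.inr (Finset.mem_sdiff.2 ⟨ht, h⟩)
  refine ⟨z, ⟨fun t ht => ?_, fun t ht => ?_⟩, ?_, fun t ht => ?_, ?_⟩
  · rcases hsplit t ht with h | h
    · rw [ez t h]; exact hWU (hxW t h)
    · rw [ez' t h]; exact ((memU' _).1 (hz'.1 t h)).1
  · rcases hsplit t ht with h | h
    · rw [ez t h, ez _ (hxW t h), hx.2 t ht]
    · rw [ez' t h, ez' _ (hz'.1 t h), hz'.2 t h]
  · rw [mv_card_sdiff hWU z, mv_congr ez, mv_congr ez', hcz, ← mv_card_sdiff hWU x]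
  · rcases hsplit t ht with h | h
    · exact ⟨1, odd_one, show x (z t) = t by rw [ez t h, hx.2 t ht]⟩
    · exact (hp'.congr (σ := x ∘ z) (fun w hw => hx'.1 _ (hz'.1 w hw))
        (fun w hw => congrArg x (ez' w hw))) t h
  · set σ := y ∘ z with hσ
    set σ' := y' ∘ z' with hσ'
    have s_a : σ a = c := by simp [hσ, ez a ((memW a).2 (Or.inl rfl)), xa, yb]
    have s_c : σ c = y d := by
      simp [hσ, ez c ((memW c).2 (Or.inr (Or.inr (Or.inl rfl)))), xc]
    have s_d : σ d = b := by
      simp [hσ, ez d ((memW d).2 (Or.inr (Or.inr (Or.inr rfl)))), xd, yc]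
    have s_b : σ b = y a := by
      simp [hσ, ez b ((memW b).2 (Or.inr (Or.inl rfl))), xb]
    have hstep : ∀ t ∈ U', ∃ k, Odd k ∧ σ^[k] t = σ' t := by
      intro t ht
      have hw := hz'.1 t ht
      have hσt : σ t = y (z' t) := by simp [hσ, ez' t ht]
      by_cases h1 : y (z' t) = a
      · by_cases h2 : y d = d
        · refine ⟨5, by decide, ?_⟩
          simp only [Function.iterate_succ, Function.iterate_zero, id, Function.comp_apply]
          rw [hσt, h1, s_a, s_c, h2, s_d, s_b, back hw h1]
          simp [hσ', e_a _ h1 h2]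
        · refine ⟨3, by decide, ?_⟩
          simp only [Function.iterate_succ, Function.iterate_zero, id, Function.comp_apply]
          rw [hσt, h1, s_a, s_c]
          simp [hσ', e_a' _ h1 h2]
      by_cases h3 : y (z' t) = d
      · by_cases h2 : y a = a
        · refine ⟨5, by decide, ?_⟩
          simp only [Function.iterate_succ, Function.iterate_zero, id, Function.comp_apply]
          rw [hσt, h3, s_d, s_b, h2, s_a, s_c, back hw h3]
          simp [hσ', e_d _ h1 h3 h2]
        · refine ⟨3, by decide, ?_⟩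
          simp only [Function.iterate_succ, Function.iterate_zero, id, Function.comp_apply]
          rw [hσt, h3, s_d, s_b]
          simp [hσ', e_d' _ h1 h3 h2]
      · exact ⟨1, odd_one, by simp [hσt, hσ', e_o _ h1 h3]⟩
    have hmem : ∀ t ∈ U', σ' t ∈ U' := fun t ht => hy'.1 _ (hz'.1 t ht)
    have hlift : ∀ (n : ℕ) (t : α), t ∈ U' →
        ∃ K, (Odd K ↔ Odd n) ∧ σ^[K] t = σ'^[n] t := by
      intro n
      induction n with
      | zero => exact fun t _ => ⟨0, Iff.rfl, rfl⟩
      | succ n ih =>
        intro t ht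
        obtain ⟨k, hk, hkt⟩ := hstep t ht
        obtain ⟨K, hK, hKt⟩ := ih _ (hmem t ht)
        refine ⟨K + k, ?_, by rw [Function.iterate_add_apply, hkt, hKt,
          ← Function.iterate_succ_apply]⟩
        rw [Nat.odd_iff, Nat.odd_iff] at hK ⊢
        rw [Nat.odd_iff] at hk
        omega
    have per : ∀ t ∈ U', ∃ k, Odd k ∧ σ^[k] t = t := by
      intro t ht
      obtain ⟨n, hn, hnt⟩ := hq' t ht
      obtain ⟨K, hK, hKt⟩ := hlift n t ht
      exact ⟨K, hK.2 hn, hKt.trans hnt⟩
    have fwd : ∀ t, (∃ k, Odd k ∧ σ^[k] t = t) → ∃ k, Odd k ∧ σ^[k] (σ t) = σ t := by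
      rintro t ⟨k, hk, hkt⟩
      exact ⟨k, hk, by rw [← Function.iterate_succ_apply, Function.iterate_succ_apply', hkt]⟩
    have toA : y a ≠ a → ∃ k, Odd k ∧ σ^[k] a = a := fun hne => by
      have := fwd _ (per _ (hz'.1 _ (hu hne)))
      rwa [show σ (z' (y a)) = a by
        simp [hσ, ez' _ (hz'.1 _ (hu hne)), hz'.2 _ (hu hne), hy.2 a ha]] at this
    have toD : y d ≠ d → ∃ k, Odd k ∧ σ^[k] d = d := fun hne => by
      have := fwd _ (per _ (hz'.1 _ (hv hne)))
      rwa [show σ (z' (y d)) = d by
        simp [hσ, ez' _ (hz'.1 _ (hv hne)), hz'.2 _ (hv hne), hy.2 d hdU]] at this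
    have hAD : (∃ k, Odd k ∧ σ^[k] a = a) ∧ ∃ k, Odd k ∧ σ^[k] d = d := by
      by_cases h1 : y a = a
      · have hD := toD fun e => hnot ⟨h1, e⟩
        refine ⟨?_, hD⟩
        have := fwd _ (fwd _ hD)
        rwa [s_d, s_b, h1] at this
      · refine ⟨toA h1, ?_⟩
        by_cases h2 : y d = d
        · have := fwd _ (fwd _ (toA h1))
          rwa [s_a, s_c, h2] at this
        · exact toD h2
    intro t ht
    rcases hsplit t ht with h | h
    · rcases (memW t).1 h with rfl | rfl | rfl | rfl
      · exact hAD.1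
      · have := fwd _ hAD.2; rwa [s_d] at this
      · have := fwd _ hAD.1; rwa [s_a] at this
      · exact hAD.2
    · exact per t h

theorem pat_x1 {U : Finset α} {x y : α → α} (hx : Inv U x) {v : α} (hv : v ∈ U)
    (h1 : x v ≠ v) (h2 : y v = v) (h3 : y (x v) = x v) :
    Pat x y ![v, x v] ![1, 0] ![0, 1] := by
  refine ⟨?_, ?_, ?_⟩
  · exact inj2 h1.symm
  · intro i; fin_cases i <;> simp [hx.2 v hv]
  · intro i; fin_cases i <;> simp [h2, h3]

theorem pat_x3 {U : Finset α} {x y : α → α} (hx : Inv U x) (hy : Inv U y) {v : α} (hv : v ∈ U)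
    (h1 : x v ≠ v) (h2 : y v = v) (h3 : y (x v) ≠ x v) (h4 : x (y (x v)) ≠ y (x v))
    (h5 : y (x (y (x v))) = x (y (x v))) :
    Pat x y ![v, x v, y (x v), x (y (x v))] ![1, 0, 3, 2] ![0, 2, 1, 3] := by
  have hb := hx.1 v hv
  have hc := hy.1 _ hb
  have hvc : v ≠ y (x v) := fun e => h1 (by
    calc x v = y (y (x v)) := (hy.2 _ hb).symm
      _ = y v := by rw [← e]
      _ = v := h2)
  have hbd : x v ≠ x (y (x v)) := fun e =>
    hvc ((hx.2 v hv).symm.trans ((congrArg x e).trans (hx.2 _ hc)))
  have hvd : v ≠ x (y (x v)) := fun e => h3 ((congrArg x e).trans (hx.2 _ hc)).symm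
  refine ⟨?_, ?_, ?_⟩
  · exact inj4 h1.symm hvc hvd h3.symm hbd h4.symm
  · intro i; fin_cases i <;> simp [hx.2 v hv, hx.2 _ hc]
  · intro i; fin_cases i <;> simp [h2, hy.2 _ hb, h5]

/-- The main combinatorial statement. -/
theorem exists_sol : ∀ (n : ℕ) (U : Finset α) (x y : α → α), U.card = n → Inv U x → Inv U y →
    (mv U x).card = (mv U y).card → ¬ Exc U x y → Sol U x y := by
  intro n
  induction n using Nat.strong_induction_on with
  | _ n IH =>
  intro U x y hn hx hy hc hne
  have IH' : ∀ U' : Finset α, ∀ x' y' : α → α, U'.card < U.card → Inv U' x' → Inv U' y' →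
      (mv U' x').card = (mv U' y').card → ¬ Exc U' x' y' → Sol U' x' y' :=
    fun U' x' y' h => IH _ (hn ▸ h) U' x' y' rfl
  have IHs : ∀ U' : Finset α, ∀ x' y' : α → α, U'.card < U.card → Inv U' x' → Inv U' y' →
      (mv U' x').card = (mv U' y').card → ¬ Exc U' x' y' → Sol U' x' y' := IH'
  rcases U.eq_empty_or_nonempty with rfl | hU
  · exact ⟨x, hx, rfl, fun v hv => by simp at hv, fun v hv => by simp at hv⟩
  -- common pairs
  by_cases hB : ∃ a ∈ U, x a ≠ a ∧ y a = x a
  · obtain ⟨a, ha, h1, h2⟩ := hB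
    refine step IH' hx hy hc (m := 2) (by norm_num) (f := ![a, x a]) (x₀ := ![1, 0]) (y₀ := ![1, 0])
      ⟨?_, ?_, ?_⟩ ?_ rfl (z₀ := ![1, 0]) (M := 1) (by unfold Tab cnt; decide)
      (z₄ := ![2, 4, 0, 5, 1, 3]) (M₄ := 3) (by unfold Tab cnt app; decide)
    · exact inj2 h1.symm
    · intro i; fin_cases i <;> simp [hx.2 a ha]
    · intro i; fin_cases i
      · simpa using h2
      · show y (x a) = a
        rw [← h2, hy.2 a ha]
    · intro i; fin_cases i
      · exact ha
      · exact hx.1 a ha
  push Not at hB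
  -- common fixed points
  by_cases hA : ∃ a ∈ U, x a = a ∧ y a = a
  · obtain ⟨a, ha, h1, h2⟩ := hA
    refine step IH' hx hy hc (m := 1) (by norm_num) (f := ![a]) (x₀ := ![0]) (y₀ := ![0])
      ⟨?_, ?_, ?_⟩ ?_ rfl (z₀ := ![0]) (M := 1) (by unfold Tab cnt; decide)
      (z₄ := ![1, 0, 4, 3, 2]) (M₄ := 5) (by unfold Tab cnt app; decide)
    · intro i j _; exact Subsingleton.elim i j
    · intro i; fin_cases i; simpa using h1
    · intro i; fin_cases i; simpa using h2
    · intro i; fin_cases i; exact ha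
  push Not at hA
  -- paths with two edges
  by_cases hP : ∃ b ∈ U, x b ≠ b ∧ y b ≠ b ∧ y (x b) = x b ∧ x (y b) = y b
  · obtain ⟨b, hb, h1, h2, h3, h4⟩ := hP
    have h5 : x b ≠ y b := fun e => hB b hb h1 e.symm
    refine step IH' hx hy hc (m := 3) (by norm_num) (f := ![x b, b, y b]) (x₀ := ![1, 0, 2])
      (y₀ := ![0, 2, 1]) ⟨?_, ?_, ?_⟩ ?_ (by unfold cnt; decide) (z₀ := ![1, 0, 2]) (M := 3)
      (by unfold Tab cnt; decide)
      (z₄ := ![1, 0, 3, 2, 5, 4, 6]) (M₄ := 5) (by unfold Tab cnt app; decide)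
    · exact inj3 h1 h5 h2.symm
    · intro i; fin_cases i <;> simp [hx.2 b hb, h4]
    · intro i; fin_cases i <;> simp [hy.2 b hb, h3]
    · intro i; fin_cases i
      · exact hx.1 b hb
      · exact hb
      · exact hy.1 b hb
  push Not at hP
  -- long components
  by_cases hS : ∃ a ∈ U, x a ≠ a ∧ y (x a) ≠ x a ∧ x (y (x a)) ≠ y (x a) ∧
      y a ≠ x (y (x a)) ∧ ¬ (y a = a ∧ y (x (y (x a))) = x (y (x a)))
  · obtain ⟨a, ha, h1, h2, h3, h4, h5⟩ := hS
    refine segment IH' hx hy hc ha rfl rfl rfl h1 h2 h3 (fun e => ?_) h4 h5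
    exact hB a ha h1 (by rw [← hy.2 _ (hx.1 a ha), e])
  by_cases hS' : ∃ a ∈ U, y a ≠ a ∧ x (y a) ≠ y a ∧ y (x (y a)) ≠ x (y a) ∧
      x a ≠ y (x (y a)) ∧ ¬ (x a = a ∧ x (y (x (y a))) = y (x (y a)))
  · obtain ⟨a, ha, h1, h2, h3, h4, h5⟩ := hS'
    refine Sol.swap (segment (fun U' x' y' h i j k l => IH' U' x' y' h i j k l) hy hx hc.symm ha
      rfl rfl rfl h1 h2 h3 (fun e => ?_) h4 h5) hc
    have hxa : x a = y a := by rw [← hx.2 _ (hy.1 a ha), e]
    exact hB a ha (by rw [hxa]; exact h1) hxa.symm
  push Not at hS hS'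
  by_cases hfix : ∃ v ∈ U, y v = v
  · -- there are components with a `y`-fixed end, hence also with an `x`-fixed end
    obtain ⟨v, hv, hyv⟩ := hfix
    have hfix' : ∃ w ∈ U, x w = w := by
      by_contra h
      push Not at h
      have h1 : mv U x = U := Finset.filter_true_of_mem h
      have h2 : mv U y ⊂ U := Finset.filter_ssubset.2 ⟨v, hv, by simpa using hyv⟩
      have := Finset.card_lt_card h2
      rw [h1] at hc
      omega
    obtain ⟨w, hw, hxw⟩ := hfix'
    have hxv : x v ≠ v := fun e => hA v hv e hyv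
    have hyw : y w ≠ w := hA w hw hxw
    -- the component of `v`
    have hX : (Pat x y ![v, x v] ![1, 0] ![0, 1]) ∨
        (Pat x y ![v, x v, y (x v), x (y (x v))] ![1, 0, 3, 2] ![0, 2, 1, 3]) := by
      by_cases h : y (x v) = x v
      · exact Or.inl (pat_x1 hx hv hxv hyv h)
      · right
        have h4 : x (y (x v)) ≠ y (x v) := hP (x v) (hx.1 v hv)
          (hx.apply_ne hv hxv) h (by rw [hx.2 v hv, hyv])
        refine pat_x3 hx hy hv hxv hyv h h4 (hS v hv hxv h h4 (fun e => ?_)).2
        rw [hyv] at e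
        exact h (by rw [← hx.2 _ (hy.1 _ (hx.1 v hv)), ← e])
    have hY : (Pat y x ![w, y w] ![1, 0] ![0, 1]) ∨
        (Pat y x ![w, y w, x (y w), y (x (y w))] ![1, 0, 3, 2] ![0, 2, 1, 3]) := by
      by_cases h : x (y w) = y w
      · exact Or.inl (pat_x1 hy hw hyw hxw h)
      · right
        have h4 : y (x (y w)) ≠ x (y w) := fun e =>
          hP (y w) (hy.1 w hw) h (hy.apply_ne hw hyw) e (by rw [hy.2 w hw, hxw])
        refine pat_x3 hy hx hw hyw hxw h h4 (hS' w hw hyw h h4 (fun e => ?_)).2
        rw [hxw] at e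
        exact h (by rw [← hy.2 _ (hx.1 _ (hy.1 w hw)), ← e])
    have memX : ∀ i, (![v, x v, y (x v), x (y (x v))] : Fin 4 → α) i ∈ U := fun i => by
      fin_cases i
      · exact hv
      · exact hx.1 v hv
      · exact hy.1 _ (hx.1 v hv)
      · exact hx.1 _ (hy.1 _ (hx.1 v hv))
    have memY : ∀ i, (![w, y w, x (y w), y (x (y w))] : Fin 4 → α) i ∈ U := fun i => by
      fin_cases i
      · exact hw
      · exact hy.1 w hw
      · exact hx.1 _ (hy.1 w hw)
      · exact hy.1 _ (hx.1 _ (hy.1 w hw))
    have swapP : ∀ {m : ℕ} {f : Fin m → α} {p q : Fin m → Fin m}, Pat y x f p q → Pat x y f q p :=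
      fun h => ⟨h.1, h.2.2, h.2.1⟩
    -- blocks are invariant, so they are disjoint as their ends differ
    rcases hX with hX | hX <;> rcases hY with hY | hY
    · have hd : ∀ i j, (![v, x v] : Fin 2 → α) i ≠ (![w, y w] : Fin 2 → α) j := by
        intro i j
        have hx' : ∀ i, x ((![v, x v] : Fin 2 → α) i) ≠ ![v, x v] i := fun i e => by
          rw [hX.2.1] at e
          exact absurd (hX.1 e) (by fin_cases i <;> decide)
        have hy' : ∀ j, x ((![w, y w] : Fin 2 → α) j) = ![w, y w] j := fun j => by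
          rw [hY.2.2]; fin_cases j <;> rfl
        exact fun e => hx' i (by rw [e]; exact hy' j)
      refine step IH' hx hy hc (m := 2 + 2) (by norm_num) (hX.append (swapP hY) hd) ?_
        (by unfold cnt app; decide) (z₀ := ![2, 1, 0, 3]) (M := 3) (by unfold Tab cnt app; decide)
        (z₄ := ![4, 1, 6, 3, 0, 7, 2, 5]) (M₄ := 7) (by unfold Tab cnt app; decide)
      intro i
      induction i using Fin.addCases with
      | left i => rw [Fin.append_left]; fin_cases i
                  · exact hv
                  · exact hx.1 v hv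
      | right i => rw [Fin.append_right]; fin_cases i
                   · exact hw
                   · exact hy.1 w hw
    · have hd : ∀ i j, (![v, x v] : Fin 2 → α) i ≠
          (![w, y w, x (y w), y (x (y w))] : Fin 4 → α) j := by
        intro i j
        have hx' : ∀ i, y ((![v, x v] : Fin 2 → α) i) = ![v, x v] i := fun i => by
          rw [hX.2.2]; fin_cases i <;> rfl
        have hy' : ∀ j, y ((![w, y w, x (y w), y (x (y w))] : Fin 4 → α) j) ≠
            ![w, y w, x (y w), y (x (y w))] j := fun j e => by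
          rw [hY.2.1] at e
          exact absurd (hY.1 e) (by fin_cases j <;> decide)
        exact fun e => hy' j (by rw [← e]; exact hx' i)
      refine step IH' hx hy hc (m := 2 + 4) (by norm_num) (hX.append (swapP hY) hd) ?_
        (by unfold cnt app; decide) (z₀ := ![2, 1, 0, 3, 5, 4]) (M := 3)
        (by unfold Tab cnt app; decide)
        (z₄ := ![2, 6, 0, 4, 3, 5, 1, 7, 9, 8]) (M₄ := 5) (by unfold Tab cnt app; decide)
      intro i
      induction i using Fin.addCases with
      | left i => rw [Fin.append_left]; fin_cases i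
                  · exact hv
                  · exact hx.1 v hv
      | right i => rw [Fin.append_right]; exact memY i
    · have hd : ∀ j i, (![w, y w] : Fin 2 → α) j ≠
          (![v, x v, y (x v), x (y (x v))] : Fin 4 → α) i := by
        intro j i
        have hx' : ∀ j, x ((![w, y w] : Fin 2 → α) j) = ![w, y w] j := fun j => by
          rw [hY.2.2]; fin_cases j <;> rfl
        have hy' : ∀ i, x ((![v, x v, y (x v), x (y (x v))] : Fin 4 → α) i) ≠
            ![v, x v, y (x v), x (y (x v))] i := fun i e => by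
          rw [hX.2.1] at e
          exact absurd (hX.1 e) (by fin_cases i <;> decide)
        exact fun e => hy' i (by rw [← e]; exact hx' j)
      refine Sol.swap (step (fun U' x' y' h i j k l => IH' U' x' y' h i j k l) hy hx hc.symm
        (m := 2 + 4) (by norm_num) (hY.append (⟨hX.1, hX.2.2, hX.2.1⟩ : Pat y x _ ![0, 2, 1, 3] ![1, 0, 3, 2]) hd) ?_
        (by unfold cnt app; decide) (z₀ := ![2, 1, 0, 3, 5, 4]) (M := 3)
        (by unfold Tab cnt app; decide)
        (z₄ := ![2, 6, 0, 4, 3, 5, 1, 7, 9, 8]) (M₄ := 5) (by unfold Tab cnt app; decide)) hc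
      intro i
      induction i using Fin.addCases with
      | left i => rw [Fin.append_left]; fin_cases i
                  · exact hw
                  · exact hy.1 w hw
      | right i => rw [Fin.append_right]; exact memX i
    · by_cases hd : ∀ i j, (![v, x v, y (x v), x (y (x v))] : Fin 4 → α) i ≠
          (![w, y w, x (y w), y (x (y w))] : Fin 4 → α) j
      · refine step IH' hx hy hc (m := 4 + 4) (by norm_num) (hX.append (swapP hY) hd) ?_
          (by unfold cnt app; decide) (z₀ := ![1, 0, 2, 4, 3, 5, 7, 6]) (M := 3)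
          (by unfold Tab cnt app; decide)
          (z₄ := ![1, 0, 4, 6, 2, 5, 3, 8, 7, 10, 9, 11]) (M₄ := 5)
          (by unfold Tab cnt app; decide)
        intro i
        induction i using Fin.addCases with
        | left i => rw [Fin.append_left]; exact memX i
        | right i => rw [Fin.append_right]; exact memY i
      · exfalso
        push Not at hd
        obtain ⟨i, j, e⟩ := hd
        -- the first block is invariant and free of `x`-fixed points, yet reaches `w`
        have hclosed : ∀ t, t ∈ Finset.univ.image ![v, x v, y (x v), x (y (x v))] →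
            x t ∈ Finset.univ.image ![v, x v, y (x v), x (y (x v))] ∧
              y t ∈ Finset.univ.image ![v, x v, y (x v), x (y (x v))] := fun t ht => hX.mem_image ht
        have hj : (![w, y w, x (y w), y (x (y w))] : Fin 4 → α) j ∈
            Finset.univ.image ![v, x v, y (x v), x (y (x v))] :=
          e ▸ Finset.mem_image_of_mem _ (Finset.mem_univ i)
        have hwm : w ∈ Finset.univ.image ![v, x v, y (x v), x (y (x v))] := by
          fin_cases j
          · exact hj
          · have := (hclosed _ hj).2; simpa [hy.2 w hw] using this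
          · have := (hclosed _ (hclosed _ hj).1).2
            simpa [hy.2 w hw, hx.2 _ (hy.1 w hw)] using this
          · have := (hclosed _ (hclosed _ (hclosed _ hj).2).1).2
            simpa [hy.2 w hw, hx.2 _ (hy.1 w hw), hy.2 _ (hx.1 _ (hy.1 w hw))] using this
        simp only [Finset.mem_image, Finset.mem_univ, true_and] at hwm
        obtain ⟨k, hk⟩ := hwm
        rw [← hk, hX.2.1] at hxw
        exact absurd (hX.1 hxw) (by fin_cases k <;> decide)
  -- all components are four-cycles
  push Not at hfix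
  have hallx : ∀ v ∈ U, x v ≠ v := by
    intro v hv e
    have h1 : mv U y = U := Finset.filter_true_of_mem hfix
    have h2 : mv U x ⊂ U := Finset.filter_ssubset.2 ⟨v, hv, by simpa using e⟩
    have := Finset.card_lt_card h2
    rw [h1] at hc
    omega
  have hC4 : ∀ a ∈ U, Pat x y ![a, x a, y (x a), x (y (x a))] ![1, 0, 3, 2] ![3, 2, 1, 0] ∧
      ∀ i, (![a, x a, y (x a), x (y (x a))] : Fin 4 → α) i ∈ U := by
    intro a ha
    have hb := hx.1 a ha
    have hcU := hy.1 _ hb
    have hdU := hx.1 _ hcU
    have h1 := hallx a ha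
    have h2 := hfix _ hb
    have h3 := hallx _ hcU
    have h4 : y a = x (y (x a)) := by
      by_contra h
      exact hfix a ha (hS a ha h1 h2 h3 h).1
    have hac : a ≠ y (x a) := fun e => hB a ha h1 (by
      calc y a = y (y (x a)) := by rw [← e]
        _ = x a := hy.2 _ hb)
    have hbd : x a ≠ x (y (x a)) := fun e =>
      hac ((hx.2 a ha).symm.trans ((congrArg x e).trans (hx.2 _ hcU)))
    have had : a ≠ x (y (x a)) := fun e => hfix a ha (h4.trans e.symm)
    refine ⟨⟨?_, ?_, ?_⟩, ?_⟩
    · exact inj4 h1.symm hac had h2.symm hbd h3.symm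
    · intro i; fin_cases i <;> simp [hx.2 a ha, hx.2 _ hcU]
    · intro i; fin_cases i
      · simpa using h4
      · rfl
      · simpa using hy.2 _ hb
      · show y (x (y (x a))) = a
        rw [← h4, hy.2 a ha]
    · intro i; fin_cases i <;> assumption
  obtain ⟨a, ha⟩ := hU
  obtain ⟨hp, hmem⟩ := hC4 a ha
  obtain ⟨a', ha'⟩ : ∃ a', a' ∈ U \ Finset.univ.image ![a, x a, y (x a), x (y (x a))] := by
    by_contra h
    push Not at h
    refine hne ⟨le_antisymm ?_ ?_, fun t ht => ⟨hallx t ht, hfix t ht,
      fun e => hB t ht (hallx t ht) e.symm⟩⟩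
    · refine le_trans (Finset.card_le_card (fun t ht => ?_)) (Finset.card_image_le.trans (by simp))
        (b := (Finset.univ.image ![a, x a, y (x a), x (y (x a))]).card)
      by_contra hn'
      exact h t (Finset.mem_sdiff.2 ⟨ht, hn'⟩)
    · refine le_trans (le_of_eq ?_) (Finset.card_le_card (s := Finset.univ.image
        ![a, x a, y (x a), x (y (x a))]) fun t ht => ?_)
      · rw [Finset.card_image_of_injective _ hp.1]; simp
      · simp only [Finset.mem_image, Finset.mem_univ, true_and] at ht
        obtain ⟨i, rfl⟩ := ht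
        exact hmem i
  rw [Finset.mem_sdiff] at ha'
  obtain ⟨hp', hmem'⟩ := hC4 a' ha'.1
  have hd : ∀ i j, (![a, x a, y (x a), x (y (x a))] : Fin 4 → α) i ≠
      (![a', x a', y (x a'), x (y (x a'))] : Fin 4 → α) j := by
    intro i j e
    apply ha'.2
    have hj : (![a', x a', y (x a'), x (y (x a'))] : Fin 4 → α) j ∈
        Finset.univ.image ![a, x a, y (x a), x (y (x a))] :=
      e ▸ Finset.mem_image_of_mem _ (Finset.mem_univ i)
    fin_cases j
    · exact hj
    · have := (hp.mem_image hj).1; simpa [hx.2 a' ha'.1] using this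
    · have := (hp.mem_image (hp.mem_image hj).2).1
      simpa [hy.2 _ (hx.1 a' ha'.1), hx.2 a' ha'.1] using this
    · have := (hp.mem_image (hp.mem_image (hp.mem_image hj).1).2).1
      simpa [hx.2 _ (hy.1 _ (hx.1 a' ha'.1)), hy.2 _ (hx.1 a' ha'.1), hx.2 a' ha'.1] using this
  refine step IH' hx hy hc (m := 4 + 4) (by norm_num) (hp.append hp' hd) ?_
    (by unfold cnt app; decide) (z₀ := ![1, 0, 4, 7, 2, 6, 5, 3]) (M := 3)
    (by unfold Tab cnt app; decide)
    (z₄ := ![1, 0, 4, 6, 2, 8, 3, 11, 5, 10, 9, 7]) (M₄ := 5) (by unfold Tab cnt app; decide)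
  intro i
  induction i using Fin.addCases with
  | left i => rw [Fin.append_left]; exact hmem i
  | right i => rw [Fin.append_right]; exact hmem' i

end CfsgLib.InvChar.OddMid
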