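import Cfsg.Agent.Lib.InvChar.Basic
import Cfsg.Agent.Lib.SL2Trace.Basic
import Cfsg.Agent.Lib.Linear.SL2
import Cfsg.Agent.Lib.Linear.Transvection
import Cfsg.Agent.Lib.Linear.Card

/-!
Facts about `SL₂` of odd order fields and about commuting pairs of such subgroups meeting in a
subgroup of order two.
-/

set_option autoImplicit false
set_option linter.unusedSectionVars false

open Matrix
open scoped MatrixGroups

namespace CfsgLib.InvChar

variable {F : Type*} [Field F] [Fintype F]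

theorem sl2_eq_one_or_neg (h2 : (2 : F) ≠ 0) {M : SL(2, F)} (hM : M * M = 1) : M = 1 ∨ M = -1 := by
  rcases CfsgLib.Linear.SL2_eq_one_or_neg_one_of_sq_eq_one h2 M hM with h | h
  · exact Or.inl (Subtype.ext h)
  · exact Or.inr (Subtype.ext (by rw [Matrix.SpecialLinearGroup.coe_neg, h]; rfl))

theorem sl2_center (h2 : (2 : F) ≠ 0) {M : SL(2, F)} (hM : M ∈ Subgroup.center (SL(2, F))) :
    M = 1 ∨ M = -1 := by
  refine sl2_eq_one_or_neg h2 ?_
  obtain ⟨r, hr, hM'⟩ := Matrix.SpecialLinearGroup.mem_center_iff.1 hM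
  apply Subtype.ext
  rw [Matrix.SpecialLinearGroup.coe_mul, ← hM', Matrix.SpecialLinearGroup.coe_one]
  ext i j
  fin_cases i <;> fin_cases j <;> simp [Matrix.mul_apply, Fin.sum_univ_two] <;>
    simpa [pow_two] using hr

theorem sl2_conj_of_sq_eq_neg (h2 : (2 : F) ≠ 0) {M N : SL(2, F)} (hM : M * M = -1) (hN : N * N = -1) :
    ∃ U : SL(2, F), N = U * M * U⁻¹ := by
  have key : ∀ A : SL(2, F), A * A = -1 → (A : Matrix (Fin 2) (Fin 2) F).trace = 0 := by
    intro A hA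
    have h1 := congrArg (fun B : SL(2, F) => (B : Matrix (Fin 2) (Fin 2) F)) hA
    simp only [Matrix.SpecialLinearGroup.coe_mul, CfsgLib.SL2Trace.mul_self_eq,
      Matrix.SpecialLinearGroup.coe_neg] at h1
    have h3 : (A : Matrix (Fin 2) (Fin 2) F).trace • (A : Matrix (Fin 2) (Fin 2) F) = 0 := by
      have h4 := sub_eq_iff_eq_add.1 h1
      rw [h4]; simp
    rcases smul_eq_zero.1 h3 with h | h
    · exact h
    · rw [h, Matrix.trace_zero]
  refine CfsgLib.SL2Trace.isConj_of_trace_eq M N ?_ (by rw [key M hM, key N hN])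
  rw [key M hM, zero_pow two_ne_zero]
  intro h4
  exact mul_ne_zero h2 h2 (by rw [show (2 : F) * 2 = 4 by norm_num]; exact h4.symm)

omit [Fintype F] in
theorem sl2_exists_sq_eq_neg : ∃ M : SL(2, F), M * M = -1 := by
  refine ⟨CfsgLib.SL2Trace.comp 0, Subtype.ext ?_⟩
  rw [Matrix.SpecialLinearGroup.coe_mul, CfsgLib.SL2Trace.coe_comp, Matrix.SpecialLinearGroup.coe_neg]
  ext i j
  fin_cases i <;> fin_cases j <;> simp [Matrix.mul_apply, Fin.sum_univ_two]

/-- A non-central element does not commute with all its conjugates. -/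
theorem sl2_mem_center_of_commute_conj (h2 : (2 : F) ≠ 0) {m : SL(2, F)}
    (h : ∀ g : SL(2, F), Commute (g * m * g⁻¹) m) : m ∈ Subgroup.center (SL(2, F)) := by
  rw [CfsgLib.SL2Trace.mem_center_iff_entries]
  have hup : ∀ s : F, ∀ i j : Fin 2,
      (CfsgLib.SL2Trace.mk2 1 s 0 1 (by ring) * m * (CfsgLib.SL2Trace.mk2 1 s 0 1 (by ring))⁻¹ * m).1 i j =
      (m * (CfsgLib.SL2Trace.mk2 1 s 0 1 (by ring) * m * (CfsgLib.SL2Trace.mk2 1 s 0 1 (by ring))⁻¹)).1 i j :=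
    fun s i j => CfsgLib.Linear.SL2_entry_congr (h _).eq i j
  have hlo : ∀ s : F, ∀ i j : Fin 2,
      (CfsgLib.SL2Trace.mk2 1 0 s 1 (by ring) * m * (CfsgLib.SL2Trace.mk2 1 0 s 1 (by ring))⁻¹ * m).1 i j =
      (m * (CfsgLib.SL2Trace.mk2 1 0 s 1 (by ring) * m * (CfsgLib.SL2Trace.mk2 1 0 s 1 (by ring))⁻¹)).1 i j :=
    fun s i j => CfsgLib.Linear.SL2_entry_congr (h _).eq i j
  have e1 := hup 1 0 0
  have e2 := hup (-1) 0 0
  have e3 := hlo 1 0 0
  have e4 := hlo (-1) 0 0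
  have e5 := hup 1 0 1
  simp only [CfsgLib.Linear.SL2_mul_apply] at e1 e2 e3 e4 e5
  simp [CfsgLib.SL2Trace.coe_mk2, Matrix.adjugate_fin_two] at e1 e2 e3 e4 e5
  set a := m.1 0 0
  set b := m.1 0 1
  set c := m.1 1 0
  set d := m.1 1 1
  have hc : c = 0 := by
    have : (2 : F) * (c * c) = 0 := by linear_combination -e1 - e2
    simpa [h2] using this
  have hb : b = 0 := by
    have : (2 : F) * (b * b) = 0 := by linear_combination e3 + e4
    simpa [h2] using this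
  refine ⟨hb, hc, ?_⟩
  have : (a - d) * (a - d) = 0 := by
    rw [hb, hc] at e5
    linear_combination e5
  exact sub_eq_zero.1 (mul_self_eq_zero.1 this)

/-- Two commuting normal subgroups of `SL₂`: one of them is central. -/
theorem sl2_central_of_commuting_normal (h2 : (2 : F) ≠ 0) (M M' : Subgroup (SL(2, F))) (hM : M.Normal)
    (hc : ∀ x ∈ M, ∀ y ∈ M', x * y = y * x) :
    M ≤ Subgroup.center (SL(2, F)) ∨ M' ≤ Subgroup.center (SL(2, F)) := by
  by_contra hcon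
  push Not at hcon
  obtain ⟨m, hm, hmc⟩ := SetLike.not_le_iff_exists.1 hcon.1
  obtain ⟨m', hm', hm'c⟩ := SetLike.not_le_iff_exists.1 hcon.2
  refine hmc (sl2_mem_center_of_commute_conj h2 fun g => ?_)
  have hz : m'.1 0 1 ≠ 0 ∨ m'.1 1 0 ≠ 0 ∨ m'.1 0 0 ≠ m'.1 1 1 := by
    by_contra h
    push Not at h
    exact hm'c (CfsgLib.SL2Trace.mem_center_iff_entries.2 h)
  obtain ⟨α, β, e1⟩ := CfsgLib.Linear.exists_eq_smul_one_add_of_commute hz (hc m hm m' hm')
  obtain ⟨γ, δ, e2⟩ := CfsgLib.Linear.exists_eq_smul_one_add_of_commute hz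
    (hc _ (hM.conj_mem m hm g) m' hm')
  apply Subtype.ext
  rw [Matrix.SpecialLinearGroup.coe_mul (g * m * g⁻¹) m, Matrix.SpecialLinearGroup.coe_mul m (g * m * g⁻¹), e1, e2]
  simp only [add_mul, mul_add, smul_mul_assoc, mul_smul_comm, one_mul, mul_one, smul_smul, smul_add]
  module

/-- A homomorphism of `SL₂` (odd field) into a group of exponent two is trivial. -/
theorem sl2_hom_exponent_two (h2 : (2 : F) ≠ 0) {A : Type*} [Group A] (f : SL(2, F) →* A)
    (hA : ∀ a : A, a * a = 1) (M : SL(2, F)) : f M = 1 := by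
  induction M using CfsgLib.Linear.SL_transvection_induction with
  | hone => exact map_one f
  | htr i j h c =>
    have : Matrix.SpecialLinearGroup.transvection h c =
        Matrix.SpecialLinearGroup.transvection h (c / 2) * Matrix.SpecialLinearGroup.transvection h (c / 2) := by
      apply Subtype.ext
      show Matrix.transvection i j c = Matrix.transvection i j (c / 2) * Matrix.transvection i j (c / 2)
      rw [Matrix.transvection_mul_transvection_same i j h, ← two_mul, mul_div_cancel₀ c h2]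
    rw [this, map_mul, hA]
  | hmul x y hx hy => rw [map_mul, hx, hy, one_mul]

/-! ### The abstract group `L ≅ SL₂(F)` with involution `j` -/

variable {G : Type*} [Group G] {L L₁ L₂ : Subgroup G} {j : G}

theorem SL2Iso.two_ne_zero' (h : Odd (Fintype.card F)) : (2 : F) ≠ 0 :=
  CfsgLib.Linear.two_ne_zero_of_odd_card h

omit [Fintype F] in
theorem mul_self_eq_one_of_orderOf_two {H : Type*} [Group H] {x : H} (hx : orderOf x = 2) : x * x = 1 := by
  rw [← pow_two, ← hx]; exact pow_orderOf_eq_one x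

theorem sl2iso_image_j (h2 : (2 : F) ≠ 0) (e : ↥L ≃* SL(2, F)) (hj : orderOf j = 2) (hjL : j ∈ L) :
    e ⟨j, hjL⟩ = -1 := by
  have hsq : e ⟨j, hjL⟩ * e ⟨j, hjL⟩ = 1 := by
    rw [← map_mul, show (⟨j, hjL⟩ : ↥L) * ⟨j, hjL⟩ = 1 from Subtype.ext (mul_self_eq_one_of_orderOf_two hj),
      map_one]
  refine (sl2_eq_one_or_neg h2 hsq).resolve_left fun h => ?_
  rw [MulEquiv.map_eq_one_iff] at h
  have : j = 1 := congrArg Subtype.val h
  rw [this, orderOf_one] at hj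
  omega

theorem sl2iso_sq_one (h2 : (2 : F) ≠ 0) (e : ↥L ≃* SL(2, F)) (hj : orderOf j = 2) (hjL : j ∈ L)
    {x : G} (hx : x ∈ L) (hxx : x * x = 1) : x = 1 ∨ x = j := by
  have hsq : e ⟨x, hx⟩ * e ⟨x, hx⟩ = 1 := by
    rw [← map_mul, show (⟨x, hx⟩ : ↥L) * ⟨x, hx⟩ = 1 from Subtype.ext hxx, map_one]
  rcases sl2_eq_one_or_neg h2 hsq with h | h
  · left
    rw [MulEquiv.map_eq_one_iff] at h
    exact congrArg Subtype.val h
  · right
    rw [← sl2iso_image_j h2 e hj hjL] at h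
    exact congrArg Subtype.val (e.injective h)

theorem sl2iso_center (h2 : (2 : F) ≠ 0) (e : ↥L ≃* SL(2, F)) (hj : orderOf j = 2) (hjL : j ∈ L)
    {x : G} (hx : x ∈ L) (hc : ∀ y ∈ L, x * y = y * x) : x = 1 ∨ x = j := by
  have hcen : e ⟨x, hx⟩ ∈ Subgroup.center (SL(2, F)) := Subgroup.mem_center_iff.mpr fun g => by
    obtain ⟨y, rfl⟩ := e.surjective g
    rw [← map_mul, ← map_mul]
    exact congrArg e (Subtype.ext (hc y y.2).symm)
  rcases sl2_center h2 hcen with h | h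
  · left
    rw [MulEquiv.map_eq_one_iff] at h
    exact congrArg Subtype.val h
  · right
    rw [← sl2iso_image_j h2 e hj hjL] at h
    exact congrArg Subtype.val (e.injective h)

theorem sl2iso_sq_j_conj (h2 : (2 : F) ≠ 0) (e : ↥L ≃* SL(2, F)) (hj : orderOf j = 2) (hjL : j ∈ L)
    {x y : G} (hx : x ∈ L) (hy : y ∈ L) (hxx : x * x = j) (hyy : y * y = j) :
    ∃ g ∈ L, g * x * g⁻¹ = y := by
  have key : ∀ (z : G) (hz : z ∈ L), z * z = j → e ⟨z, hz⟩ * e ⟨z, hz⟩ = -1 := fun z hz h => by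
    rw [← map_mul, show (⟨z, hz⟩ : ↥L) * ⟨z, hz⟩ = ⟨j, hjL⟩ from Subtype.ext h]
    exact sl2iso_image_j h2 e hj hjL
  obtain ⟨U, hU⟩ := sl2_conj_of_sq_eq_neg h2 (key x hx hxx) (key y hy hyy)
  obtain ⟨g, rfl⟩ := e.surjective U
  rw [← map_mul, ← map_inv, ← map_mul] at hU
  exact ⟨g, g.2, (congrArg Subtype.val (e.injective hU)).symm⟩

theorem sl2iso_exists_sq_j (h2 : (2 : F) ≠ 0) (e : ↥L ≃* SL(2, F)) (hj : orderOf j = 2) (hjL : j ∈ L) :
    ∃ x ∈ L, x * x = j := by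
  obtain ⟨M, hM⟩ := sl2_exists_sq_eq_neg (F := F)
  obtain ⟨x, rfl⟩ := e.surjective M
  rw [← map_mul, ← sl2iso_image_j h2 e hj hjL] at hM
  exact ⟨x, x.2, congrArg Subtype.val (e.injective hM)⟩

omit [Fintype F] in
theorem mem_sup_of_commute (hc : ∀ x ∈ L₁, ∀ y ∈ L₂, x * y = y * x) {z : G} :
    z ∈ L₁ ⊔ L₂ ↔ ∃ x ∈ L₁, ∃ y ∈ L₂, x * y = z := by
  constructor
  · intro hz
    have hn : L₁ ≤ Subgroup.normalizer (L₂ : Set G) := le_trans
      (fun x hx => Subgroup.mem_centralizer_iff.mpr fun y hy => (hc x hx y hy).symm)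
      (Subgroup.centralizer_le_normalizer _)
    rw [← SetLike.mem_coe, Subgroup.coe_mul_of_left_le_normalizer_right _ _ hn] at hz
    exact hz
  · rintro ⟨x, hx, y, hy, rfl⟩
    exact Subgroup.mul_mem_sup hx hy

omit [Fintype F] in
theorem eq_one_or_of_mem_zpowers (hj : orderOf j = 2) {x : G} (hx : x ∈ Subgroup.zpowers j) :
    x = 1 ∨ x = j := by
  obtain ⟨k, rfl⟩ := Subgroup.mem_zpowers_iff.mp hx
  have hjj := mul_self_eq_one_of_orderOf_two hj
  rcases Int.even_or_odd k with ⟨i, rfl⟩ | ⟨i, rfl⟩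
  · left; rw [_root_.zpow_add, ← (Commute.refl j).mul_zpow, hjj, _root_.one_zpow]
  · right; rw [_root_.zpow_add, _root_.zpow_mul, _root_.zpow_two, hjj, _root_.one_zpow, one_mul, _root_.zpow_one]

end CfsgLib.InvChar

namespace CfsgLib.InvChar

variable {F₁ F₂ G : Type*} [Field F₁] [Fintype F₁] [Field F₂] [Fintype F₂] [Group G]
  {L₁ L₂ : Subgroup G} {j : G}

/-- A normal subgroup of `L₁L₂` meeting `L₁` only in `⟨j⟩` lies in `L₂`. -/
theorem le_right_of_inf_le (h1 : (2 : F₁) ≠ 0) (e₁ : ↥L₁ ≃* SL(2, F₁)) (hc : ∀ x ∈ L₁, ∀ y ∈ L₂, x * y = y * x)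
    (hj : orderOf j = 2) (hj1 : j ∈ L₁) (hj2 : j ∈ L₂) (hjc : ∀ p ∈ L₁ ⊔ L₂, p * j = j * p)
    {M : Subgroup G} (hM : M ≤ L₁ ⊔ L₂) (hMn : L₁ ⊔ L₂ ≤ Subgroup.normalizer (M : Set G))
    (hinf : M ⊓ L₁ ≤ Subgroup.zpowers j) : M ≤ L₂ := by
  intro y hy
  have hjj := mul_self_eq_one_of_orderOf_two hj
  have hnorm : ∀ g ∈ L₁ ⊔ L₂, ∀ x ∈ L₁, g * x * g⁻¹ ∈ L₁ := by
    intro g hg x hx
    obtain ⟨p, hp, q, hq, rfl⟩ := (mem_sup_of_commute hc).mp hg
    have : q * x * q⁻¹ = x := by rw [← hc x hx q hq, mul_inv_cancel_right]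
    rw [show p * q * x * (p * q)⁻¹ = p * (q * x * q⁻¹) * p⁻¹ by simp [mul_assoc], this]
    exact L₁.mul_mem (L₁.mul_mem hp hx) (L₁.inv_mem hp)
  have hcomm : ∀ x : ↥L₁, (y * x * y⁻¹ * (x : G)⁻¹) ∈ Subgroup.zpowers j := fun x => by
    refine hinf (Subgroup.mem_inf.mpr ⟨?_, L₁.mul_mem (hnorm y (hM hy) x x.2) (L₁.inv_mem x.2)⟩)
    have := (Subgroup.mem_normalizer_iff.mp (hMn (Subgroup.mem_sup_left x.2)) y⁻¹).mp (M.inv_mem hy)
    have h := M.mul_mem hy this
    simpa [mul_assoc] using h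
  let f : ↥L₁ →* ↥(Subgroup.zpowers j) :=
    { toFun := fun x => ⟨_, hcomm x⟩
      map_one' := Subtype.ext (by simp)
      map_mul' := fun x z => by
        apply Subtype.ext
        have hz : y * (z : G) * y⁻¹ * (z : G)⁻¹ * (x : G)⁻¹ = (x : G)⁻¹ * (y * z * y⁻¹ * (z : G)⁻¹) := by
          rcases eq_one_or_of_mem_zpowers hj (hcomm z) with h | h <;> rw [h]
          · simp
          · exact ((show Commute (x : G) j from hjc x (Subgroup.mem_sup_left x.2)).inv_left).eq.symm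
        show y * ((x : G) * z) * y⁻¹ * ((x : G) * z)⁻¹ = _
        calc y * ((x : G) * z) * y⁻¹ * ((x : G) * z)⁻¹
            = (y * x * y⁻¹) * (y * (z : G) * y⁻¹ * (z : G)⁻¹ * (x : G)⁻¹) := by simp [mul_assoc]
          _ = (y * x * y⁻¹ * (x : G)⁻¹) * (y * z * y⁻¹ * (z : G)⁻¹) := by rw [hz]; simp [mul_assoc] }
  have hf : ∀ x, f x = 1 := fun x => by
    have := sl2_hom_exponent_two h1 (f.comp e₁.symm.toMonoidHom) (fun a => Subtype.ext (by
      rcases eq_one_or_of_mem_zpowers hj a.2 with h | h <;> simp [h, hjj])) (e₁ x)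
    simpa using this
  obtain ⟨p, hp, q, hq, rfl⟩ := (mem_sup_of_commute hc).mp (hM hy)
  have hp' : ∀ x ∈ L₁, p * x = x * p := by
    intro x hx
    have h := congrArg Subtype.val (hf ⟨x, hx⟩)
    change p * q * x * (p * q)⁻¹ * x⁻¹ = 1 at h
    rw [mul_inv_eq_one, mul_inv_eq_iff_eq_mul, mul_assoc, ← hc x hx q hq, ← mul_assoc, ← mul_assoc] at h
    exact mul_right_cancel h
  rcases sl2iso_center h1 e₁ hj hj1 hp hp' with rfl | rfl
  · rw [one_mul]; exact hq
  · exact L₂.mul_mem hj2 hq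

end CfsgLib.InvChar
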