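import Cfsg.Agent.Lib.InvChar.SL2Pair
import Cfsg.Agent.Lib.InvChar.ZStarUse
import Cfsg.Agent.S3209

/-!
`C(j) = L₁L₂⟨n⟩` with `Lᵢ ≅ SL₂` and `n² = j`, `n` swapping the factors: `j` is isolated, hence
`G = C(j)O(G)` by the Z* theorem (given as a hypothesis).
-/

set_option autoImplicit false
set_option linter.unusedSectionVars false

open Matrix
open scoped MatrixGroups

namespace CfsgLib.InvChar

section SL2

variable {F : Type*} [Field F] [Fintype F]

theorem sl2_sq_of_anticommute (h2 : (2 : F) ≠ 0) {g u : SL(2, F)} (hg : g * g = -1)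
    (hu : u * g * u⁻¹ = -g) : u * u = -1 := by
  have hne : g.1 0 1 ≠ 0 ∨ g.1 1 0 ≠ 0 ∨ g.1 0 0 ≠ g.1 1 1 := by
    by_contra h
    push Not at h
    have hc : g ∈ Subgroup.center (SL(2, F)) := CfsgLib.SL2Trace.mem_center_iff_entries.2 h
    have h1 : u * g * u⁻¹ = g := by rw [Subgroup.mem_center_iff.mp hc u, mul_inv_cancel_right]
    have h00 := CfsgLib.Linear.SL2_entry_congr (h1.symm.trans hu) 0 0
    rw [Matrix.SpecialLinearGroup.coe_neg, Matrix.neg_apply] at h00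
    have hz : g.1 0 0 = 0 := by
      have : (2 : F) * g.1 0 0 = 0 := by linear_combination h00
      simpa [h2] using this
    have hsq := CfsgLib.Linear.SL2_entry_congr hg 0 0
    rw [CfsgLib.Linear.SL2_mul_apply, Matrix.SpecialLinearGroup.coe_neg, Matrix.neg_apply,
      Matrix.SpecialLinearGroup.coe_one, Matrix.one_apply_eq, hz, h.1] at hsq
    simp at hsq
  have hug : u * g = -g * u := by rw [← hu, inv_mul_cancel_right]
  have htg : g.1 0 0 + g.1 1 1 = 0 := by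
    have htr := congrArg (fun B : SL(2, F) => (B : Matrix (Fin 2) (Fin 2) F).trace) hu
    simp only [Matrix.SpecialLinearGroup.coe_mul, Matrix.SpecialLinearGroup.coe_neg, Matrix.trace_neg] at htr
    rw [Matrix.trace_mul_cycle, ← Matrix.SpecialLinearGroup.coe_mul, inv_mul_cancel,
      Matrix.SpecialLinearGroup.coe_one, one_mul] at htr
    have : (2 : F) * (g : Matrix (Fin 2) (Fin 2) F).trace = 0 := by linear_combination htr
    simpa [h2, Matrix.trace_fin_two] using this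
  have htu : u.1 0 0 + u.1 1 1 = 0 := by
    have e00 := CfsgLib.Linear.SL2_entry_congr hug 0 0
    have e01 := CfsgLib.Linear.SL2_entry_congr hug 0 1
    have e10 := CfsgLib.Linear.SL2_entry_congr hug 1 0
    have e11 := CfsgLib.Linear.SL2_entry_congr hug 1 1
    simp only [CfsgLib.Linear.SL2_mul_apply, Matrix.SpecialLinearGroup.coe_neg, Matrix.neg_apply]
      at e00 e01 e10 e11
    rcases hne with h | h | h
    · refine (mul_eq_zero.1 ?_).resolve_left h
      linear_combination e01 - (u.1 0 1) * htg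
    · refine (mul_eq_zero.1 ?_).resolve_left h
      linear_combination e10 - (u.1 1 0) * htg
    · refine (mul_eq_zero.1 ?_).resolve_left (sub_ne_zero.2 h)
      linear_combination e00 - e11 + (u.1 1 1 - u.1 0 0) * htg
  apply Subtype.ext
  rw [Matrix.SpecialLinearGroup.coe_mul, CfsgLib.SL2Trace.mul_self_eq, Matrix.trace_fin_two, htu,
    Matrix.SpecialLinearGroup.coe_neg, Matrix.SpecialLinearGroup.coe_one]
  simp

variable {G : Type*} [Group G] {L : Subgroup G} {j : G}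

theorem sl2iso_sq_of_inverting (h2 : (2 : F) ≠ 0) (e : ↥L ≃* SL(2, F)) (hj : orderOf j = 2) (hjL : j ∈ L)
    {a p : G} (ha : a ∈ L) (hp : p ∈ L) (haa : a * a = j) (hpa : p * a * p⁻¹ = a * j) : p * p = j := by
  have hA : e ⟨a, ha⟩ * e ⟨a, ha⟩ = -1 := by
    rw [← map_mul, show (⟨a, ha⟩ : ↥L) * ⟨a, ha⟩ = ⟨j, hjL⟩ from Subtype.ext haa]
    exact sl2iso_image_j h2 e hj hjL
  have hP : e ⟨p, hp⟩ * e ⟨a, ha⟩ * (e ⟨p, hp⟩)⁻¹ = -e ⟨a, ha⟩ := by
    rw [← map_inv, ← map_mul, ← map_mul,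
      show (⟨p, hp⟩ : ↥L) * ⟨a, ha⟩ * (⟨p, hp⟩ : ↥L)⁻¹ = ⟨a, ha⟩ * ⟨j, hjL⟩ from Subtype.ext hpa, map_mul,
      sl2iso_image_j h2 e hj hjL, mul_neg, mul_one]
  have h := sl2_sq_of_anticommute h2 hA hP
  rw [← map_mul, ← sl2iso_image_j h2 e hj hjL] at h
  exact congrArg Subtype.val (e.injective h)

end SL2

variable {F₁ F₂ G : Type*} [Field F₁] [Fintype F₁] [Field F₂] [Fintype F₂] [Group G] [Finite G]
  {L₁ L₂ : Subgroup G} {j n : G}

/-- In the swap case `j` is isolated in its centralizer. -/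
theorem swap_isolated (hF₁ : Odd (Fintype.card F₁)) (hF₂ : Odd (Fintype.card F₂))
    (e₁ : ↥L₁ ≃* SL(2, F₁)) (e₂ : ↥L₂ ≃* SL(2, F₂))
    (hc : ∀ x ∈ L₁, ∀ y ∈ L₂, x * y = y * x) (hj : orderOf j = 2) (hm : L₁ ⊓ L₂ = Subgroup.zpowers j)
    (hle : L₁ ⊔ L₂ ≤ Subgroup.centralizer ({j} : Set G))
    (hi : (L₁ ⊔ L₂).relIndex (Subgroup.centralizer ({j} : Set G)) = 2)
    (hn : n ∈ Subgroup.centralizer ({j} : Set G))
    (hn2 : n ^ 2 = j) (hswap : L₁.map (MulAut.conj n).toMonoidHom = L₂) :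
    ∀ g : G, g * j * g⁻¹ ∈ Subgroup.centralizer ({j} : Set G) → g * j * g⁻¹ = j := by
  classical
  have h1 : (2 : F₁) ≠ 0 := SL2Iso.two_ne_zero' hF₁
  have h2 : (2 : F₂) ≠ 0 := SL2Iso.two_ne_zero' hF₂
  obtain ⟨hj1, hj2⟩ := Subgroup.mem_inf.mp (hm ▸ Subgroup.mem_zpowers j : j ∈ L₁ ⊓ L₂)
  have hjj : j * j = 1 := mul_self_eq_one_of_orderOf_two hj
  have hjne : j ≠ 1 := fun h => by rw [h, orderOf_one] at hj; omega
  have hjinv : j⁻¹ = j := inv_eq_of_mul_eq_one_right hjj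
  set P := L₁ ⊔ L₂ with hP
  set C := Subgroup.centralizer ({j} : Set G) with hC
  have memC : ∀ {y : G}, y ∈ C ↔ y * j = j * y := fun {y} => Subgroup.mem_centralizer_singleton_iff
  have hnj : n * j = j * n := memC.mp hn
  rw [pow_two] at hn2
  have hinter : ∀ y ∈ L₁, y ∈ L₂ → y = 1 ∨ y = j := fun y hy hy' =>
    eq_one_or_of_mem_zpowers hj (hm ▸ Subgroup.mem_inf.mpr ⟨hy, hy'⟩)
  have up : ∀ y ∈ L₁, n * y * n⁻¹ ∈ L₂ := fun y hy => hswap ▸ Subgroup.mem_map_of_mem _ hy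
  have down : ∀ y ∈ L₂, ∃ y₀ ∈ L₁, n * y₀ * n⁻¹ = y := fun y hy => by
    rw [← hswap, Subgroup.mem_map] at hy
    simpa using hy
  have hcj : ∀ y ∈ P, Commute y j := fun y hy => memC.mp (hle hy)
  have hnn : ∀ y ∈ P, n * (n * y * n⁻¹) * n⁻¹ = y := fun y hy => by
    calc n * (n * y * n⁻¹) * n⁻¹ = (n * n) * y * (n * n)⁻¹ := by simp [mul_assoc]
      _ = y := by rw [hn2, ← (hcj y hy).eq, mul_inv_cancel_right]
  obtain ⟨a, ha, haa⟩ := sl2iso_exists_sq_j h1 e₁ hj hj1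
  have haP : a ∈ P := Subgroup.mem_sup_left ha
  have hb : n * a * n⁻¹ ∈ L₂ := up a ha
  set b := n * a * n⁻¹ with hbdef
  have hbb : b * b = j := by
    rw [hbdef, conj_mul, haa, hnj, mul_inv_cancel_right]
  have hab : Commute a b := hc a ha b hb
  have hnP : n ∉ P := by
    intro h
    obtain ⟨p, hp, q, hq, rfl⟩ := (mem_sup_of_commute hc).mp h
    have hmem : b ∈ L₁ := by
      rw [hbdef, show p * q * a * (p * q)⁻¹ = p * (q * a * q⁻¹) * p⁻¹ by simp [mul_assoc],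
        show q * a * q⁻¹ = a by rw [← hc a ha q hq, mul_inv_cancel_right]]
      exact L₁.mul_mem (L₁.mul_mem hp ha) (L₁.inv_mem hp)
    rcases hinter b hmem hb with hh | hh <;> rw [hh] at hbb
    · exact hjne (by simpa using hbb.symm)
    · exact hjne (hbb.symm.trans hjj)
  have hidx : (P.subgroupOf C).index = 2 := hi
  have outer : ∀ d ∈ C, d ∉ P → ∃ p ∈ L₁, ∃ q ∈ L₁, d = p * n * q := by
    intro d hd hdP
    have hmem : d * n⁻¹ ∈ P := by
      have h := Subgroup.mul_mem_iff_of_index_two hidx (a := (⟨d, hd⟩ : ↥C)) (b := ⟨n, hn⟩⁻¹)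
      have h' : (d * n⁻¹ ∈ P) ↔ (d ∈ P ↔ n⁻¹ ∈ P) := by simpa [Subgroup.mem_subgroupOf] using h
      exact h'.mpr (iff_of_false hdP (fun h => hnP (P.inv_mem_iff.mp h)))
    obtain ⟨p, hp, q', hq', e⟩ := (mem_sup_of_commute hc).mp hmem
    obtain ⟨q, hq, rfl⟩ := down q' hq'
    refine ⟨p, hp, q, hq, ?_⟩
    rw [eq_mul_inv_iff_mul_eq] at e
    rw [← e]; simp [mul_assoc]
  have outer_sq : ∀ p ∈ L₁, ∀ q ∈ L₁, (p * n * q) * (p * n * q) = (p * q) * (n * (q * p) * n⁻¹) * j := by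
    intro p hp q hq
    have hw : n * (q * p) * n⁻¹ ∈ L₂ := up _ (L₁.mul_mem hq hp)
    calc (p * n * q) * (p * n * q) = p * (n * (q * p) * n⁻¹) * (n * n) * q := by simp [mul_assoc]
      _ = p * (n * (q * p) * n⁻¹) * q * j := by
          rw [hn2, mul_assoc _ j q, ← (hcj q (Subgroup.mem_sup_left hq)).eq, ← mul_assoc]
      _ = (p * q) * (n * (q * p) * n⁻¹) * j := by
          rw [mul_assoc p, ← hc q hq _ hw, ← mul_assoc]
  have noInv : ∀ d ∈ C, d * d = 1 → d ∈ P := by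
    intro d hd hdd
    by_contra hdP
    obtain ⟨p, hp, q, hq, rfl⟩ := outer d hd hdP
    rw [outer_sq p hp q hq] at hdd
    set u := p * q with hu
    set v := q * p with hv
    have hu1 : u ∈ L₂ := by
      rw [mul_assoc] at hdd
      rw [eq_inv_of_mul_eq_one_left hdd]
      exact L₂.inv_mem (L₂.mul_mem (up _ (L₁.mul_mem hq hp)) hj2)
    have hvu : v = p⁻¹ * u * p := by rw [hu, hv]; simp [mul_assoc]
    rcases hinter u (L₁.mul_mem hp hq) hu1 with e | e
    · rw [hvu, e] at hdd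
      simp at hdd
      exact hjne hdd
    · rw [e, mul_assoc p⁻¹, ← (hcj p (Subgroup.mem_sup_left hp)).eq, ← mul_assoc, inv_mul_cancel,
        one_mul] at hvu
      rw [hvu, e, hnj, mul_inv_cancel_right, hjj, one_mul] at hdd
      exact hjne hdd
  set x := a * b with hx
  have hxP : x ∈ P := Subgroup.mul_mem_sup ha hb
  have hxne1 : x ≠ 1 := fun h => by
    have : b ∈ L₁ := by rw [eq_inv_of_mul_eq_one_right h]; exact L₁.inv_mem ha
    rcases hinter b this hb with hh | hh <;> rw [hh] at hbb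
    · exact hjne (by simpa using hbb.symm)
    · exact hjne (hbb.symm.trans hjj)
  have hxnej : x ≠ j := fun h => by
    have : b ∈ L₁ := by rw [eq_inv_mul_of_mul_eq h]; exact L₁.mul_mem (L₁.inv_mem ha) hj1
    rcases hinter b this hb with hh | hh <;> rw [hh] at hbb
    · exact hjne (by simpa using hbb.symm)
    · exact hjne (hbb.symm.trans hjj)
  have hxx : x * x = 1 := by rw [hx, hab.symm.mul_mul_mul_comm, haa, hbb, hjj]
  obtain ⟨x₀, -, -, -, hcls⟩ := Cfsg.Agent.S3209.result hF₁ hF₂ L₁ L₂ e₁ e₂ hc j hj hm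
  have toX : ∀ y ∈ C, y * y = 1 → y ≠ 1 → y ≠ j → ∃ c ∈ C, c * y * c⁻¹ = x := by
    intro y hy hyy hy1 hyj
    obtain ⟨g₁, hg₁, e⟩ :=
      (hcls y (noInv y hy hyy) (orderOf_eq_prime (by rw [pow_two, hyy]) hy1)).resolve_left hyj
    obtain ⟨g₂, hg₂, e'⟩ :=
      (hcls x hxP (orderOf_eq_prime (by rw [pow_two, hxx]) hxne1)).resolve_left hxnej
    refine ⟨g₂ * g₁⁻¹, hle (P.mul_mem hg₂ (P.inv_mem hg₁)), ?_⟩
    rw [← e, ← e']; simp [mul_assoc]
  intro g₀ hg₀
  by_contra hne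
  have conj1 : ∀ g : G, g * j * g⁻¹ * (g * j * g⁻¹) = 1 := fun g => by
    rw [conj_mul, hjj, mul_one, mul_inv_cancel]
  have conjne : ∀ g : G, g * j * g⁻¹ ≠ 1 := fun g h => hjne (by simpa using h)
  obtain ⟨g, hg⟩ : ∃ g : G, g * j * g⁻¹ = x := by
    obtain ⟨c, -, e⟩ := toX _ hg₀ (conj1 g₀) (conjne g₀) hne
    exact ⟨c * g₀, by rw [← e]; simp [mul_assoc]⟩
  have hxC : x ∈ C := hle hxP
  obtain ⟨h, hhj, hhx⟩ : ∃ h : G, h * j * h⁻¹ = x ∧ h * x * h⁻¹ = j := by
    have hy : g⁻¹ * j * g⁻¹⁻¹ ∈ C := by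
      rw [memC]
      have hg' := hg ▸ memC.mp hxC
      have hc' : Commute (g * j * g⁻¹) j := hg'
      have e : g⁻¹ * (g * j * g⁻¹) * g = j := by simp [mul_assoc]
      have e' : g⁻¹ * j * g⁻¹⁻¹ = g⁻¹ * j * g := by rw [inv_inv]
      rw [e']
      calc g⁻¹ * j * g * j = g⁻¹ * j * g * (g⁻¹ * (g * j * g⁻¹) * g) := by rw [e]
        _ = g⁻¹ * (j * (g * j * g⁻¹)) * g := by simp [mul_assoc]
        _ = g⁻¹ * ((g * j * g⁻¹) * j) * g := by rw [hc'.eq]
        _ = (g⁻¹ * (g * j * g⁻¹) * g) * (g⁻¹ * j * g) := by simp [mul_assoc]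
        _ = j * (g⁻¹ * j * g) := by rw [e]
    have hne' : g⁻¹ * j * g⁻¹⁻¹ ≠ j := fun h => hxnej (by
      rw [← hg]
      calc g * j * g⁻¹ = g * (g⁻¹ * j * g⁻¹⁻¹) * g⁻¹ := by rw [h]
        _ = j := by simp [mul_assoc])
    obtain ⟨c, hcC, e⟩ := toX _ hy (conj1 _) (conjne _) hne'
    refine ⟨g * c⁻¹, ?_, ?_⟩
    · rw [← hg]
      have := memC.mp (C.inv_mem hcC)
      calc g * c⁻¹ * j * (g * c⁻¹)⁻¹ = g * (c⁻¹ * j) * c * g⁻¹ := by simp [mul_assoc]
        _ = g * j * g⁻¹ := by rw [this]; simp [mul_assoc]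
    · rw [← e]; simp [mul_assoc]
  -- `D = C(j) ∩ C(x)` and the subgroup generated by its involutions
  set D := C ⊓ Subgroup.centralizer ({x} : Set G) with hD
  have memD : ∀ {y : G}, y ∈ D ↔ y * j = j * y ∧ y * x = x * y := fun {y} => by
    rw [hD, Subgroup.mem_inf, memC, Subgroup.mem_centralizer_singleton_iff]
  set E := Subgroup.closure {d : G | d ∈ D ∧ d * d = 1} with hE
  have hEP : E ≤ P := (Subgroup.closure_le _).mpr fun d hd => noInv d (Subgroup.mem_inf.mp hd.1).1 hd.2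
  have hconjD : ∀ d ∈ D, h * d * h⁻¹ ∈ D := by
    intro d hd
    obtain ⟨d1, d2⟩ := memD.mp hd
    refine memD.mpr ⟨?_, ?_⟩
    · rw [← hhx, conj_mul, conj_mul, d2]
    · rw [← hhj, conj_mul, conj_mul, d1]
  have hconjD' : ∀ d ∈ D, h⁻¹ * d * h ∈ D := by
    intro d hd
    obtain ⟨d1, d2⟩ := memD.mp hd
    have ej : h⁻¹ * x * h = j := by rw [← hhj]; simp [mul_assoc]
    have ex : h⁻¹ * j * h = x := by rw [← hhx]; simp [mul_assoc]
    have hm2 : ∀ u v : G, h⁻¹ * u * h * (h⁻¹ * v * h) = h⁻¹ * (u * v) * h := fun u v => by simp [mul_assoc]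
    refine memD.mpr ⟨?_, ?_⟩
    · rw [← ej, hm2, hm2, d2]
    · rw [← ex, hm2, hm2, d1]
  have hconjE : ∀ d ∈ E, h⁻¹ * d * h ∈ E := by
    have : E ≤ E.comap (MulAut.conj h⁻¹).toMonoidHom := (Subgroup.closure_le _).mpr fun d hd => by
      refine Subgroup.subset_closure ⟨by simpa using hconjD' d hd.1, ?_⟩
      simp only [MulEquiv.coe_toMonoidHom, MulAut.conj_apply]
      rw [conj_mul, hd.2, mul_one, mul_inv_cancel]
    intro d hd
    simpa using this hd
  let X : G → Set G := fun z => {d | d ∈ D ∧ d ∉ E ∧ d * d = z}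
  have card1 : (X j).ncard ≤ (X x).ncard := by
    refine Set.ncard_le_ncard_of_injOn (fun d => h * d * h⁻¹) ?_ ?_ (Set.toFinite _)
    · rintro d ⟨hd, hdE, hdd⟩
      refine ⟨hconjD d hd, fun hE' => hdE ?_, ?_⟩
      · simpa [mul_assoc] using hconjE _ hE'
      · rw [conj_mul, hdd, hhj]
    · intro d _ d' _ e
      simpa using e
  obtain ⟨s, hs, hsa⟩ : ∃ s ∈ L₁, s * a * s⁻¹ = a * j := by
    refine sl2iso_sq_j_conj h1 e₁ hj hj1 ha (L₁.mul_mem ha hj1) haa ?_
    rw [(hcj a haP).symm.mul_mul_mul_comm, haa, hjj, mul_one]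
  have hmemD_of : ∀ p ∈ L₁, ∀ q ∈ L₁, ∀ ε : G, ε = 1 ∨ ε = j → p * a * p⁻¹ = a * ε →
      q * a * q⁻¹ = a * ε → p * (n * q * n⁻¹) ∈ D := by
    intro p hp q hq ε hε hpa hqa
    have hwP : p * (n * q * n⁻¹) ∈ P := Subgroup.mul_mem_sup hp (up q hq)
    refine memD.mpr ⟨hcj _ hwP, ?_⟩
    rw [← mul_inv_eq_iff_eq_mul]
    have hεC : n * ε * n⁻¹ = ε := by
      rcases hε with rfl | rfl
      · simp
      · rw [hnj, mul_inv_cancel_right]
    have hεε : ε * ε = 1 := by rcases hε with rfl | rfl <;> simp [hjj]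
    have hεP : Commute ε b := by
      rcases hε with rfl | rfl
      · exact Commute.one_left b
      · exact (hcj b (Subgroup.mem_sup_right hb)).symm
    calc p * (n * q * n⁻¹) * x * (p * (n * q * n⁻¹))⁻¹
        = p * ((n * q * n⁻¹) * a * (n * q * n⁻¹)⁻¹) * (n * (q * a * q⁻¹) * n⁻¹) * p⁻¹ := by
          simp [hx, hbdef, mul_assoc]
      _ = p * a * (n * (q * a * q⁻¹) * n⁻¹) * p⁻¹ := by
          rw [← hc a ha _ (up q hq), mul_inv_cancel_right]
      _ = (p * a * p⁻¹) * (n * (q * a * q⁻¹) * n⁻¹) := by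
          rw [mul_assoc _ _ p⁻¹, ← hc p⁻¹ (L₁.inv_mem hp) _ (up _ (L₁.mul_mem (L₁.mul_mem hq ha) (L₁.inv_mem hq))),
            ← mul_assoc]
      _ = (a * ε) * (n * a * n⁻¹ * (n * ε * n⁻¹)) := by rw [hpa, hqa]; simp [mul_assoc]
      _ = x := by rw [hεC, ← hbdef, ← hεP.eq, mul_assoc a ε, ← mul_assoc ε ε, hεε, one_mul]
  have invol_of : ∀ p ∈ L₁, ∀ q ∈ L₁, p * a * p⁻¹ = a * j → q * a * q⁻¹ = a * j →
      p * (n * q * n⁻¹) ∈ E := by
    intro p hp q hq hpa hqa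
    refine Subgroup.subset_closure ⟨hmemD_of p hp q hq j (Or.inr rfl) hpa hqa, ?_⟩
    rw [(show Commute p (n * q * n⁻¹) from hc p hp _ (up q hq)).symm.mul_mul_mul_comm,
      sl2iso_sq_of_inverting h1 e₁ hj hj1 ha hp haa hpa, conj_mul,
      sl2iso_sq_of_inverting h1 e₁ hj hj1 ha hq haa hqa, hnj, mul_inv_cancel_right, hjj]
  have inP : ∀ d ∈ D, d ∈ P → d ∈ E := by
    intro d hd hdP
    obtain ⟨p, hp, q', hq', rfl⟩ := (mem_sup_of_commute hc).mp hdP
    obtain ⟨q, hq, rfl⟩ := down q' hq'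
    have hx' := (memD.mp hd).2
    rw [← mul_inv_eq_iff_eq_mul] at hx'
    have hpa1 : p * a * p⁻¹ ∈ L₁ := L₁.mul_mem (L₁.mul_mem hp ha) (L₁.inv_mem hp)
    have hqa1 : q * a * q⁻¹ ∈ L₁ := L₁.mul_mem (L₁.mul_mem hq ha) (L₁.inv_mem hq)
    have e : (p * a * p⁻¹) * (n * (q * a * q⁻¹) * n⁻¹) = a * b := by
      rw [← hx, ← hx']
      symm
      calc p * (n * q * n⁻¹) * x * (p * (n * q * n⁻¹))⁻¹
          = p * ((n * q * n⁻¹) * a * (n * q * n⁻¹)⁻¹) * (n * (q * a * q⁻¹) * n⁻¹) * p⁻¹ := by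
            simp [hx, hbdef, mul_assoc]
        _ = p * a * (n * (q * a * q⁻¹) * n⁻¹) * p⁻¹ := by
            rw [← hc a ha _ (up q hq), mul_inv_cancel_right]
        _ = _ := by
            rw [mul_assoc _ _ p⁻¹, ← hc p⁻¹ (L₁.inv_mem hp) _ (up _ hqa1), ← mul_assoc]
    obtain ⟨ε, hε, hpe, hqe⟩ : ∃ ε, (ε = 1 ∨ ε = j) ∧ p * a * p⁻¹ = a * ε ∧ q * a * q⁻¹ = a * ε := by
      refine ⟨a⁻¹ * (p * a * p⁻¹), ?_, by simp, ?_⟩
      · refine hinter _ (L₁.mul_mem (L₁.inv_mem ha) hpa1) ?_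
        rw [eq_mul_inv_of_mul_eq e, ← mul_assoc, ← mul_assoc, inv_mul_cancel, one_mul]
        exact L₂.mul_mem hb (L₂.inv_mem (up _ hqa1))
      · have h12 : a⁻¹ * (p * a * p⁻¹) = 1 ∨ a⁻¹ * (p * a * p⁻¹) = j := by
          refine hinter _ (L₁.mul_mem (L₁.inv_mem ha) hpa1) ?_
          rw [eq_mul_inv_of_mul_eq e, ← mul_assoc, ← mul_assoc, inv_mul_cancel, one_mul]
          exact L₂.mul_mem hb (L₂.inv_mem (up _ hqa1))
        rcases h12 with h' | h'
        · rw [inv_mul_eq_one] at h'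
          rw [← h'] at e
          have := mul_left_cancel e
          rw [hbdef] at this
          simpa [show a⁻¹ * (p * a * p⁻¹) = 1 by rw [inv_mul_eq_one]; exact h'] using this
        · rw [h']
          rw [inv_mul_eq_iff_eq_mul] at h'
          rw [h', mul_assoc] at e
          have e2 := mul_left_cancel e
          rw [← eq_inv_mul_iff_mul_eq, hjinv, hbdef] at e2
          have e3 : n * (q * a * q⁻¹) * n⁻¹ = n * (j * a) * n⁻¹ := by
            rw [e2]
            calc j * (n * a * n⁻¹) = (j * n) * a * n⁻¹ := by simp [mul_assoc]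
              _ = (n * j) * a * n⁻¹ := by rw [hnj]
              _ = n * (j * a) * n⁻¹ := by simp [mul_assoc]
          rw [(hcj a haP).eq]
          exact mul_left_cancel (mul_right_cancel e3)
    rcases hε with rfl | rfl
    swap
    · exact invol_of p hp q hq hpe hqe
    · rw [mul_one] at hpe hqe
      have h1' : ∀ r ∈ L₁, r * a * r⁻¹ = a → (r * s) * a * (r * s)⁻¹ = a * j := fun r hr hra => by
        calc (r * s) * a * (r * s)⁻¹ = r * (s * a * s⁻¹) * r⁻¹ := by simp [mul_assoc]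
          _ = r * a * (j * r⁻¹) := by rw [hsa]; simp [mul_assoc]
          _ = r * a * (r⁻¹ * j) := by rw [((hcj r (Subgroup.mem_sup_left hr)).inv_left).eq]
          _ = (r * a * r⁻¹) * j := by rw [← mul_assoc]
          _ = a * j := by rw [hra]
      have k1 := invol_of (p * s) (L₁.mul_mem hp hs) (q * s) (L₁.mul_mem hq hs) (h1' p hp hpe) (h1' q hq hqe)
      have k2 := invol_of s hs s hs hsa hsa
      have := E.mul_mem k1 (E.inv_mem k2)
      convert this using 1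
      calc p * (n * q * n⁻¹) = p * (s * (n * q * n⁻¹) * s⁻¹) := by
            rw [hc s hs _ (up q hq), mul_inv_cancel_right]
        _ = p * s * (n * (q * s) * n⁻¹) * (s * (n * s * n⁻¹))⁻¹ := by simp [mul_assoc]
  let Y : Set G := {d | ∃ p ∈ L₁, p * a * p⁻¹ = a * j ∧ ∃ ε, (ε = 1 ∨ ε = j) ∧ d = p * n * p⁻¹ * ε}
  have hsub : X x ⊆ (fun d => d * a) '' Y := by
    rintro d ⟨hd, hdE, hdd⟩
    have hdC : d ∈ C := (Subgroup.mem_inf.mp hd).1
    obtain ⟨p, hp, q, hq, rfl⟩ := outer d hdC (fun hP' => hdE (inP d hd hP'))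
    rw [outer_sq p hp q hq, mul_assoc] at hdd
    set u := p * q with hu
    have hu1 : u ∈ L₁ := L₁.mul_mem hp hq
    have hw : n * (q * p) * n⁻¹ ∈ L₂ := up _ (L₁.mul_mem hq hp)
    obtain ⟨ε, hε, hue⟩ : ∃ ε, (ε = 1 ∨ ε = j) ∧ u = a * ε := by
      refine ⟨a⁻¹ * u, hinter _ (L₁.mul_mem (L₁.inv_mem ha) hu1) ?_, by simp⟩
      rw [eq_mul_inv_of_mul_eq hdd, hx, ← mul_assoc, ← mul_assoc, inv_mul_cancel, one_mul]
      exact L₂.mul_mem hb (L₂.inv_mem (L₂.mul_mem hw hj2))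
    have hεj : ε * j = j * ε := by rcases hε with rfl | rfl <;> simp
    have hεε : ε * ε = 1 := by rcases hε with rfl | rfl <;> simp [hjj]
    have hεn : n * ε * n⁻¹ = ε := by
      rcases hε with rfl | rfl
      · simp
      · rw [hnj, mul_inv_cancel_right]
    have hεp : ∀ r ∈ P, Commute r ε := fun r hr => by
      rcases hε with rfl | rfl
      · exact Commute.one_right r
      · exact hcj r hr
    rw [hue, hx, mul_assoc] at hdd
    have h3 := mul_left_cancel hdd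
    have hqp : q * p = a * ε * j := by
      have e4 : n * (q * p) * n⁻¹ = n * (a * ε * j) * n⁻¹ := by
        have h5 : n * (q * p) * n⁻¹ = ε * b * j := by
          rw [← h3]
          simp only [← mul_assoc, hεε, one_mul]
          simp only [mul_assoc, hjj, mul_one]
        rw [h5]
        calc ε * b * j = b * ε * j := by rw [(hεp b (Subgroup.mem_sup_right hb)).eq]
          _ = (n * a * n⁻¹) * (n * ε * n⁻¹) * (n * j * n⁻¹) := by
              rw [hεn, hnj, mul_inv_cancel_right, hbdef]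
          _ = n * (a * ε * j) * n⁻¹ := by simp [mul_assoc]
      exact mul_left_cancel (mul_right_cancel e4)
    have hpa : p⁻¹ * a * p = a * j := by
      have e5 : p⁻¹ * u * p = q * p := by rw [hu]; simp [mul_assoc]
      rw [hue, hqp] at e5
      have e6 : p⁻¹ * a * p * ε = a * j * ε := by
        rw [mul_assoc a j, ← hεj, ← mul_assoc a, ← e5]
        calc p⁻¹ * a * p * ε = p⁻¹ * a * (p * ε) := by simp [mul_assoc]
          _ = p⁻¹ * a * (ε * p) := by rw [(hεp p (Subgroup.mem_sup_left hp)).eq]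
          _ = _ := by simp [mul_assoc]
      exact mul_right_cancel e6
    have hpa' : p * a * p⁻¹ = a * j := by
      have e7 : a = p * (a * j) * p⁻¹ := by rw [← hpa]; simp [mul_assoc]
      calc p * a * p⁻¹ = p * (a * j) * p⁻¹ * j := by
            rw [show p * (a * j) * p⁻¹ * j = p * a * (j * p⁻¹) * j by simp [mul_assoc],
              ← ((hcj p (Subgroup.mem_sup_left hp)).inv_left).eq, ← mul_assoc, mul_assoc _ j j, hjj, mul_one]
        _ = a * j := by rw [← e7]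
    refine ⟨p * n * p⁻¹ * ε, ⟨p, hp, hpa', ε, hε, rfl⟩, ?_⟩
    show p * n * p⁻¹ * ε * a = p * n * q
    rw [mul_assoc _ ε a, ← (hεp a haP).eq, ← hue, hu]
    simp [mul_assoc]
  have hYX : Y ⊆ X j := by
    rintro d ⟨p, hp, hpa, ε, hε, rfl⟩
    have hpP : p ∈ P := Subgroup.mem_sup_left hp
    have hεε : ε * ε = 1 := by rcases hε with rfl | rfl <;> simp [hjj]
    have hεD : ε ∈ D := by
      rcases hε with rfl | rfl
      · exact D.one_mem
      · exact memD.mpr ⟨rfl, (hcj x hxP).symm⟩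
    have hεP : ε ∈ P := by
      rcases hε with rfl | rfl
      · exact P.one_mem
      · exact Subgroup.mem_sup_left hj1
    have hnx : n * x = x * n := by
      rw [← mul_inv_eq_iff_eq_mul, hx, ← conj_mul, ← hbdef, show n * b * n⁻¹ = a from hnn a haP]
      exact hab.eq.symm
    have hnD : n ∈ D := memD.mpr ⟨hnj, hnx⟩
    have hpp : p * (n * p⁻¹ * n⁻¹) ∈ D := by
      refine hmemD_of p hp p⁻¹ (L₁.inv_mem hp) j (Or.inr rfl) hpa ?_
      have e7 : a = p⁻¹ * (a * j) * p := by rw [← hpa]; simp [mul_assoc]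
      calc p⁻¹ * a * p⁻¹⁻¹ = p⁻¹ * (a * j) * p * j := by
            rw [inv_inv, show p⁻¹ * (a * j) * p * j = p⁻¹ * a * (j * p) * j by simp [mul_assoc],
              ← (hcj p hpP).eq, ← mul_assoc, mul_assoc _ j j, hjj, mul_one]
        _ = a * j := by rw [← e7]
    have hd : p * n * p⁻¹ ∈ D := by
      have := D.mul_mem hpp hnD
      simpa [mul_assoc] using this
    refine ⟨D.mul_mem hd hεD, fun hE' => hnP ?_, ?_⟩
    · have h3 := P.mul_mem (hEP hE') (P.inv_mem hεP)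
      rw [mul_inv_cancel_right] at h3
      have := P.mul_mem (P.mul_mem (P.inv_mem hpP) h3) hpP
      simpa [mul_assoc] using this
    · have hεd : Commute (p * n * p⁻¹) ε := by
        rcases hε with rfl | rfl
        · exact Commute.one_right _
        · exact (memD.mp hd).1
      rw [hεd.symm.mul_mul_mul_comm, hεε, mul_one, conj_mul, hn2, (hcj p hpP).eq, mul_inv_cancel_right]
  have hnX : n ∈ X j := by
    refine ⟨memD.mpr ⟨hnj, ?_⟩, fun h => hnP (hEP h), hn2⟩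
    rw [← mul_inv_eq_iff_eq_mul, hx, ← conj_mul, ← hbdef, show n * b * n⁻¹ = a from hnn a haP]
    exact hab.eq.symm
  have hnY : n ∉ Y := by
    rintro ⟨p, hp, hpa, ε, hε, hd⟩
    have hp2 : p ∈ L₂ := by
      have hεn : Commute n ε := by
        rcases hε with rfl | rfl
        · exact Commute.one_right n
        · exact hnj
      have e8 : p * (n * p⁻¹ * n⁻¹) * ε = 1 := by
        calc p * (n * p⁻¹ * n⁻¹) * ε = p * n * p⁻¹ * (n⁻¹ * ε) := by simp [mul_assoc]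
          _ = p * n * p⁻¹ * (ε * n⁻¹) := by rw [hεn.inv_left.eq]
          _ = (p * n * p⁻¹ * ε) * n⁻¹ := by rw [← mul_assoc]
          _ = 1 := by rw [← hd, mul_inv_cancel]
      rw [mul_assoc] at e8
      rw [eq_inv_of_mul_eq_one_left e8]
      refine L₂.inv_mem (L₂.mul_mem (up _ (L₁.inv_mem hp)) ?_)
      rcases hε with rfl | rfl
      · exact L₂.one_mem
      · exact hj2
    have hpp : p * a * p⁻¹ = a := by rw [← hc a ha p hp2, mul_inv_cancel_right]
    rw [hpp] at hpa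
    exact hjne (left_eq_mul.mp hpa)
  have hfin : (X x).ncard < (X j).ncard :=
    calc (X x).ncard ≤ ((fun d => d * a) '' Y).ncard := Set.ncard_le_ncard hsub (Set.toFinite _)
      _ ≤ Y.ncard := Set.ncard_image_le (Set.toFinite _)
      _ < (X j).ncard := Set.ncard_lt_ncard ⟨hYX, fun h => hnY (h hnX)⟩ (Set.toFinite _)
  omega

/-- In the swap case `G = C(j)O(G)`, given the Z* theorem. -/
theorem ZStar.swap_centralizer_sup_oddCore (hZ : ZStar G) (hF₁ : Odd (Fintype.card F₁))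
    (hF₂ : Odd (Fintype.card F₂)) (e₁ : ↥L₁ ≃* SL(2, F₁)) (e₂ : ↥L₂ ≃* SL(2, F₂))
    (hc : ∀ x ∈ L₁, ∀ y ∈ L₂, x * y = y * x) (hj : orderOf j = 2) (hm : L₁ ⊓ L₂ = Subgroup.zpowers j)
    (hle : L₁ ⊔ L₂ ≤ Subgroup.centralizer ({j} : Set G))
    (hi : (L₁ ⊔ L₂).relIndex (Subgroup.centralizer ({j} : Set G)) = 2)
    (hn : n ∈ Subgroup.centralizer ({j} : Set G))
    (hn2 : n ^ 2 = j) (hswap : L₁.map (MulAut.conj n).toMonoidHom = L₂) :
    Subgroup.centralizer ({j} : Set G) ⊔ Cfsg.oddCore G = ⊤ := by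
  have hiso := swap_isolated hF₁ hF₂ e₁ e₂ hc hj hm hle hi hn hn2 hswap
  have hjj : j * j = 1 := mul_self_eq_one_of_orderOf_two hj
  have hpg : IsPGroup 2 ↥(Subgroup.zpowers j) :=
    IsPGroup.of_card (n := 1) (by rw [Nat.card_zpowers, hj, pow_one])
  obtain ⟨Q, hQ⟩ := hpg.exists_le_sylow
  have hjQ : j ∈ (Q : Subgroup G) := hQ (Subgroup.mem_zpowers j)
  refine hZ.centralizer_sup_oddCore hj hjQ fun g hg => hiso g ?_
  -- `Q ≤ C(j)` by the normalizer condition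
  have hQC : (Q : Subgroup G) ≤ Subgroup.centralizer ({j} : Set G) := by
    have : Group.IsNilpotent ↥(Q : Subgroup G) := Q.isPGroup'.isNilpotent
    rw [← Subgroup.subgroupOf_eq_top]
    by_contra hne
    have hlt : (Subgroup.centralizer ({j} : Set G)).subgroupOf Q < ⊤ := lt_top_iff_ne_top.mpr hne
    obtain ⟨y, hy, hy'⟩ := SetLike.exists_of_lt (normalizerCondition_of_isNilpotent _ hlt)
    apply hy'
    have hjmem : (⟨j, hjQ⟩ : ↥(Q : Subgroup G)) ∈ (Subgroup.centralizer ({j} : Set G)).subgroupOf Q :=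
      Subgroup.mem_subgroupOf.mpr (Subgroup.mem_centralizer_singleton_iff.mpr rfl)
    have h1 := hiso (y : G) (Subgroup.mem_subgroupOf.mp ((Subgroup.mem_normalizer_iff.mp hy _).mp hjmem))
    rw [mul_inv_eq_iff_eq_mul] at h1
    exact Subgroup.mem_subgroupOf.mpr (Subgroup.mem_centralizer_singleton_iff.mpr h1)
  exact hQC hg

end CfsgLib.InvChar
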