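import Cfsg.Agent.Lib.SylowU3.Aut
import Cfsg.Agent.Lib.SylowU3.Model

/-!
# Overgroups of index two of a Sylow 2-subgroup of `SU₃(2ⁿ)`
-/

set_option autoImplicit false

namespace CfsgLib.InvChar.SUThreeIndexTwo

open CfsgLib.SylowU3

/-- An involutory automorphism of a field of order `q²` is trivial or the conjugation. -/
theorem involutory_cases {F : Type*} [Field F] [Finite F] {s : F →+* F} {q : ℕ} (hF : UField F s q)
    (σ : F ≃+* F) (hσ : ∀ x, σ (σ x) = x) : (∀ x, σ x = x) ∨ (∀ x, σ x = s x) := by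
  classical
  haveI : CharP F 2 := by
    haveI := ringChar.charP F
    have h2 : (2 : F) = 0 := by rw [← one_add_one_eq_two]; exact hF.two 1
    have hd : ringChar F ∣ 2 := ringChar.dvd (by exact_mod_cast h2)
    rcases (Nat.dvd_prime Nat.prime_two).1 hd with h | h
    · exact absurd h CharP.ringChar_ne_one
    · exact h ▸ ringChar.charP F
  haveI : Fact (Nat.Prime 2) := ⟨Nat.prime_two⟩
  letI : Algebra (ZMod 2) F := ZMod.algebra F 2
  let se : F ≃+* F := RingEquiv.ofRingHom s s (RingHom.ext hF.invol) (RingHom.ext hF.invol)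
  let A : F ≃ₐ[ZMod 2] F := AlgEquiv.ofRingEquiv (f := σ) (fun r => by
    rw [← RingEquiv.coe_toRingHom, ← RingHom.comp_apply,
      Subsingleton.elim ((σ : F →+* F).comp (algebraMap (ZMod 2) F)) (algebraMap (ZMod 2) F)])
  let B : F ≃ₐ[ZMod 2] F := AlgEquiv.ofRingEquiv (f := se) (fun r => by
    rw [← RingEquiv.coe_toRingHom, ← RingHom.comp_apply,
      Subsingleton.elim ((se : F →+* F).comp (algebraMap (ZMod 2) F)) (algebraMap (ZMod 2) F)])
  have hB1 : B ≠ 1 := fun h => by
    obtain ⟨a, ha⟩ := hF.trace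
    have h1 : s a = a := AlgEquiv.congr_fun h a
    rw [h1, hF.two] at ha
    exact zero_ne_one ha
  have hA2 : A ^ 2 = 1 := AlgEquiv.ext fun x => by rw [pow_two]; exact hσ x
  have hB2 : B ^ 2 = 1 := AlgEquiv.ext fun x => by rw [pow_two]; exact hF.invol x
  haveI := Fintype.ofFinite F
  haveI : IsCyclic (F ≃ₐ[ZMod 2] F) := inferInstance
  haveI := Fintype.ofFinite (F ≃ₐ[ZMod 2] F)
  have hle := IsCyclic.card_pow_eq_one_le (α := F ≃ₐ[ZMod 2] F) (n := 2) two_pos
  by_contra! hne
  obtain ⟨⟨x, hx⟩, ⟨y, hy⟩⟩ := hne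
  have hsub : ({1, A, B} : Finset (F ≃ₐ[ZMod 2] F)) ⊆ Finset.univ.filter fun g => g ^ 2 = 1 := by
    intro g hg
    simp only [Finset.mem_insert, Finset.mem_singleton] at hg
    rcases hg with rfl | rfl | rfl <;> simp [hA2, hB2]
  have hc := (Finset.card_le_card hsub).trans hle
  rw [Finset.card_insert_of_notMem (by
      simp only [Finset.mem_insert, Finset.mem_singleton, not_or]
      exact ⟨fun h => hx (AlgEquiv.congr_fun h x).symm, hB1.symm⟩),
    Finset.card_pair (fun h => hy (AlgEquiv.congr_fun h y))] at hc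
  omega

/-- An automorphism of a unitary Sylow group with inner square fixes the centre pointwise. -/
theorem fix_center {T : Type*} [Group T] {F : Type*} [Field F] [Finite F] {s : F →+* F} {q : ℕ}
    (h : UCoords T s) (hF : UField F s q) (φ : MulAut T) (u : T) (hφ : φ * φ = MulAut.conj u)
    {w : T} (hw : w ∈ Subgroup.center T) : φ w = w := by
  obtain ⟨a, σ, hg⟩ := h.exists_semilinear hF φ
  have h2 : ∀ z : F, (a : F) * σ ((a : F) * σ z) = z := fun z => by
    obtain ⟨x, rfl⟩ := h.exists_fst hF z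
    have h3 : (φ * φ) x = u * x * u⁻¹ := by rw [hφ, MulAut.conj_apply]
    have h4 : (h.c ((φ * φ) x)).1 = (h.c x).1 := by
      rw [h3, h.mul, h.mul]
      simp only []
      have h5 := congrArg Prod.fst (h.mul u u⁻¹)
      rw [mul_inv_cancel, h.c_one hF] at h5
      simp only [] at h5
      linear_combination -h5
    rw [← hg, ← hg, h.actHom_fst hF, h.actHom_fst hF]
    exact h4
  have ha : (a : F) * σ (a : F) = 1 := by simpa using h2 1
  have hσ2 : ∀ z, σ (σ z) = z := fun z => by
    have h3 := h2 z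
    rwa [map_mul, ← mul_assoc, ha, one_mul] at h3
  have hnorm : ∀ z : F, ((a : F) * σ z) * s ((a : F) * σ z) = z * s z := by
    intro z
    rcases involutory_cases hF σ hσ2 with hσ | hσ
    · rw [hσ] at ha ⊢
      have h0 : ((a : F) + 1) * ((a : F) + 1) = 0 := by
        linear_combination ha + (1 : F) * hF.two (a : F) + hF.two 1
      have h1 : (a : F) = 1 := by
        have := mul_self_eq_zero.1 h0
        linear_combination this - hF.two 1
      rw [h1, one_mul]
    · rw [hσ] at ha ⊢
      rw [map_mul, hF.invol]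
      linear_combination (s z * z) * ha
  have hsq : ∀ x : T, φ (x * x) = x * x := fun x => by
    apply h.inj
    rw [map_mul, h.sq_coords hF, h.sq_coords hF, ← h.actHom_fst hF, hg, hnorm]
  have hw1 := (h.mem_center_iff hF w).1 hw
  have hcond := h.cond w
  rw [hw1, zero_mul] at hcond
  have hfix : s (h.c w).2 = (h.c w).2 := by
    calc s (h.c w).2 = (h.c w).2 + (h.c w).2 + s (h.c w).2 := by rw [hF.two, zero_add]
      _ = (h.c w).2 := by rw [add_assoc, hcond, add_zero]
  by_cases h0 : (h.c w).2 = 0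
  · rw [(h.eq_one_iff hF w).2 ⟨hw1, h0⟩, map_one]
  have hne : Nat.card {z : F // z * s z = (h.c w).2} ≠ 0 := by
    rw [hF.card_norm _ hfix h0]; omega
  obtain ⟨⟨z, hz⟩⟩ := (Nat.card_ne_zero.1 hne).1
  obtain ⟨x, rfl⟩ := h.exists_fst hF z
  have hwx : w = x * x := h.inj (by rw [h.sq_coords hF, hz, ← hw1])
  rw [hwx, hsq]

theorem center_le {R : Type*} [Group R] {S' : Subgroup R} (hidx : S'.index = 2)
    {F : Type*} [Field F] [Finite F] {s : F →+* F} {q : ℕ} (h : UCoords ↥S' s) (hF : UField F s q) :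
    (Subgroup.center ↥S').map S'.subtype ≤ Subgroup.center R := by
  haveI : S'.Normal := Subgroup.normal_of_index_eq_two hidx
  rintro _ ⟨w, hw, rfl⟩
  rw [Subgroup.mem_center_iff]
  intro g
  have h2 : g * g ∈ S' := Subgroup.mul_self_mem_of_index_two hidx g
  have he : (MulAut.conjNormal g : MulAut ↥S') * MulAut.conjNormal g = MulAut.conj ⟨g * g, h2⟩ := by
    refine MulEquiv.ext fun x => Subtype.ext ?_
    simp [MulAut.conjNormal_apply, mul_assoc]
  have := congrArg Subtype.val (fix_center h hF _ _ he hw)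
  rw [MulAut.conjNormal_apply] at this
  exact mul_inv_eq_iff_eq_mul.1 this

end CfsgLib.InvChar.SUThreeIndexTwo
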