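import Mathlib.GroupTheory.Sylow
import Mathlib.GroupTheory.SpecificGroups.Cyclic

/-!
# Sylow subgroups and their intersections under surjective homomorphisms
-/

set_option autoImplicit false

namespace CfsgLib.InvChar

variable {G Q : Type*} [Group G] [Group Q] {p : ℕ} [hp : Fact p.Prime]

/-- The image of a Sylow subgroup under a surjection onto a `p`-group is everything. -/
theorem sylow_map_eq_top_of_isPGroup [Finite G] {f : G →* Q} (hf : Function.Surjective f)
    (hQ : IsPGroup p Q) (P : Sylow p G) : (P : Subgroup G).map f = ⊤ := by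
  haveI := Finite.of_surjective f hf
  obtain ⟨R, hR⟩ : ∃ R : Sylow p Q, (R : Subgroup Q) = (P : Subgroup G).map f :=
    ⟨P.mapSurjective hf, rfl⟩
  rw [← hR]
  exact (R.is_maximal' (hQ.to_subgroup ⊤) le_top).symm

/-- A `p`-subgroup of a finite group, inside the preimage of a `p`-subgroup, and mapping onto it. -/
theorem exists_isPGroup_map_eq [Finite G] {f : G →* Q} (hf : Function.Surjective f)
    {B : Subgroup Q} (hB : IsPGroup p B) :
    ∃ P : Subgroup G, IsPGroup p P ∧ P.map f = B := by
  obtain ⟨P⟩ : Nonempty (Sylow p (B.comap f)) := inferInstance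
  refine ⟨(P : Subgroup (B.comap f)).map (B.comap f).subtype, P.isPGroup'.map _, ?_⟩
  have hs : Function.Surjective (f.subgroupComap B) := f.subgroupComap_surjective_of_surjective B hf
  have htop := sylow_map_eq_top_of_isPGroup hs hB P
  have hcomp : f.comp (B.comap f).subtype = B.subtype.comp (f.subgroupComap B) := by
    ext x; rfl
  rw [Subgroup.map_map, hcomp, ← Subgroup.map_map, htop, ← MonoidHom.range_eq_map, B.range_subtype]

/-- A `p`-subgroup with image inside a Sylow subgroup lies in a Sylow subgroup lifting it. -/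
theorem exists_sylow_map_eq_of_le [Finite G] {f : G →* Q} (hf : Function.Surjective f)
    (S : Sylow p Q) {P : Subgroup G} (hP : IsPGroup p P) (hPS : P.map f ≤ (S : Subgroup Q)) :
    ∃ S₀ : Sylow p G, P ≤ (S₀ : Subgroup G) ∧ (S₀ : Subgroup G).map f = (S : Subgroup Q) := by
  haveI := Finite.of_surjective f hf
  set A : Subgroup G := (S : Subgroup Q).comap f with hA
  have hPA : P ≤ A := Subgroup.map_le_iff_le_comap.1 hPS
  obtain ⟨R, hR⟩ := (hP.comap_of_injective A.subtype A.subtype_injective).exists_le_sylow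
  obtain ⟨S₀, hS₀⟩ := (R.isPGroup'.map A.subtype).exists_le_sylow
  have hs : Function.Surjective (f.subgroupComap (S : Subgroup Q)) :=
    f.subgroupComap_surjective_of_surjective _ hf
  have htop := sylow_map_eq_top_of_isPGroup hs S.isPGroup' R
  refine ⟨S₀, ?_, ?_⟩
  · intro x hx
    exact hS₀ ⟨⟨x, hPA hx⟩, hR hx, rfl⟩
  · refine S.is_maximal' (S₀.isPGroup'.map f) ?_
    have hcomp : f.comp A.subtype = (S : Subgroup Q).subtype.comp (f.subgroupComap (S : Subgroup Q)) := by
      ext x; rfl
    calc (S : Subgroup Q) = ((R : Subgroup A).map A.subtype).map f := by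
          rw [Subgroup.map_map, hcomp, ← Subgroup.map_map, htop, ← MonoidHom.range_eq_map,
            Subgroup.range_subtype]
      _ ≤ (S₀ : Subgroup G).map f := Subgroup.map_mono hS₀

/-- The intersection of two distinct Sylow subgroups of a quotient is the image of a `p`-subgroup
lying in two distinct Sylow subgroups. -/
theorem exists_sylow_pair_of_quotient [Finite G] {f : G →* Q} (hf : Function.Surjective f)
    {S T : Sylow p Q} (hST : S ≠ T) :
    ∃ (S₀ T₀ : Sylow p G) (P : Subgroup G), S₀ ≠ T₀ ∧ P ≤ (S₀ : Subgroup G) ⊓ (T₀ : Subgroup G) ∧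
      P.map f = (S : Subgroup Q) ⊓ (T : Subgroup Q) := by
  have hI : IsPGroup p ((S : Subgroup Q) ⊓ (T : Subgroup Q) : Subgroup Q) :=
    S.isPGroup'.to_le inf_le_left
  obtain ⟨P, hP, hPmap⟩ := exists_isPGroup_map_eq hf hI
  obtain ⟨S₀, hPS, hS⟩ := exists_sylow_map_eq_of_le hf S hP (hPmap.le.trans inf_le_left)
  obtain ⟨T₀, hPT, hT⟩ := exists_sylow_map_eq_of_le hf T hP (hPmap.le.trans inf_le_right)
  refine ⟨S₀, T₀, P, ?_, le_inf hPS hPT, hPmap⟩
  intro h
  subst h
  exact hST (Sylow.ext (hS.symm.trans hT))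

/-- Cyclicity of all intersections of two Sylow subgroups passes to quotients. -/
theorem cyclic_inter_of_surjective [Finite G] {f : G →* Q} (hf : Function.Surjective f)
    (hC : ∀ S T : Sylow p G, S ≠ T → IsCyclic ↥((S : Subgroup G) ⊓ (T : Subgroup G)))
    (S T : Sylow p Q) (hST : S ≠ T) : IsCyclic ↥((S : Subgroup Q) ⊓ (T : Subgroup Q)) := by
  obtain ⟨S₀, T₀, P, hne, hle, hmap⟩ := exists_sylow_pair_of_quotient hf hST
  haveI := hC S₀ T₀ hne
  haveI : IsCyclic P := Subgroup.isCyclic_of_le hle
  rw [← hmap]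
  exact isCyclic_of_surjective (f.subgroupMap P) (f.subgroupMap_surjective P)

end CfsgLib.InvChar
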