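import Cfsg.Agent.Lib.InvChar.Basic
import Cfsg.Agent.Lib.PGroup.Basic
import Mathlib.GroupTheory.Nilpotent
import Mathlib.GroupTheory.Frattini
import Mathlib.GroupTheory.SpecificGroups.Dihedral

/-!
2-groups `T` with `|Z₄(T)| = 16`: the centralizer `W` of `Z₃(T)`, and the regular embedding of
`W / Z₃(T)` into the `ZMod 2`-valued functions on `T / W`.
-/

set_option autoImplicit false
set_option linter.unusedSectionVars false

open scoped commutatorElement

namespace CfsgLib.InvChar.UpperFour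

section Generic

/-- In a group of exponent two an element `z ≠ 1` is avoided by a subgroup of index two. -/
theorem exists_avoiding {V : Type*} [Group V] [Finite V] (hexp : ∀ x : V, x * x = 1) {z : V} (hz : z ≠ 1) :
    ∃ L : Subgroup V, z ∉ L ∧ ∀ x, x ∈ L ∨ z * x ∈ L := by
  obtain ⟨L, -, hL, hmax⟩ := (Set.toFinite {L : Subgroup V | z ∉ L}).exists_le_maximal
    (a := (⊥ : Subgroup V)) (show z ∉ (⊥ : Subgroup V) by simpa using hz)
  refine ⟨L, hL, fun x => or_iff_not_imp_left.mpr fun hx => ?_⟩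
  have hinv : ∀ y : V, y⁻¹ = y := fun y => inv_eq_of_mul_eq_one_right (hexp y)
  have hcomm : ∀ a b : V, a * b = b * a := fun a b => by
    have := hinv (a * b)
    rw [mul_inv_rev, hinv, hinv] at this
    exact this.symm
  let L' : Subgroup V :=
    { carrier := {y | y ∈ L ∨ y * x ∈ L}
      one_mem' := Or.inl L.one_mem
      mul_mem' := by
        rintro a b (ha | ha) (hb | hb)
        · exact Or.inl (L.mul_mem ha hb)
        · exact Or.inr (by rw [mul_assoc]; exact L.mul_mem ha hb)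
        · exact Or.inr (by rw [mul_assoc, hcomm b x, ← mul_assoc]; exact L.mul_mem ha hb)
        · refine Or.inl ?_
          have h := L.mul_mem ha hb
          rwa [mul_assoc, ← mul_assoc x b x, hcomm x b, mul_assoc b x x, hexp, mul_one] at h
      inv_mem' := fun {a} ha => by
        change a ∈ L ∨ a * x ∈ L at ha
        show a⁻¹ ∈ L ∨ a⁻¹ * x ∈ L
        rwa [hinv] }
  have hxL : x ∈ L' := Or.inr (by rw [hexp]; exact L.one_mem)
  have hzL : z ∈ L' := by
    by_contra h
    exact hx (hmax (show L' ∈ {L : Subgroup V | z ∉ L} from h) (fun y hy => Or.inl hy) hxL)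
  exact hzL.resolve_left hL

variable {T : Type*} [Group T] [Finite T]

/-- A normal subgroup either lies in `Z i` or meets it in at least `2 ^ i` elements. -/
theorem le_upper_or {p : ℕ} [Fact p.Prime] (hT : IsPGroup p T) (N : Subgroup T) [N.Normal] (i : ℕ) :
    N ≤ Subgroup.upperCentralSeries T i ∨ p ^ i ≤ Nat.card ↥(N ⊓ Subgroup.upperCentralSeries T i) := by
  induction i with
  | zero => exact Or.inr (by rw [pow_zero]; exact Nat.card_pos)
  | succ i ih =>
    rcases ih with h | h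
    · exact Or.inl (h.trans (Subgroup.upperCentralSeries_mono T (Nat.le_succ i)))
    by_cases hN : N ≤ Subgroup.upperCentralSeries T i
    · exact Or.inl (hN.trans (Subgroup.upperCentralSeries_mono T (Nat.le_succ i)))
    right
    set Z := Subgroup.upperCentralSeries T i with hZ
    obtain ⟨w, hw, hw1, hwc⟩ := CfsgLib.InvChar.exists_ne_one_mem_center_of_normal
      (hT.to_quotient Z) (N.map (QuotientGroup.mk' Z)) (fun h => hN (by
        rwa [Subgroup.map_eq_bot_iff, QuotientGroup.ker_mk'] at h))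
    obtain ⟨x, hx, rfl⟩ := Subgroup.mem_map.mp hw
    have hxZ : x ∉ Z := fun h => hw1 ((QuotientGroup.eq_one_iff x).mpr h)
    have hx1 : x ∈ Subgroup.upperCentralSeries T (i + 1) := by
      rw [Subgroup.mem_upperCentralSeries_succ_iff]
      intro y
      rw [← hZ, ← QuotientGroup.eq_one_iff]
      show QuotientGroup.mk' Z ⁅x, y⁆ = 1
      rw [map_commutatorElement, commutatorElement_eq_one_iff_mul_comm]
      exact (Subgroup.mem_center_iff.mp hwc _).symm
    have hle : N ⊓ Z ≤ N ⊓ Subgroup.upperCentralSeries T (i + 1) :=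
      inf_le_inf_left _ (Subgroup.upperCentralSeries_mono T (Nat.le_succ i))
    obtain ⟨k, hk⟩ := (hT.to_subgroup (N ⊓ Subgroup.upperCentralSeries T (i + 1))).exists_card_eq
    obtain ⟨l, hlk, hl⟩ := (Nat.dvd_prime_pow Fact.out).mp (hk ▸ Subgroup.card_dvd_of_le hle)
    have hne : l ≠ k := fun h => by
      have heq := Subgroup.eq_of_le_of_card_ge hle (by rw [hk, hl, h])
      exact hxZ ((heq.symm ▸ Subgroup.mem_inf.mpr ⟨hx, hx1⟩ : x ∈ N ⊓ Z).2)
    rw [hk]
    rw [hl] at h
    calc p ^ (i + 1) = p ^ i * p := pow_succ p i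
      _ ≤ p ^ l * p := Nat.mul_le_mul_right _ h
      _ = p ^ (l + 1) := (pow_succ p l).symm
      _ ≤ p ^ k := Nat.pow_le_pow_right (Fact.out : p.Prime).pos (by omega)

theorem le_upper_of_card_le {p : ℕ} [Fact p.Prime] (hT : IsPGroup p T) (N : Subgroup T) [N.Normal] {i : ℕ}
    (hN : Nat.card ↥N ≤ p ^ i) : N ≤ Subgroup.upperCentralSeries T i := by
  rcases le_upper_or hT N i with h | h
  · exact h
  · exact inf_eq_left.mp (Subgroup.eq_of_le_of_card_ge inf_le_left (hN.trans h))

variable {W M : Subgroup T} [hW : W.Normal] [M.Normal]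

/-- `W/M` elementary abelian with one nontrivial fixed point `z`: it embeds in the regular module. -/
theorem exists_regular (hT : IsPGroup 2 T) (hsq : ∀ x ∈ W, x * x ∈ M) {z : T} (hzW : z ∈ W) (hzM : z ∉ M)
    (hzfix : ∀ t : T, ⁅z, t⁆ ∈ M) (hfix : ∀ x ∈ W, (∀ t : T, ⁅x, t⁆ ∈ M) → x ∈ M ∨ z⁻¹ * x ∈ M) :
    ∃ ψ : ↥W →* Multiplicative (T ⧸ W → ZMod 2), ψ.ker = M.subgroupOf W ∧
      (∀ q, Multiplicative.toAdd (ψ ⟨z, hzW⟩) q = 1) ∧
      ∀ (t : T) (x : ↥W) (q : T ⧸ W), Multiplicative.toAdd (ψ ⟨t * x * t⁻¹, hW.conj_mem x x.2 t⟩) q =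
        Multiplicative.toAdd (ψ x) (q * (t : T ⧸ W)) := by
  classical
  have hexp : ∀ v : ↥W ⧸ M.subgroupOf W, v * v = 1 := fun v => by
    induction v using QuotientGroup.induction_on with
    | _ x => exact (QuotientGroup.eq_one_iff (x * x)).mpr (Subgroup.mem_subgroupOf.mpr (hsq x x.2))
  have hzne : ((⟨z, hzW⟩ : ↥W) : ↥W ⧸ M.subgroupOf W) ≠ 1 := fun h =>
    hzM (Subgroup.mem_subgroupOf.mp ((QuotientGroup.eq_one_iff _).mp h))
  obtain ⟨L, hzL, hL⟩ := exists_avoiding hexp hzne
  let lam : ↥W →* Multiplicative (ZMod 2) :=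
    { toFun := fun x => if ((x : ↥W) : ↥W ⧸ M.subgroupOf W) ∈ L then 1 else Multiplicative.ofAdd 1
      map_one' := by simp [L.one_mem]
      map_mul' := fun x y => by
        have hi : L.index = 2 := Subgroup.index_eq_two_iff.mpr ⟨((⟨z, hzW⟩ : ↥W) : ↥W ⧸ M.subgroupOf W), fun b => by
          have hinv : ∀ v : ↥W ⧸ M.subgroupOf W, v⁻¹ = v := fun v => inv_eq_of_mul_eq_one_right (hexp v)
          have hc : b * ((⟨z, hzW⟩ : ↥W) : ↥W ⧸ M.subgroupOf W) = ((⟨z, hzW⟩ : ↥W) : ↥W ⧸ M.subgroupOf W) * b := by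
            have h := hinv (b * ((⟨z, hzW⟩ : ↥W) : ↥W ⧸ M.subgroupOf W))
            rw [mul_inv_rev, hinv, hinv] at h
            exact h.symm
          rcases hL b with h | h
          · refine Or.inr ⟨h, fun h' => hzL ?_⟩
            have := L.mul_mem (L.inv_mem h) h'
            rwa [inv_mul_cancel_left] at this
          · refine Or.inl ⟨hc ▸ h, fun h' => hzL ?_⟩
            have := L.mul_mem h (L.inv_mem h')
            rwa [mul_inv_cancel_right] at this⟩
        have h := Subgroup.mul_mem_iff_of_index_two hi (a := ((x : ↥W) : ↥W ⧸ M.subgroupOf W))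
          (b := ((y : ↥W) : ↥W ⧸ M.subgroupOf W))
        by_cases hx : ((x : ↥W) : ↥W ⧸ M.subgroupOf W) ∈ L <;>
          by_cases hy : ((y : ↥W) : ↥W ⧸ M.subgroupOf W) ∈ L <;>
          simp [hx, hy, h] <;> decide }
  have hlamM : ∀ x : ↥W, (x : T) ∈ M → lam x = 1 := fun x hx => by
    show ite _ _ _ = _
    rw [if_pos]
    rw [(QuotientGroup.eq_one_iff x).mpr (Subgroup.mem_subgroupOf.mpr hx)]
    exact L.one_mem
  have hlamz : lam ⟨z, hzW⟩ = Multiplicative.ofAdd 1 := if_neg hzL
  have hlamconj : ∀ (t : T) (a : T) (ha : a ∈ W) (x : ↥W),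
      lam ⟨t * a * x * (t * a)⁻¹, hW.conj_mem x x.2 _⟩ = lam ⟨t * x * t⁻¹, hW.conj_mem x x.2 _⟩ := by
    intro t a ha x
    have : (⟨t * a * x * (t * a)⁻¹, hW.conj_mem x x.2 _⟩ : ↥W) =
        ⟨t * a * t⁻¹, hW.conj_mem a ha t⟩ * ⟨t * x * t⁻¹, hW.conj_mem x x.2 _⟩ *
          (⟨t * a * t⁻¹, hW.conj_mem a ha t⟩)⁻¹ := Subtype.ext (by simp [mul_assoc])
    rw [this, map_mul, map_mul, map_inv, mul_right_comm, mul_inv_cancel, one_mul]
  let ψ : ↥W →* Multiplicative (T ⧸ W → ZMod 2) :=
    { toFun := fun x => Multiplicative.ofAdd fun q =>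
        Multiplicative.toAdd (lam ⟨q.out * x * q.out⁻¹, hW.conj_mem x x.2 _⟩)
      map_one' := by
        apply Multiplicative.toAdd.injective
        funext q
        show Multiplicative.toAdd (lam _) = 0
        rw [hlamM _ (by simp [M.one_mem])]; rfl
      map_mul' := fun x y => by
        apply Multiplicative.toAdd.injective
        funext q
        show Multiplicative.toAdd (lam _) = Multiplicative.toAdd (lam _) + Multiplicative.toAdd (lam _)
        rw [← toAdd_mul, ← map_mul]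
        congr 2
        exact Subtype.ext (by simp [mul_assoc]) }
  have hψ : ∀ (t : T) (x : ↥W), Multiplicative.toAdd (ψ x) (t : T ⧸ W) =
      Multiplicative.toAdd (lam ⟨t * x * t⁻¹, hW.conj_mem x x.2 _⟩) := by
    intro t x
    obtain ⟨a, ha⟩ := QuotientGroup.mk_out_eq_mul W t
    show Multiplicative.toAdd (lam _) = _
    refine congrArg Multiplicative.toAdd (Eq.trans ?_ (hlamconj t a a.2 x))
    congr 1
    exact Subtype.ext (by rw [ha])
  have heq : ∀ (t : T) (x : ↥W) (q : T ⧸ W), Multiplicative.toAdd (ψ ⟨t * x * t⁻¹, hW.conj_mem x x.2 t⟩) q =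
      Multiplicative.toAdd (ψ x) (q * (t : T ⧸ W)) := by
    intro t x q
    induction q using QuotientGroup.induction_on with
    | _ s =>
      rw [← QuotientGroup.mk_mul, hψ, hψ]
      congr 2
      exact Subtype.ext (by simp [mul_assoc])
  refine ⟨ψ, ?_, ?_, heq⟩
  · refine le_antisymm ?_ ?_
    · -- the kernel is a normal subgroup without nontrivial fixed point
      set K := (ψ.ker).map W.subtype with hK
      have hKn : K.Normal := ⟨by
        rintro _ ⟨x, hx, rfl⟩ t
        refine ⟨⟨t * x * t⁻¹, hW.conj_mem x x.2 t⟩, ?_, rfl⟩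
        rw [SetLike.mem_coe, MonoidHom.mem_ker] at hx ⊢
        apply Multiplicative.toAdd.injective
        funext q
        rw [heq, hx]; rfl⟩
      intro x hx
      by_contra hxM
      obtain ⟨w, hw, hw1, hwc⟩ := CfsgLib.InvChar.exists_ne_one_mem_center_of_normal
        (hT.to_quotient M) (K.map (QuotientGroup.mk' M)) (fun h => hxM (by
          rw [Subgroup.map_eq_bot_iff, QuotientGroup.ker_mk'] at h
          exact Subgroup.mem_subgroupOf.mpr (h (Subgroup.mem_map_of_mem W.subtype hx))))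
      obtain ⟨y, hy, rfl⟩ := Subgroup.mem_map.mp hw
      obtain ⟨y', hy', rfl⟩ := Subgroup.mem_map.mp hy
      have hyM : (y' : T) ∉ M := fun h => hw1 ((QuotientGroup.eq_one_iff _).mpr h)
      have hyfix : ∀ t : T, ⁅(y' : T), t⁆ ∈ M := fun t => by
        rw [← QuotientGroup.eq_one_iff]
        show QuotientGroup.mk' M ⁅(y' : T), t⁆ = 1
        rw [map_commutatorElement, commutatorElement_eq_one_iff_mul_comm]
        exact (Subgroup.mem_center_iff.mp hwc _).symm
      have hzy := (hfix y' y'.2 hyfix).resolve_left hyM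
      have h1 : lam y' = 1 := by
        have h := hψ 1 y'
        rw [show ψ y' = 1 from hy'] at h
        have e : (⟨1 * (y' : T) * 1⁻¹, hW.conj_mem y' y'.2 _⟩ : ↥W) = y' := Subtype.ext (by simp)
        rw [e] at h
        exact Multiplicative.toAdd.injective h.symm
      have h2 := hlamM (⟨z, hzW⟩⁻¹ * y') hzy
      rw [map_mul, map_inv, hlamz, h1, mul_one, inv_eq_one] at h2
      exact absurd h2 (by decide)
    · intro x hx
      rw [MonoidHom.mem_ker]
      apply Multiplicative.toAdd.injective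
      funext q
      show Multiplicative.toAdd (lam _) = 0
      rw [hlamM _ (‹M.Normal›.conj_mem _ (Subgroup.mem_subgroupOf.mp hx) _)]
      rfl
  · intro q
    show Multiplicative.toAdd (lam ⟨q.out * z * q.out⁻¹, hW.conj_mem z hzW _⟩) = 1
    have e : (⟨q.out * z * q.out⁻¹, hW.conj_mem z hzW _⟩ : ↥W) =
        ⟨z, hzW⟩ * (⟨z⁻¹ * (q.out * z * q.out⁻¹), W.mul_mem (W.inv_mem hzW) (hW.conj_mem z hzW _)⟩ : ↥W) :=
      Subtype.ext (by simp)
    rw [e, map_mul, hlamz, hlamM ⟨_, _⟩ ?_, mul_one]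
    · rfl
    · have h := hzfix (q.out)
      rw [commutatorElement_def] at h
      have h' : q.out * z * q.out⁻¹ * z⁻¹ ∈ M := by
        have := M.inv_mem h
        simpa [mul_assoc] using this
      have := ‹M.Normal›.conj_mem _ h' z⁻¹
      simpa [mul_assoc] using this

/-- `|W| ≤ |M| 2 ^ [T : W]`. -/
theorem card_le_of_fixed (hT : IsPGroup 2 T) (hMW : M ≤ W) (hsq : ∀ x ∈ W, x * x ∈ M)
    (hfix : ∀ x ∈ W, ∀ y ∈ W, (∀ t : T, ⁅x, t⁆ ∈ M) → (∀ t : T, ⁅y, t⁆ ∈ M) → x ∉ M → y ∉ M → x⁻¹ * y ∈ M) :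
    Nat.card ↥W ≤ Nat.card ↥M * 2 ^ W.index := by
  by_cases hWM : W ≤ M
  · rw [le_antisymm hWM hMW]
    exact Nat.le_mul_of_pos_right _ (by positivity)
  obtain ⟨w, hw, hw1, hwc⟩ := CfsgLib.InvChar.exists_ne_one_mem_center_of_normal
    (hT.to_quotient M) (W.map (QuotientGroup.mk' M)) (fun h => hWM (by
      rwa [Subgroup.map_eq_bot_iff, QuotientGroup.ker_mk'] at h))
  obtain ⟨z, hz, rfl⟩ := Subgroup.mem_map.mp hw
  have hzM : z ∉ M := fun h => hw1 ((QuotientGroup.eq_one_iff _).mpr h)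
  have hzfix : ∀ t : T, ⁅z, t⁆ ∈ M := fun t => by
    rw [← QuotientGroup.eq_one_iff]
    show QuotientGroup.mk' M ⁅z, t⁆ = 1
    rw [map_commutatorElement, commutatorElement_eq_one_iff_mul_comm]
    exact (Subgroup.mem_center_iff.mp hwc _).symm
  obtain ⟨ψ, hker, -, -⟩ := exists_regular hT hsq hz hzM hzfix
    (fun x hx hxf => or_iff_not_imp_left.mpr fun hxM => hfix z hz x hx hzfix hxf hzM hxM)
  have h1 := Subgroup.card_mul_index ψ.ker
  rw [Subgroup.index_ker, hker, Nat.card_congr (Subgroup.subgroupOfEquivOfLe hMW).toEquiv] at h1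
  rw [← h1]
  refine Nat.mul_le_mul_left _ (le_trans (Subgroup.card_le_card_group _) ?_)
  rw [Nat.card_congr Multiplicative.toAdd, Nat.card_fun, Nat.card_zmod, Subgroup.index_eq_card]

end Generic

end CfsgLib.InvChar.UpperFour
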