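import Cfsg.Agent.Lib.InvChar.UpperFourDihedral
import Mathlib.Algebra.BigOperators.Fin

/-!
The centre of `W` is `Z₃(T)`: otherwise the regular module `W/Z₃` carries an invariant form with a
totally singular subspace of codimension three.
-/

set_option autoImplicit false
set_option linter.unusedSectionVars false

open scoped commutatorElement

namespace CfsgLib.InvChar.UpperFour

/-- Five pairs of group elements spanning the totally singular subspace. -/
def pairs : Fin 5 → DihedralGroup 4 × DihedralGroup 4 :=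
  ![(.r 0, .r 2), (.r 1, .r 3), (.r 0, .sr 1), (.r 1, .sr 2), (.r 0, .sr 3)]

/-- Indicator of a pair. -/
def pairInd (i : Fin 5) (d : DihedralGroup 4) : ZMod 2 :=
  if d = (pairs i).1 ∨ d = (pairs i).2 then 1 else 0

theorem pairInd_indep : ∀ v : Fin 5 → ZMod 2, (∀ d, ∑ i, v i * pairInd i d = 0) → v = 0 := by
  decide +kernel

theorem pairInd_eq : ∀ (i : Fin 5) (d : DihedralGroup 4),
    (if d = (pairs i).1 then (1 : ZMod 2) else 0) + (if d = (pairs i).2 then 1 else 0) = pairInd i d := by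
  decide +kernel

/-- The shape of the invariant form. -/
def formF (a h : ZMod 2) (d : DihedralGroup 4) : ZMod 2 :=
  if d = .r 1 ∨ d = .r 3 then h else if d = .sr 0 ∨ d = .sr 2 then a else 0

theorem formF_sq : ∀ a h : ZMod 2, ∀ i : Fin 5, formF a h ((pairs i).2 * (pairs i).1⁻¹) = 0 := by
  decide +kernel

theorem formF_bil : ∀ a h : ZMod 2, ∀ i j : Fin 5,
    formF a h ((pairs j).1 * (pairs i).1⁻¹) + formF a h ((pairs j).2 * (pairs i).1⁻¹) +
      (formF a h ((pairs j).1 * (pairs i).2⁻¹) + formF a h ((pairs j).2 * (pairs i).2⁻¹)) = 0 := by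
  decide +kernel

theorem formF_vals : ∀ a h : ZMod 2,
    formF a h (.r 0) = 0 ∧ formF a h (.r 1) = h ∧ formF a h (.r 2) = 0 ∧ formF a h (.r 3) = h ∧
      formF a h (.sr 0) = a ∧ formF a h (.sr 1) = 0 ∧ formF a h (.sr 2) = a ∧ formF a h (.sr 3) = 0 := by
  decide +kernel

theorem form_eq (f : DihedralGroup 4 → ZMod 2) (h1 : f 1 = 0) (hr : f (.r 3) = f (.r 1))
    (h2 : f (.r 2) = 0) (hs1 : f (.sr 1) = 0) (hs3 : f (.sr 3) = 0)
    (hsum : ∑ d, f d = 0) : ∀ d, f d = formF (f (.sr 0)) (f (.r 1)) d := by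
  have hu : (Finset.univ : Finset (DihedralGroup 4)) =
      {.r 0, .r 1, .r 2, .r 3, .sr 0, .sr 1, .sr 2, .sr 3} := by decide +kernel
  rw [hu] at hsum
  simp only [Finset.sum_insert, Finset.mem_insert, Finset.mem_singleton, DihedralGroup.r.injEq,
    DihedralGroup.sr.injEq, reduceCtorEq, or_self, or_false, not_or, Finset.sum_singleton,
    show (0 : ZMod 4) ≠ 1 by decide, show (0 : ZMod 4) ≠ 2 by decide, show (0 : ZMod 4) ≠ 3 by decide,
    show (1 : ZMod 4) ≠ 2 by decide, show (1 : ZMod 4) ≠ 3 by decide, show (2 : ZMod 4) ≠ 3 by decide,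
    not_false_eq_true] at hsum
  have h0 : f (.r 0) = 0 := h1
  rw [h0, hr, h2, hs1, hs3] at hsum
  have h22 : f (.r 1) + f (.r 1) = 0 := CharTwo.add_self_eq_zero _
  have e2 : f (.sr 2) = f (.sr 0) := by
    have h00 : f (.sr 0) + f (.sr 0) = 0 := CharTwo.add_self_eq_zero _
    linear_combination hsum - h00 - h22
  intro d
  have hall : ∀ d : DihedralGroup 4, d = .r 0 ∨ d = .r 1 ∨ d = .r 2 ∨ d = .r 3 ∨ d = .sr 0 ∨ d = .sr 1 ∨
      d = .sr 2 ∨ d = .sr 3 := by decide +kernel
  obtain ⟨v0, v1, v2, v3, w0, w1, w2, w3⟩ := formF_vals (f (.sr 0)) (f (.r 1))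
  rcases hall d with rfl | rfl | rfl | rfl | rfl | rfl | rfl | rfl
  · rw [h0, v0]
  · rw [v1]
  · rw [h2, v2]
  · rw [hr, v3]
  · rw [w0]
  · rw [hs1, w1]
  · rw [e2, w2]
  · rw [hs3, w3]

variable {T : Type*} [Group T] [Finite T] {W : Subgroup T}

local notation "Z" => Subgroup.upperCentralSeries T

theorem Hyp.center_eq (h : Hyp T W) : (Subgroup.center ↥W).map W.subtype = Z 3 := by
  classical
  haveI := Fact.mk Nat.prime_two
  haveI := h.normal
  obtain ⟨h8, hZW, h11, h14⟩ := h.main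
  set C := (Subgroup.center ↥W).map W.subtype with hC
  haveI : C.Normal := CfsgLib.Solvable.normal_map_subtype_of_characteristic W _
  have hZC : Z 3 ≤ C := fun z hz =>
    ⟨⟨z, hZW hz⟩, Subgroup.mem_center_iff.mpr fun x => Subtype.ext (h.comm_Z3 x.2 hz).symm, rfl⟩
  refine le_antisymm ?_ hZC
  by_contra hne
  -- then `Z₄` is central in `W`
  have hZ4C : Z 4 ≤ C := by
    obtain ⟨k, hk⟩ := (h.isP.to_subgroup C).exists_card_eq
    have hc8 : 8 < Nat.card ↥C := by
      by_contra hle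
      exact hne (Subgroup.eq_of_le_of_card_ge hZC (by rw [h.card_Z (by omega)]; omega)).ge
    have hc16 : 2 ^ 4 ≤ Nat.card ↥C := by
      rw [hk] at hc8 ⊢
      refine Nat.pow_le_pow_right two_pos ?_
      by_contra hk4
      have : 2 ^ k ≤ 2 ^ 3 := Nat.pow_le_pow_right two_pos (by omega)
      omega
    rcases le_upper_or h.isP C 4 with hle | hle
    · exact (Subgroup.eq_of_le_of_card_ge hle (by rw [h.four]; omega)).ge
    · exact inf_eq_right.mp (Subgroup.eq_of_le_of_card_ge inf_le_right (by rw [h.four]; omega))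
  obtain ⟨e, he4, he3⟩ : ∃ e ∈ Z 4, e ∉ Z 3 := by
    refine SetLike.not_le_iff_exists.mp fun hle => ?_
    have := Nat.le_of_dvd Nat.card_pos (Subgroup.card_dvd_of_le hle)
    rw [h.card_Z (by omega), h.card_Z (by omega)] at this
    omega
  have heW : e ∈ W := Subgroup.map_subtype_le _ (hZ4C he4)
  have hecen : ∀ x ∈ W, ⁅x, e⁆ = 1 := fun x hx => by
    obtain ⟨e', he', hee⟩ := hZ4C he4
    rw [commutatorElement_eq_one_iff_mul_comm, ← hee]
    exact congrArg Subtype.val (Subgroup.mem_center_iff.mp he' ⟨x, hx⟩)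
  have hsqW : ∀ x ∈ W, x * x ∈ Z 3 := fun x hx => by
    have := h.sq_mem_phi hx
    rwa [h.phi_eq] at this
  have hcomW : ∀ x ∈ W, ∀ y ∈ W, ⁅x, y⁆ ∈ Z 3 := fun x hx y hy => by
    have := h.comm_mem_phi hx hy
    rwa [h.phi_eq] at this
  obtain ⟨ψ, hker, hψe, hψc⟩ := exists_regular (M := Z 3) h.isP hsqW heW he3
    (fun t => Subgroup.mem_upperCentralSeries_succ_iff.mp he4 t) (by
      intro x hx hxf
      by_cases hx3 : x ∈ Z 3
      · exact Or.inl hx3
      · exact Or.inr (h.Z_step (i := 3) le_rfl he4 (Subgroup.mem_upperCentralSeries_succ_iff.mpr hxf) he3 hx3))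
  obtain ⟨θ, hθker, hθs, hθfix⟩ := h.exists_dihedral
  let e0 : T ⧸ W ≃* DihedralGroup 4 :=
    (QuotientGroup.quotientMulEquivOfEq hθker.symm).trans (QuotientGroup.quotientKerEquivOfSurjective θ hθs)
  have he0 : ∀ t : T, e0 (t : T ⧸ W) = θ t := fun t => rfl
  -- coordinates on `W/Z₃`
  let Ψ : ↥W → DihedralGroup 4 → ZMod 2 := fun x d => Multiplicative.toAdd (ψ x) (e0.symm d)
  have hΨmul : ∀ x y, Ψ (x * y) = Ψ x + Ψ y := fun x y => by
    funext d; simp [Ψ]
  have hΨeq : ∀ x y : ↥W, Ψ x = Ψ y → (x : T)⁻¹ * y ∈ Z 3 := by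
    intro x y hxy
    have hm : x⁻¹ * y ∈ ψ.ker := by
      rw [MonoidHom.mem_ker, map_mul, map_inv, inv_mul_eq_one]
      apply Multiplicative.toAdd.injective
      funext q
      have := congrFun hxy (e0 q)
      simpa [Ψ] using this
    rw [hker] at hm
    exact Subgroup.mem_subgroupOf.mp hm
  have hΨconj : ∀ (t : T) (x : ↥W) (d : DihedralGroup 4),
      Ψ ⟨t * x * t⁻¹, Subgroup.Normal.conj_mem inferInstance _ x.2 t⟩ d = Ψ x (d * θ t) := by
    intro t x d
    show Multiplicative.toAdd (ψ _) _ = Multiplicative.toAdd (ψ x) _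
    rw [hψc, map_mul]
    congr 1
    rw [← he0, MulEquiv.symm_apply_apply]
  have hψsurj : Function.Surjective ψ := by
    rw [← MonoidHom.range_eq_top]
    refine Subgroup.eq_top_of_card_eq _ ?_
    have h1 := Subgroup.card_mul_index ψ.ker
    rw [Subgroup.index_ker, hker, Nat.card_congr (Subgroup.subgroupOfEquivOfLe hZW).toEquiv,
      h.card_Z (by omega), h11] at h1
    rw [Nat.card_congr Multiplicative.toAdd, Nat.card_fun, Nat.card_zmod, ← Subgroup.index_eq_card, h8]
    omega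
  obtain ⟨w0, hw0⟩ := hψsurj (Multiplicative.ofAdd fun q => if e0 q = 1 then 1 else 0)
  have hΨw0 : ∀ d, Ψ w0 d = if d = 1 then 1 else 0 := fun d => by simp [Ψ, hw0]
  choose τ hτ using fun d : DihedralGroup 4 => hθs d⁻¹
  let w : DihedralGroup 4 → ↥W := fun d =>
    ⟨τ d * w0 * (τ d)⁻¹, Subgroup.Normal.conj_mem inferInstance _ w0.2 _⟩
  have hΨw : ∀ d d', Ψ (w d) d' = if d' = d then 1 else 0 := fun d d' => by
    rw [hΨconj, hΨw0, hτ]
    simp [mul_inv_eq_one]
  -- the bilinear form and its quadratic form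
  let lam : T → ZMod 2 := fun z => if z ∈ Z 2 then 0 else 1
  have hlam1 : lam 1 = 0 := if_pos (Z 2).one_mem
  have hlam : ∀ x ∈ Z 3, ∀ y ∈ Z 3, lam (x * y) = lam x + lam y := by
    intro x hx y hy
    have hidx : ((Z 2).subgroupOf (Z 3)).index = 2 := h.relIndex_Z (i := 2) (by omega)
    have hm := Subgroup.mul_mem_iff_of_index_two hidx (a := (⟨x, hx⟩ : ↥(Z 3))) (b := ⟨y, hy⟩)
    simp only [Subgroup.mem_subgroupOf, Subgroup.coe_mul] at hm
    by_cases ha : x ∈ Z 2 <;> by_cases hb : y ∈ Z 2 <;> simp [lam, ha, hb, hm] <;> decide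
  let B : ↥W → ↥W → ZMod 2 := fun x y => lam ⁅(x : T), (y : T)⁆
  let q : ↥W → ZMod 2 := fun x => lam ((x : T) * x)
  have hcomm_inv : ∀ x y : ↥W, ⁅(y : T), (x : T)⁆ = ⁅(x : T), (y : T)⁆ := fun x y => by
    rw [← commutatorElement_inv]
    exact inv_eq_of_mul_eq_one_right (h.Z3_sq (hcomW _ x.2 _ y.2))
  have hBsymm : ∀ x y, B y x = B x y := fun x y => by show lam _ = lam _; rw [hcomm_inv]
  have hBr : ∀ x y z, B x (y * z) = B x y + B x z := by
    intro x y z
    show lam ⁅(x : T), (y : T) * z⁆ = _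
    have e : ⁅(x : T), (y : T) * z⁆ = ⁅(x : T), (y : T)⁆ * ⁅(x : T), (z : T)⁆ := by
      have hc := h.comm_Z3 y.2 (hcomW _ x.2 _ z.2)
      calc ⁅(x : T), (y : T) * z⁆ = ⁅(x : T), (y : T)⁆ * ((y : T) * ⁅(x : T), (z : T)⁆ * (y : T)⁻¹) := by
            simp [commutatorElement_def, mul_assoc]
        _ = _ := by rw [← hc, mul_inv_cancel_right]
    rw [e, hlam _ (hcomW _ x.2 _ y.2) _ (hcomW _ x.2 _ z.2)]
  have hBl : ∀ x y z, B (x * y) z = B x z + B y z := fun x y z => by
    rw [← hBsymm, hBr, hBsymm x z, hBsymm y z]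
  have hB1 : ∀ x, B x 1 = 0 := fun x => by show lam _ = 0; simp [hlam1]
  have hBself : ∀ x, B x x = 0 := fun x => by show lam _ = 0; simp [hlam1]
  have hBZ : ∀ x (z : ↥W), (z : T) ∈ Z 3 → B x z = 0 := fun x z hz => by
    show lam _ = 0
    rw [show ⁅(x : T), (z : T)⁆ = 1 by
      rw [commutatorElement_eq_one_iff_mul_comm]; exact (h.comm_Z3 x.2 hz).symm, hlam1]
  have hBinv : ∀ x y, B x y⁻¹ = B x y := fun x y => by
    have h1 := hBr x y y⁻¹
    rw [mul_inv_cancel, hB1] at h1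
    have h2 : B x y + B x y = 0 := CharTwo.add_self_eq_zero _
    linear_combination -h1 - h2
  have hBcongr : ∀ x y y', Ψ y = Ψ y' → B x y' = B x y := fun x y y' hy => by
    have h1 := hBr x y (y⁻¹ * y')
    rw [mul_inv_cancel_left, hBZ x (y⁻¹ * y') (hΨeq y y' hy), add_zero] at h1
    exact h1
  have hq : ∀ x y, q (x * y) = q x + q y + B x y := by
    intro x y
    show lam ((x * y : ↥W) * (x * y : ↥W) : T) = _
    have e : ((x : T) * y) * ((x : T) * y) = ((x : T) * x) * ((y : T) * y) * ⁅(x : T), (y : T)⁆ := by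
      have hc := hcomm_inv x y
      have hcx := h.comm_Z3 x.2 (hcomW _ y.2 _ x.2)
      have hcy := h.comm_Z3 y.2 (hcomW _ x.2 _ y.2)
      calc ((x : T) * y) * ((x : T) * y) = (x : T) * (⁅(y : T), (x : T)⁆ * x) * y * y := by
            simp [commutatorElement_def, mul_assoc]
        _ = (x : T) * x * (⁅(x : T), (y : T)⁆ * y) * y := by rw [hcx, hc]; simp [mul_assoc]
        _ = (x : T) * x * ((y : T) * ⁅(x : T), (y : T)⁆) * y := by rw [hcy]
        _ = (x : T) * x * y * (⁅(x : T), (y : T)⁆ * y) := by simp [mul_assoc]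
        _ = (x : T) * x * y * ((y : T) * ⁅(x : T), (y : T)⁆) := by rw [hcy]
        _ = _ := by simp [mul_assoc]
    simp only [Subgroup.coe_mul]
    rw [e, hlam _ ((Z 3).mul_mem (hsqW _ x.2) (hsqW _ y.2)) _ (hcomW _ x.2 _ y.2),
      hlam _ (hsqW _ x.2) _ (hsqW _ y.2)]
  have hlamconj : ∀ (t : T) (z : T), lam (t * z * t⁻¹) = lam z := fun t z => by
    have hN : (Z 2).Normal := inferInstance
    have hiff : t * z * t⁻¹ ∈ Z 2 ↔ z ∈ Z 2 :=
      ⟨fun hz => by simpa [mul_assoc] using hN.conj_mem _ hz t⁻¹, fun hz => hN.conj_mem _ hz t⟩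
    by_cases hz : z ∈ Z 2 <;> simp [lam, hiff, hz]
  have hmove : ∀ (t : T) (d : DihedralGroup 4),
      Ψ ⟨t * w d * t⁻¹, Subgroup.Normal.conj_mem inferInstance _ (w d).2 t⟩ = Ψ (w (d * (θ t)⁻¹)) := by
    intro t d
    funext d'
    rw [hΨconj, hΨw, hΨw]
    simp only [eq_mul_inv_iff_mul_eq]
  have hBw : ∀ a b c, B (w (a * c)) (w (b * c)) = B (w a) (w b) := by
    intro a b c
    obtain ⟨t, ht⟩ := hθs c⁻¹
    set x' : ↥W := ⟨t * w a * t⁻¹, Subgroup.Normal.conj_mem inferInstance _ (w a).2 t⟩ with hx'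
    set y' : ↥W := ⟨t * w b * t⁻¹, Subgroup.Normal.conj_mem inferInstance _ (w b).2 t⟩ with hy'
    have e1 : B x' y' = B (w a) (w b) := by
      show lam ⁅t * (w a : T) * t⁻¹, t * (w b : T) * t⁻¹⁆ = lam _
      rw [show ⁅t * (w a : T) * t⁻¹, t * (w b : T) * t⁻¹⁆ = t * ⁅(w a : T), (w b : T)⁆ * t⁻¹ by
        simp [commutatorElement_def, mul_assoc], hlamconj]
    have hm1 := hmove t a
    have hm2 := hmove t b
    rw [ht, inv_inv] at hm1 hm2
    rw [← e1, hBcongr _ _ _ hm2.symm, ← hBsymm x', ← hBsymm _ (w (b * c)), hBcongr _ _ _ hm1.symm]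
  let f : DihedralGroup 4 → ZMod 2 := fun d => B (w 1) (w d)
  have hBf : ∀ a b, B (w a) (w b) = f (b * a⁻¹) := fun a b => by
    show _ = B (w 1) (w (b * a⁻¹))
    rw [← hBw 1 (b * a⁻¹) a, one_mul, inv_mul_cancel_right]
  have hf1 : f 1 = 0 := hBself _
  have hr : f (.r 3) = f (.r 1) := by
    show B (w 1) (w (.r 3)) = B (w 1) (w (.r 1))
    rw [← hBsymm, hBf]
    show f _ = f _
    congr 1
  have hspec : ∀ g : DihedralGroup 4, g⁻¹ = g → (g = .r 2 ∨ g = .sr 1 ∨ g = .sr 3) → f g = 0 := by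
    intro g hginv hg
    by_contra hne
    obtain ⟨t, ht⟩ := hθs g
    set z := ⁅(w 1 : T), (w g : T)⁆ with hz
    have hz3 : z ∈ Z 3 := hcomW _ (w 1).2 _ (w g).2
    have hz2 : z ∉ Z 2 := fun h0 => hne (if_pos h0)
    have hm1 := hmove t 1
    have hm2 := hmove t g
    rw [ht, hginv, one_mul] at hm1
    rw [ht, mul_inv_cancel] at hm2
    have hfixz : t * z * t⁻¹ = z := by
      have k : ∀ (x x' y y' : ↥W), Ψ x = Ψ x' → Ψ y = Ψ y' → ⁅(x' : T), (y' : T)⁆ = ⁅(x : T), (y : T)⁆ := by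
        intro x x' y y' hx hy
        have hr' : ∀ (u v v' : ↥W), Ψ v = Ψ v' → ⁅(u : T), (v' : T)⁆ = ⁅(u : T), (v : T)⁆ := by
          intro u v v' hv
          have hm := hΨeq v v' hv
          set m := (v : T)⁻¹ * v' with hm'
          have hv' : (v' : T) = v * m := by simp [hm']
          rw [hv', commutatorElement_def, commutatorElement_def]
          have hc2 : m * (u : T)⁻¹ = (u : T)⁻¹ * m := h.comm_Z3 (W.inv_mem u.2) hm
          calc (u : T) * (v * m) * (u : T)⁻¹ * ((v : T) * m)⁻¹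
              = (u : T) * v * (m * (u : T)⁻¹) * (m⁻¹ * (v : T)⁻¹) := by simp [mul_assoc]
            _ = (u : T) * v * (u : T)⁻¹ * (v : T)⁻¹ := by rw [hc2]; simp [mul_assoc]
        rw [hr' x' y y' hy, ← hcomm_inv, hr' y x x' hx, hcomm_inv]
      have e1 := k _ _ _ _ hm1.symm hm2.symm
      calc t * z * t⁻¹ = ⁅t * (w 1 : T) * t⁻¹, t * (w g : T) * t⁻¹⁆ := by
            simp [hz, commutatorElement_def, mul_assoc]
        _ = ⁅(w g : T), (w 1 : T)⁆ := e1
        _ = z := hcomm_inv _ _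
    obtain ⟨n1, n2, n3⟩ := hθfix t z hz3 hz2 hfixz
    rw [ht] at n1 n2 n3
    rcases hg with rfl | rfl | rfl
    · exact n1 rfl
    · exact n2 rfl
    · exact n3 rfl
  have hsum : ∑ d, f d = 0 := by
    let l := (Finset.univ : Finset (DihedralGroup 4)).toList
    have hlist : ∀ l : List (DihedralGroup 4), ∀ x, B x (l.map w).prod = (l.map fun d => B x (w d)).sum := by
      intro l x
      induction l with
      | nil => exact hB1 x
      | cons a l ih => rw [List.map_cons, List.prod_cons, List.map_cons, List.sum_cons, hBr, ih]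
    have hΨlist : ∀ l : List (DihedralGroup 4), ∀ d, Ψ (l.map w).prod d = (l.map fun a => Ψ (w a) d).sum := by
      intro l d
      induction l with
      | nil => simp [Ψ]
      | cons a l ih => rw [List.map_cons, List.prod_cons, List.map_cons, List.sum_cons, hΨmul, Pi.add_apply, ih]
    have hB0 : B (w 1) ⟨e, heW⟩ = 0 := by show lam _ = 0; rw [hecen _ (w 1).2, hlam1]
    have hΨe : Ψ (l.map w).prod = Ψ ⟨e, heW⟩ := by
      funext d
      rw [hΨlist, Finset.sum_map_toList]
      show _ = Multiplicative.toAdd (ψ ⟨e, heW⟩) _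
      rw [hψe]
      simp [hΨw]
    rw [← hB0, hBcongr _ _ _ hΨe, hlist, Finset.sum_map_toList]
  obtain ⟨fa, fh, hform⟩ : ∃ a b, ∀ d, f d = formF a b d := ⟨_, _, form_eq f hf1 hr (hspec _ (by decide) (Or.inl rfl)) (hspec _ (by decide) (Or.inr (Or.inl rfl)))
    (hspec _ (by decide) (Or.inr (Or.inr rfl))) hsum⟩
  -- the totally singular subgroup
  let u : Fin 5 → ↥W := fun i => w (pairs i).1 * w (pairs i).2
  have hqw : ∀ a b, q (w a) = q (w b) := by
    have key : ∀ d, q (w d) = q w0 := fun d => by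
      show lam ((τ d * (w0 : T) * (τ d)⁻¹) * (τ d * w0 * (τ d)⁻¹)) = lam _
      rw [conj_mul, hlamconj]
    exact fun a b => (key a).trans (key b).symm
  have hqu : ∀ i, q (u i) = 0 := fun i => by
    show q (w _ * w _) = 0
    rw [hq, hqw (pairs i).2 (pairs i).1, CharTwo.add_self_eq_zero, zero_add, hBf, hform, formF_sq]
  have hBu : ∀ i j, B (u i) (u j) = 0 := fun i j => by
    show B (w _ * w _) (w _ * w _) = 0
    rw [hBl, hBr, hBr, hBf, hBf, hBf, hBf]
    simp only [hform]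
    exact formF_bil fa fh i j
  let S : Set ↥W := {z | (z : T) ∈ Z 3} ∪ Set.range u
  let D := Subgroup.closure S
  have hBD : ∀ x ∈ D, ∀ i, B (u i) x = 0 := by
    intro x hx i
    induction hx using Subgroup.closure_induction with
    | mem x hx =>
      rcases hx with hx | ⟨j, rfl⟩
      · exact hBZ _ _ hx
      · exact hBu i j
    | one => exact hB1 _
    | mul x y _ _ h1 h2 => rw [hBr, h1, h2, add_zero]
    | inv x _ h1 => rw [hBinv, h1]
  have hBDD : ∀ x ∈ D, ∀ y ∈ D, B y x = 0 := by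
    intro x hx y hy
    induction hy using Subgroup.closure_induction with
    | mem y hy =>
      rcases hy with hy | ⟨j, rfl⟩
      · rw [← hBsymm]; exact hBZ _ _ hy
      · exact hBD x hx j
    | one => rw [← hBsymm, hB1]
    | mul a b _ _ h1 h2 => rw [hBl, h1, h2, add_zero]
    | inv a _ h1 => rw [← hBsymm, hBinv, hBsymm, h1]
  have hqD : ∀ x ∈ D, q x = 0 := by
    intro x hx
    induction hx using Subgroup.closure_induction with
    | mem x hx =>
      rcases hx with hx | ⟨j, rfl⟩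
      · show lam _ = 0; rw [h.Z3_sq hx, hlam1]
      · exact hqu j
    | one => show lam _ = 0; simp [hlam1]
    | mul a b ha hb h1 h2 => rw [hq, h1, h2, hBDD b hb a ha, add_zero, add_zero]
    | inv a ha h1 =>
      have h2 := hq a a⁻¹
      rw [mul_inv_cancel, h1, hBinv, hBself, zero_add, add_zero] at h2
      rw [← h2]
      show lam _ = 0
      simp [hlam1]
  have hcardD : 2 ^ 8 ≤ Nat.card ↥D := by
    have hu : ∀ i, u i ∈ D := fun i => Subgroup.subset_closure (Or.inr ⟨i, rfl⟩)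
    have hΨu : ∀ i d, Ψ (u i) d = pairInd i d := fun i d => by
      rw [hΨmul, Pi.add_apply, hΨw, hΨw]; exact pairInd_eq i d
    let g : (Fin 5 → ZMod 2) → ↥(D.map ψ) := fun v =>
      ⟨∏ i, ψ (u i) ^ (v i).val, (D.map ψ).prod_mem fun i _ =>
        (D.map ψ).pow_mem (Subgroup.mem_map_of_mem ψ (hu i)) _⟩
    have hg : Function.Injective g := by
      intro v v' hv
      have hneg : ∀ x : ZMod 2, -x = x := by decide
      refine sub_eq_zero.mp (pairInd_indep (v - v') fun d => ?_)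
      have := congrArg (fun m : ↥(D.map ψ) => Multiplicative.toAdd (m : Multiplicative (T ⧸ W → ZMod 2)) (e0.symm d)) hv
      simp only [g, toAdd_prod, toAdd_pow, Finset.sum_apply, Pi.smul_apply] at this
      simp only [nsmul_eq_mul, ZMod.natCast_val, ZMod.cast_id', id] at this
      change ∑ i, v i * Ψ (u i) d = ∑ i, v' i * Ψ (u i) d at this
      simp only [hΨu] at this
      simp only [Pi.sub_apply, sub_mul, Finset.sum_sub_distrib, this, sub_self]
    have h32 : 32 ≤ Nat.card ↥(D.map ψ) := by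
      have := Nat.card_le_card_of_injective g hg
      simpa [Nat.card_fun] using this
    have hK : ψ.ker ≤ D := by
      rw [hker]; exact fun x hx => Subgroup.subset_closure (Or.inl (Subgroup.mem_subgroupOf.mp hx))
    have h1 := Subgroup.relIndex_mul_relIndex ⊥ ψ.ker D bot_le hK
    rw [Subgroup.relIndex_bot_left, Subgroup.relIndex_bot_left, Subgroup.relIndex_ker, hker,
      Nat.card_congr (Subgroup.subgroupOfEquivOfLe hZW).toEquiv, h.card_Z (by omega)] at h1
    omega
  refine h.no_small (D.map W.subtype) (Z 2) (Subgroup.map_subtype_le _) ?_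
    (Subgroup.upperCentralSeries_mono T (by omega)) ?_ ?_ ?_
  · exact fun z hz => ⟨⟨z, hZW hz⟩, Subgroup.subset_closure (Or.inl hz), rfl⟩
  · intro hle
    have := Nat.le_of_dvd Nat.card_pos (Subgroup.card_dvd_of_le hle)
    rw [h.card_Z (by omega), h.card_Z (by omega)] at this
    omega
  · rintro _ ⟨x, hx, rfl⟩
    by_contra hx2
    have hq0 := hqD x hx
    simp only [q, lam, Subgroup.coe_subtype] at hq0 hx2
    rw [if_neg hx2] at hq0
    exact one_ne_zero hq0
  · rw [Subgroup.card_map_of_injective W.subtype_injective, h11]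
    omega

end CfsgLib.InvChar.UpperFour
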