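import Cfsg.Agent.Lib.InvChar.UpperFourStruct
import Mathlib.Tactic.LinearCombination

/-!
`T/W` is dihedral of order eight, acting on `Z₃(T)` as the full unitriangular group.
-/

set_option autoImplicit false
set_option linter.unusedSectionVars false

open scoped commutatorElement

namespace CfsgLib.InvChar.UpperFour

abbrev F2cube := ZMod 2 × ZMod 2 × ZMod 2

/-- Composition of the unitriangular parameters `(α, β, γ)`. -/
def comp3 (u v : F2cube) : F2cube := (u.1 + v.1, u.2.1 + v.2.1, u.2.2 + v.2.2 + u.1 * v.2.1)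

/-- The identification of the unitriangular group with `D₈`. -/
def toD4 (u : F2cube) : DihedralGroup 4 :=
  if u = (0, 0, 0) then .r 0 else if u = (1, 1, 0) then .r 1 else if u = (0, 0, 1) then .r 2
  else if u = (1, 1, 1) then .r 3 else if u = (1, 0, 0) then .sr 0 else if u = (0, 1, 1) then .sr 1
  else if u = (1, 0, 1) then .sr 2 else .sr 3

theorem toD4_comp : ∀ u v : F2cube, toD4 (comp3 u v) = toD4 u * toD4 v := by
  unfold F2cube; decide +kernel

theorem toD4_eq_one : ∀ u : F2cube, toD4 u = 1 ↔ u = (0, 0, 0) := by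
  unfold F2cube; decide +kernel

theorem toD4_special : ∀ u : F2cube, (toD4 u = .r 2 ∨ toD4 u = .sr 1 ∨ toD4 u = .sr 3) →
    ∀ i j : ZMod 2, (i + j * u.1 + u.2.2, j + u.2.1) ≠ (i, j) := by
  unfold F2cube; decide +kernel

theorem zmod2_cases : ∀ i : ZMod 2, i = 0 ∨ i = 1 := by decide

variable {T : Type*} [Group T] [Finite T] {W : Subgroup T}

local notation "Z" => Subgroup.upperCentralSeries T

theorem pow_zmod_add {x : T} (hx : x * x = 1) (a b : ZMod 2) : x ^ (a + b).val = x ^ a.val * x ^ b.val := by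
  rw [ZMod.val_add, ← pow_add]
  exact (pow_eq_pow_mod (a.val + b.val) (by rw [pow_two]; exact hx)).symm

theorem Hyp.exists_coords (h : Hyp T W) :
    ∃ κ : F2cube → T, (∀ u v, κ (u + v) = κ u * κ v) ∧ Function.Injective κ ∧ (∀ u, κ u ∈ Z 3) ∧
      (∀ z ∈ Z 3, ∃ u, κ u = z) ∧ (∀ u, κ u ∈ Z 2 ↔ u.2.2 = 0) ∧ (∀ u, κ u ∈ Z 1 ↔ u.2.2 = 0 ∧ u.2.1 = 0) := by
  classical
  obtain ⟨a, ha, ha'⟩ : ∃ a ∈ Z 2, a ∉ Z 1 := by
    refine SetLike.not_le_iff_exists.mp fun hle => ?_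
    have := Nat.le_of_dvd Nat.card_pos (Subgroup.card_dvd_of_le hle)
    rw [h.card_Z (by omega), h.card_Z (by omega)] at this
    omega
  obtain ⟨b, hb, hb'⟩ : ∃ b ∈ Z 3, b ∉ Z 2 := by
    refine SetLike.not_le_iff_exists.mp fun hle => ?_
    have := Nat.le_of_dvd Nat.card_pos (Subgroup.card_dvd_of_le hle)
    rw [h.card_Z (by omega), h.card_Z (by omega)] at this
    omega
  obtain ⟨c, hc, hc'⟩ : ∃ c ∈ Z 1, c ∉ Z 0 := by
    refine SetLike.not_le_iff_exists.mp fun hle => ?_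
    have := Nat.le_of_dvd Nat.card_pos (Subgroup.card_dvd_of_le hle)
    rw [h.card_Z (by omega), h.card_Z (by omega)] at this
    omega
  have m12 : Z 1 ≤ Z 2 := Subgroup.upperCentralSeries_mono T (by omega)
  have m23 : Z 2 ≤ Z 3 := Subgroup.upperCentralSeries_mono T (by omega)
  have hc3 : c ∈ Z 3 := m23 (m12 hc)
  have ha3 : a ∈ Z 3 := m23 ha
  let κ : F2cube → T := fun u => c ^ u.1.val * a ^ u.2.1.val * b ^ u.2.2.val
  have hcm : ∀ x ∈ Z 3, ∀ y ∈ Z 3, Commute x y := fun x hx y hy => h.comm_Z3 (h.Z3_le hy) hx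
  have hκ : ∀ u v, κ (u + v) = κ u * κ v := by
    intro u v
    show c ^ (u.1 + v.1).val * a ^ (u.2.1 + v.2.1).val * b ^ (u.2.2 + v.2.2).val = _
    rw [pow_zmod_add (h.Z3_sq hc3), pow_zmod_add (h.Z3_sq ha3), pow_zmod_add (h.Z3_sq hb),
      ((hcm c hc3 a ha3).pow_pow _ _).mul_mul_mul_comm,
      (((hcm c hc3 b hb).pow_pow _ _).mul_left ((hcm a ha3 b hb).pow_pow _ _)).mul_mul_mul_comm]
  have h01 : ∀ i : ZMod 2, i = 0 ∨ i = 1 := by decide
  have hv1 : ((1 : ZMod 2).val) = 1 := rfl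
  have hv0 : ((0 : ZMod 2).val) = 0 := rfl
  have mem3 : ∀ u, κ u ∈ Z 3 := fun u =>
    (Z 3).mul_mem ((Z 3).mul_mem ((Z 3).pow_mem hc3 _) ((Z 3).pow_mem ha3 _)) ((Z 3).pow_mem hb _)
  have iff2 : ∀ u, κ u ∈ Z 2 ↔ u.2.2 = 0 := by
    intro u
    have hm : c ^ u.1.val * a ^ u.2.1.val ∈ Z 2 := (Z 2).mul_mem ((Z 2).pow_mem (m12 hc) _) ((Z 2).pow_mem ha _)
    show c ^ u.1.val * a ^ u.2.1.val * b ^ u.2.2.val ∈ Z 2 ↔ _
    rw [Subgroup.mul_mem_cancel_left _ hm]
    rcases h01 u.2.2 with e | e <;> rw [e]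
    · simp
    · rw [hv1, pow_one]; exact iff_of_false hb' one_ne_zero
  have iff1 : ∀ u, κ u ∈ Z 1 ↔ u.2.2 = 0 ∧ u.2.1 = 0 := by
    intro u
    constructor
    · intro hu
      have e2 := (iff2 u).mp (m12 hu)
      refine ⟨e2, ?_⟩
      have hu' : c ^ u.1.val * a ^ u.2.1.val * b ^ u.2.2.val ∈ Z 1 := hu
      rw [e2, hv0, pow_zero, mul_one, Subgroup.mul_mem_cancel_left _ ((Z 1).pow_mem hc _)] at hu'
      rcases h01 u.2.1 with e | e
      · exact e
      · rw [e, hv1, pow_one] at hu'; exact absurd hu' ha'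
    · rintro ⟨e2, e1⟩
      show c ^ u.1.val * a ^ u.2.1.val * b ^ u.2.2.val ∈ Z 1
      rw [e2, e1, hv0, pow_zero, pow_zero, mul_one, mul_one]
      exact (Z 1).pow_mem hc _
  have hinj : Function.Injective κ := by
    have hneg : ∀ x : F2cube, x + x = 0 := by unfold F2cube; decide
    have h0 : κ 0 = 1 := by simp [κ]
    have hker : ∀ u, κ u = 1 → u = 0 := by
      intro u hu
      obtain ⟨e2, e1⟩ := (iff1 u).mp (hu ▸ (Z 1).one_mem)
      have hu' : c ^ u.1.val * a ^ u.2.1.val * b ^ u.2.2.val = 1 := hu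
      rw [e2, e1, hv0, pow_zero, pow_zero, mul_one, mul_one] at hu'
      rcases h01 u.1 with e | e
      · exact Prod.ext e (Prod.ext e1 e2)
      · rw [e, hv1, pow_one] at hu'
        exact absurd (hu' ▸ (Z 0).one_mem) hc'
    intro u v huv
    have : κ (u + v) = 1 := by rw [hκ, huv, ← hκ, hneg, h0]
    have h2 := hker _ this
    calc u = u + (v + v) := by rw [hneg, add_zero]
      _ = u + v + v := (add_assoc _ _ _).symm
      _ = v := by rw [h2, zero_add]
  refine ⟨κ, hκ, hinj, mem3, fun z hz => ?_, iff2, iff1⟩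
  haveI : Fintype T := Fintype.ofFinite T
  have hs : Function.Bijective (fun u => (⟨κ u, mem3 u⟩ : ↥(Z 3))) := by
    rw [Nat.bijective_iff_injective_and_card]
    refine ⟨fun u v huv => hinj (congrArg Subtype.val huv), ?_⟩
    rw [h.card_Z (by omega), Nat.card_prod, Nat.card_prod, Nat.card_zmod]
    norm_num
  obtain ⟨u, hu⟩ := hs.2 ⟨z, hz⟩
  exact ⟨u, congrArg Subtype.val hu⟩

/-- `T/W ≅ D₈`, with control of the elements fixing an element of `Z₃ ∖ Z₂`. -/
theorem Hyp.exists_dihedral (h : Hyp T W) :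
    ∃ θ : T →* DihedralGroup 4, θ.ker = W ∧ Function.Surjective θ ∧
      ∀ t : T, ∀ z ∈ Z 3, z ∉ Z 2 → t * z * t⁻¹ = z →
        θ t ≠ .r 2 ∧ θ t ≠ .sr 1 ∧ θ t ≠ .sr 3 := by
  classical
  obtain ⟨κ, hκ, hinj, mem3, hsurj, iff2, iff1⟩ := h.exists_coords
  have hn : ∀ (i : ℕ) (t z : T), z ∈ Z i → t * z * t⁻¹ ∈ Z i :=
    fun i t z hz => Subgroup.Normal.conj_mem inferInstance z hz t
  have hfix1 : ∀ (t : T) (i : ZMod 2), t * κ (i, 0, 0) * t⁻¹ = κ (i, 0, 0) := by
    intro t i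
    have h1 : κ (i, 0, 0) ∈ Z 1 := (iff1 _).mpr ⟨rfl, rfl⟩
    rw [Subgroup.upperCentralSeries_one] at h1
    rw [Subgroup.mem_center_iff.mp h1 t, mul_inv_cancel_right]
  have ex : ∀ t : T, ∃ u : F2cube, t * κ (0, 1, 0) * t⁻¹ = κ (u.1, 1, 0) ∧
      t * κ (0, 0, 1) * t⁻¹ = κ (u.2.2, u.2.1, 1) := by
    intro t
    obtain ⟨⟨x1, x2, x3⟩, hx⟩ := hsurj _ (hn 3 t _ (mem3 (0, 1, 0)))
    obtain ⟨⟨y1, y2, y3⟩, hy⟩ := hsurj _ (hn 3 t _ (mem3 (0, 0, 1)))
    have ex3 : x3 = 0 := (iff2 (x1, x2, x3)).mp (hx ▸ hn 2 t _ ((iff2 _).mpr rfl))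
    have back : ∀ (i : ℕ) (u : F2cube), t * κ u * t⁻¹ ∈ Z i → κ u ∈ Z i := fun i u hu => by
      simpa [mul_assoc] using hn i t⁻¹ _ hu
    have ex2 : x2 = 1 := by
      have hne : ¬ x2 = 0 := fun e => by
        have := (iff1 (x1, x2, x3)).mpr ⟨ex3, e⟩
        rw [hx] at this
        exact one_ne_zero ((iff1 _).mp (back 1 _ this)).2
      exact (zmod2_cases x2).resolve_left hne
    have ey3 : y3 = 1 := by
      have hne : ¬ y3 = 0 := fun e => by
        have := (iff2 (y1, y2, y3)).mpr e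
        rw [hy] at this
        exact one_ne_zero ((iff2 _).mp (back 2 _ this))
      exact (zmod2_cases y3).resolve_left hne
    subst ex3 ex2 ey3
    exact ⟨(x1, y2, y1), hx.symm, hy.symm⟩
  choose φ hφa hφb using ex
  have hact : ∀ t (i j k : ZMod 2), t * κ (i, j, k) * t⁻¹ =
      κ (i + j * (φ t).1 + k * (φ t).2.2, j + k * (φ t).2.1, k) := by
    intro t i j k
    have h01 : ∀ i : ZMod 2, i = 0 ∨ i = 1 := by decide
    have hk0 : κ 0 = 1 := by
      have := hκ 0 0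
      rwa [add_zero, left_eq_mul] at this
    have e1 : ((i, j, k) : F2cube) = (i, 0, 0) + ((0, j, 0) + (0, 0, k)) := by simp
    have hb1 : t * κ (0, j, 0) * t⁻¹ = κ (j * (φ t).1, j, 0) := by
      rcases h01 j with e | e <;> rw [e]
      · rw [zero_mul, show ((0, 0, 0) : F2cube) = 0 from rfl, hk0, mul_one, mul_inv_cancel]
      · rw [one_mul]; exact hφa t
    have hb2 : t * κ (0, 0, k) * t⁻¹ = κ (k * (φ t).2.2, k * (φ t).2.1, k) := by
      rcases h01 k with e | e <;> rw [e]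
      · rw [zero_mul, zero_mul, show ((0, 0, 0) : F2cube) = 0 from rfl, hk0, mul_one, mul_inv_cancel]
      · rw [one_mul, one_mul]; exact hφb t
    rw [e1, hκ, hκ, ← conj_mul, ← conj_mul, hfix1, hb1, hb2, ← hκ, ← hκ]
    congr 1
    simp [Prod.ext_iff, add_assoc]
  have hmul : ∀ t s, φ (t * s) = comp3 (φ t) (φ s) := by
    intro t s
    have conj2 : ∀ z, t * s * z * (t * s)⁻¹ = t * (s * z * s⁻¹) * t⁻¹ := fun z => by simp [mul_assoc]
    have ha := hφa (t * s)
    rw [conj2, hφa s, hact] at ha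
    have hb := hφb (t * s)
    rw [conj2, hφb s, hact] at hb
    have ha' := hinj ha
    have hb' := hinj hb
    simp only [Prod.mk.injEq, one_mul, zero_mul, add_zero, and_true] at ha' hb'
    refine Prod.ext ?_ (Prod.ext ?_ ?_)
    · show (φ (t * s)).1 = (φ t).1 + (φ s).1
      linear_combination -ha'
    · show (φ (t * s)).2.1 = (φ t).2.1 + (φ s).2.1
      linear_combination -hb'.2
    · show (φ (t * s)).2.2 = (φ t).2.2 + (φ s).2.2 + (φ t).1 * (φ s).2.1
      linear_combination -hb'.1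
  let θ : T →* DihedralGroup 4 := MonoidHom.mk' (fun t => toD4 (φ t))
    (fun t s => by rw [hmul, toD4_comp])
  have hker : θ.ker = W := by
    ext t
    rw [MonoidHom.mem_ker]
    show toD4 (φ t) = 1 ↔ _
    rw [toD4_eq_one]
    constructor
    · intro e
      refine (SetLike.ext_iff.mp h.eq t).mpr fun z hz => ?_
      obtain ⟨⟨i, j, k⟩, rfl⟩ := hsurj z hz
      have := hact t i j k
      rw [e] at this
      simp only [mul_zero, add_zero] at this
      exact (mul_inv_eq_iff_eq_mul.mp this).symm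
    · intro ht
      have fixd : ∀ u, t * κ u * t⁻¹ = κ u := fun u => by
        rw [← h.comm_Z3 ht (mem3 u), mul_inv_cancel_right]
      have ea := hinj ((hφa t).symm.trans (fixd _))
      have eb := hinj ((hφb t).symm.trans (fixd _))
      simp only [Prod.mk.injEq] at ea eb
      exact Prod.ext ea.1 (Prod.ext eb.2.1 eb.1)
  refine ⟨θ, hker, ?_, ?_⟩
  · rw [← MonoidHom.range_eq_top]
    refine Subgroup.eq_top_of_card_eq _ ?_
    rw [← Subgroup.index_ker, hker, h.main.1, DihedralGroup.nat_card]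
  · intro t z hz hz2 hfix
    obtain ⟨⟨i, j, k⟩, rfl⟩ := hsurj z hz
    have hk : k = 1 := by
      have hne : ¬ k = 0 := fun e => hz2 ((iff2 _).mpr e)
      exact (zmod2_cases k).resolve_left hne
    subst hk
    rw [hact, one_mul, one_mul] at hfix
    have e := hinj hfix
    simp only [Prod.mk.injEq, and_true] at e
    have key := toD4_special (φ t)
    show toD4 (φ t) ≠ _ ∧ toD4 (φ t) ≠ _ ∧ toD4 (φ t) ≠ _
    refine ⟨fun e1 => ?_, fun e1 => ?_, fun e1 => ?_⟩ <;>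
      exact key (by simp [e1]) i j (Prod.ext e.1 e.2)

end CfsgLib.InvChar.UpperFour
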