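import Cfsg.Agent.Lib.InvChar.UpperFour
import Cfsg.Agent.Lib.Solvable.Core

/-!
Structure of a 2-group `T` with `|T| ≥ 2^14`, `|Z₄(T)| = 16` and small Frattini subgroup of
`W = C(Z₃(T))` contained in every subgroup of `W` of index at most 16.
-/

set_option autoImplicit false
set_option linter.unusedSectionVars false

open scoped commutatorElement

namespace CfsgLib.InvChar.UpperFour

/-- The hypotheses on `T` and `W`. -/
structure Hyp (T : Type*) [Group T] (W : Subgroup T) : Prop where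
  isP : IsPGroup 2 T
  big : 2 ^ 14 ≤ Nat.card T
  four : Nat.card ↥(Subgroup.upperCentralSeries T 4) = 16
  eq : W = Subgroup.centralizer ((Subgroup.upperCentralSeries T 3 : Subgroup T) : Set T)
  small : Nat.card ↥(frattini ↥W) ≤ 8
  every : ∀ U : Subgroup ↥W, U.index ≤ 16 → frattini ↥W ≤ U

variable {T : Type*} [Group T] [Finite T] {W : Subgroup T}

local notation "Z" => Subgroup.upperCentralSeries T

theorem Hyp.upper_lt (h : Hyp T W) {i : ℕ} (hi : i ≤ 4) (hne : Z i ≠ ⊤) :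
    2 * Nat.card ↥(Z i) ≤ Nat.card ↥(Z (i + 1)) := by
  haveI := Fact.mk Nat.prime_two
  have hle : Z i ≤ Z (i + 1) := Subgroup.upperCentralSeries_mono T (Nat.le_succ i)
  obtain ⟨w, -, hw1, hwc⟩ := CfsgLib.InvChar.exists_ne_one_mem_center_of_normal
    (h.isP.to_quotient (Z i)) ⊤ (by
      intro h0
      refine hne (eq_top_iff.mpr fun t _ => ?_)
      have : (t : T ⧸ Z i) ∈ (⊤ : Subgroup (T ⧸ Z i)) := Subgroup.mem_top _
      rw [h0, Subgroup.mem_bot, QuotientGroup.eq_one_iff] at this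
      exact this)
  obtain ⟨x, rfl⟩ := QuotientGroup.mk'_surjective _ w
  have hx1 : x ∈ Z (i + 1) := by
    rw [Subgroup.mem_upperCentralSeries_succ_iff]
    intro y
    rw [← QuotientGroup.eq_one_iff]
    show QuotientGroup.mk' (Z i) ⁅x, y⁆ = 1
    rw [map_commutatorElement, commutatorElement_eq_one_iff_mul_comm]
    exact (Subgroup.mem_center_iff.mp hwc _).symm
  have h2 := Subgroup.relIndex_mul_relIndex ⊥ (Z i) (Z (i + 1)) bot_le hle
  rw [Subgroup.relIndex_bot_left, Subgroup.relIndex_bot_left] at h2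
  have h3 : 2 ≤ (Z i).relIndex (Z (i + 1)) := by
    have h0 : (Z i).relIndex (Z (i + 1)) ≠ 0 := Subgroup.index_ne_zero_of_finite
    have h1 : (Z i).relIndex (Z (i + 1)) ≠ 1 := fun h1 =>
      hw1 ((QuotientGroup.eq_one_iff x).mpr (Subgroup.relIndex_eq_one.mp h1 hx1))
    omega
  calc 2 * Nat.card ↥(Z i) ≤ (Z i).relIndex (Z (i + 1)) * Nat.card ↥(Z i) := Nat.mul_le_mul_right _ h3
    _ = _ := by rw [mul_comm, h2]

theorem Hyp.card_Z (h : Hyp T W) {i : ℕ} (hi : i ≤ 4) : Nat.card ↥(Z i) = 2 ^ i := by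
  have hne : ∀ j ≤ 4, Z j ≠ ⊤ := fun j hj htop => by
    have h4 : Z j ≤ Z 4 := Subgroup.upperCentralSeries_mono T hj
    rw [htop, top_le_iff] at h4
    have := h.four
    rw [h4, Subgroup.card_top] at this
    have := h.big
    omega
  have s0 := h.upper_lt (i := 0) (by omega) (hne 0 (by omega))
  have s1 := h.upper_lt (i := 1) (by omega) (hne 1 (by omega))
  have s2 := h.upper_lt (i := 2) (by omega) (hne 2 (by omega))
  have s3 := h.upper_lt (i := 3) (by omega) (hne 3 (by omega))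
  have h4 := h.four
  have h0 : Nat.card ↥(Z 0) = 1 := by
    rw [Subgroup.upperCentralSeries_zero, Subgroup.card_bot]
  simp only [Nat.zero_add, show 1 + 1 = 2 from rfl, show 2 + 1 = 3 from rfl, show 3 + 1 = 4 from rfl] at s0 s1 s2 s3
  interval_cases i <;> omega

theorem Hyp.relIndex_Z (h : Hyp T W) {i : ℕ} (hi : i ≤ 3) : (Z i).relIndex (Z (i + 1)) = 2 := by
  have h2 := Subgroup.relIndex_mul_relIndex ⊥ (Z i) (Z (i + 1)) bot_le
    (Subgroup.upperCentralSeries_mono T (Nat.le_succ i))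
  rw [Subgroup.relIndex_bot_left, Subgroup.relIndex_bot_left, h.card_Z (by omega), h.card_Z (by omega),
    pow_succ] at h2
  exact Nat.eq_of_mul_eq_mul_left (by positivity) h2

theorem Hyp.Z_step (h : Hyp T W) {i : ℕ} (hi : i ≤ 3) {x y : T} (hx : x ∈ Z (i + 1)) (hy : y ∈ Z (i + 1))
    (hx' : x ∉ Z i) (hy' : y ∉ Z i) : x⁻¹ * y ∈ Z i := by
  have hidx : ((Z i).subgroupOf (Z (i + 1))).index = 2 := h.relIndex_Z hi
  have hm := Subgroup.mul_mem_iff_of_index_two hidx
    (a := (⟨x, hx⟩ : ↥(Z (i + 1)))⁻¹) (b := ⟨y, hy⟩)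
  simp only [Subgroup.mem_subgroupOf, Subgroup.coe_mul, Subgroup.coe_inv] at hm
  exact hm.mpr (iff_of_false (fun h0 => hx' ((Z i).inv_mem_iff.mp h0)) hy')

theorem Hyp.Z_step_sq (h : Hyp T W) {i : ℕ} (hi : i ≤ 3) {x : T} (hx : x ∈ Z (i + 1)) : x * x ∈ Z i := by
  have hidx : ((Z i).subgroupOf (Z (i + 1))).index = 2 := h.relIndex_Z hi
  exact Subgroup.mem_subgroupOf.mp (Subgroup.mul_self_mem_of_index_two hidx (⟨x, hx⟩ : ↥(Z (i + 1))))

theorem Hyp.normal (h : Hyp T W) : W.Normal := by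
  rw [h.eq]; exact Subgroup.normal_centralizer

theorem Hyp.comm_Z3 (h : Hyp T W) {x z : T} (hx : x ∈ W) (hz : z ∈ Z 3) : z * x = x * z := by
  rw [h.eq] at hx
  exact hx z hz

theorem Hyp.index_le (h : Hyp T W) : W.index ≤ 8 := by
  classical
  haveI := h.normal
  obtain ⟨a, ha, ha'⟩ : ∃ a ∈ Z 2, a ∉ Z 1 := by
    refine SetLike.not_le_iff_exists.mp fun hle => ?_
    have := Nat.le_of_dvd Nat.card_pos (Subgroup.card_dvd_of_le hle)
    rw [h.card_Z (by omega), h.card_Z (by omega)] at this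
    omega
  obtain ⟨b, hb, hb'⟩ : ∃ b ∈ Z 3, b ∉ Z 2 := by
    refine SetLike.not_le_iff_exists.mp fun hle => ?_
    have := Nat.le_of_dvd Nat.card_pos (Subgroup.card_dvd_of_le hle)
    rw [h.card_Z (by omega), h.card_Z (by omega)] at this
    omega
  let f : T ⧸ W → ↥(Z 1) × ↥(Z 2) := fun q =>
    (⟨⁅q.out, a⁆, by
        rw [← commutatorElement_inv]; exact Subgroup.inv_mem _ (Subgroup.mem_upperCentralSeries_succ_iff.mp ha _)⟩,
      ⟨⁅q.out, b⁆, by
        rw [← commutatorElement_inv]; exact Subgroup.inv_mem _ (Subgroup.mem_upperCentralSeries_succ_iff.mp hb _)⟩)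
  have hf : Function.Injective f := by
    intro p q hpq
    have e1 : ⁅p.out, a⁆ = ⁅q.out, a⁆ := congrArg (fun r : ↥(Z 1) × ↥(Z 2) => (r.1 : T)) hpq
    have e2 : ⁅p.out, b⁆ = ⁅q.out, b⁆ := congrArg (fun r : ↥(Z 1) × ↥(Z 2) => (r.2 : T)) hpq
    rw [← QuotientGroup.out_eq' p, ← QuotientGroup.out_eq' q, QuotientGroup.eq]
    have key : ∀ z, ⁅p.out, z⁆ = ⁅q.out, z⁆ →
        z ∈ Subgroup.centralizer ({(p.out)⁻¹ * q.out} : Set T) := fun z hz => by
      rw [commutatorElement_def, commutatorElement_def, mul_left_inj] at hz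
      rw [Subgroup.mem_centralizer_singleton_iff]
      have hz' : p.out * z * (p.out)⁻¹ = q.out * z * (q.out)⁻¹ := hz
      calc z * ((p.out)⁻¹ * q.out) = (p.out)⁻¹ * (p.out * z * (p.out)⁻¹) * q.out := by simp [mul_assoc]
        _ = (p.out)⁻¹ * (q.out * z * (q.out)⁻¹) * q.out := by rw [hz']
        _ = (p.out)⁻¹ * q.out * z := by simp [mul_assoc]
    have h1 : Z 1 ≤ Subgroup.centralizer ({(p.out)⁻¹ * q.out} : Set T) := by
      rw [Subgroup.upperCentralSeries_one]; exact Subgroup.center_le_centralizer _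
    set C := Subgroup.centralizer ({(p.out)⁻¹ * q.out} : Set T)
    have h2 : Z 2 ≤ C := fun z hz => by
      by_cases hz1 : z ∈ Z 1
      · exact h1 hz1
      · have := C.mul_mem (key a e1) (h1 (h.Z_step (by omega) ha hz ha' hz1))
        simpa using this
    have h3 : Z 3 ≤ C := fun z hz => by
      by_cases hz2 : z ∈ Z 2
      · exact h2 hz2
      · have := C.mul_mem (key b e2) (h2 (h.Z_step (by omega) hb hz hb' hz2))
        simpa using this
    refine (SetLike.ext_iff.mp h.eq _).mpr fun z hz => ?_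
    exact Subgroup.mem_centralizer_singleton_iff.mp (h3 hz)
  have := Nat.card_le_card_of_injective f hf
  rwa [← Subgroup.index_eq_card, Nat.card_prod, h.card_Z (by omega), h.card_Z (by omega)] at this

/-- `Φ(W)` as a subgroup of `T`. -/
def Phi (W : Subgroup T) : Subgroup T := (frattini ↥W).map W.subtype

theorem Hyp.phi_normal (h : Hyp T W) : (Phi W).Normal := by
  haveI := h.normal
  exact CfsgLib.Solvable.normal_map_subtype_of_characteristic W _

theorem card_phi : Nat.card ↥(Phi W) = Nat.card ↥(frattini ↥W) :=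
  Subgroup.card_map_of_injective W.subtype_injective

theorem Hyp.phi_le_Z3 (h : Hyp T W) : Phi W ≤ Z 3 := by
  haveI := Fact.mk Nat.prime_two
  haveI := h.phi_normal
  exact le_upper_of_card_le h.isP _ (by rw [card_phi]; exact h.small)

theorem Hyp.sq_mem_phi (h : Hyp T W) {x : T} (hx : x ∈ W) : x * x ∈ Phi W := by
  haveI := Fact.mk Nat.prime_two
  refine ⟨⟨x, hx⟩ ^ 2, CfsgLib.PGroup.pow_mem_frattini (h.isP.to_subgroup W) _, ?_⟩
  simp [pow_two]

theorem Hyp.comm_mem_phi (h : Hyp T W) {x y : T} (hx : x ∈ W) (hy : y ∈ W) : ⁅x, y⁆ ∈ Phi W := by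
  haveI := Fact.mk Nat.prime_two
  refine ⟨⁅(⟨x, hx⟩ : ↥W), ⟨y, hy⟩⁆, CfsgLib.PGroup.commutator_le_frattini (h.isP.to_subgroup W) ?_, ?_⟩
  · rw [commutator_def]
    exact Subgroup.commutator_mem_commutator (Subgroup.mem_top _) (Subgroup.mem_top _)
  · simp [commutatorElement_def]

theorem Hyp.bound (h : Hyp T W) {i : ℕ} (hi : i ≤ 3) (hΦ : Phi W ≤ Z i) :
    Nat.card ↥W ≤ Nat.card ↥(Z i ⊓ W) * 2 ^ W.index := by
  haveI := h.normal
  refine card_le_of_fixed h.isP inf_le_right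
    (fun x hx => ⟨hΦ (h.sq_mem_phi hx), W.mul_mem hx hx⟩) ?_
  intro x hx y hy hxf hyf hxM hyM
  refine ⟨h.Z_step hi ?_ ?_ (fun h0 => hxM ⟨h0, hx⟩) (fun h0 => hyM ⟨h0, hy⟩), W.mul_mem (W.inv_mem hx) hy⟩
  · exact Subgroup.mem_upperCentralSeries_succ_iff.mpr fun t => (hxf t).1
  · exact Subgroup.mem_upperCentralSeries_succ_iff.mpr fun t => (hyf t).1

theorem Hyp.main (h : Hyp T W) : W.index = 8 ∧ Z 3 ≤ W ∧ Nat.card ↥W = 2 ^ 11 ∧ Nat.card T = 2 ^ 14 := by
  haveI := Fact.mk Nat.prime_two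
  have hb := h.bound le_rfl h.phi_le_Z3
  have hi := h.index_le
  have hcard : Nat.card ↥(Z 3 ⊓ W) ≤ 8 := by
    have := Nat.le_of_dvd Nat.card_pos (Subgroup.card_dvd_of_le (inf_le_left : Z 3 ⊓ W ≤ Z 3))
    rwa [h.card_Z (by omega)] at this
  have hTW := Subgroup.card_mul_index W
  have hbig := h.big
  have hpow : 2 ^ W.index ≤ 2 ^ 8 := Nat.pow_le_pow_right two_pos hi
  have hup : Nat.card ↥W ≤ Nat.card ↥(Z 3 ⊓ W) * 2 ^ 8 := le_trans hb (Nat.mul_le_mul_left _ hpow)
  have e8 : W.index = 8 := by nlinarith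
  have eM : Nat.card ↥(Z 3 ⊓ W) = 8 := by nlinarith
  refine ⟨e8, ?_, by nlinarith, by nlinarith⟩
  exact inf_eq_left.mp (Subgroup.eq_of_le_of_card_ge inf_le_left (by rw [eM, h.card_Z (by omega)]; norm_num))

theorem Hyp.Z3_le (h : Hyp T W) : Z 3 ≤ W := h.main.2.1

/-- A normal subgroup of `T` inside `Z₃` is `Z₃` or lies in `Z₂`. -/
theorem Hyp.normal_le_Z (h : Hyp T W) (N : Subgroup T) [N.Normal] (hN : N ≤ Z 3) : N = Z 3 ∨ N ≤ Z 2 := by
  haveI := Fact.mk Nat.prime_two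
  by_cases h8 : Nat.card ↥N ≤ 2 ^ 2
  · exact Or.inr (le_upper_of_card_le h.isP N h8)
  · left
    refine Subgroup.eq_of_le_of_card_ge hN ?_
    obtain ⟨k, hk⟩ := (h.isP.to_subgroup N).exists_card_eq
    rw [hk] at h8 ⊢
    rw [h.card_Z (by omega)]
    exact Nat.pow_le_pow_right two_pos
      (Nat.succ_le_of_lt (not_le.mp fun hk2 => h8 (Nat.pow_le_pow_right two_pos hk2)))

theorem Hyp.phi_eq (h : Hyp T W) : Phi W = Z 3 := by
  haveI := Fact.mk Nat.prime_two
  haveI := h.phi_normal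
  refine (h.normal_le_Z _ h.phi_le_Z3).resolve_right fun hle => ?_
  have hb := h.bound (i := 2) (by omega) hle
  have h2 : Nat.card ↥(Z 2 ⊓ W) ≤ 4 := by
    have := Nat.le_of_dvd Nat.card_pos (Subgroup.card_dvd_of_le (inf_le_left : Z 2 ⊓ W ≤ Z 2))
    rwa [h.card_Z (by omega)] at this
  obtain ⟨h8, -, h11, -⟩ := h.main
  rw [h8, h11] at hb
  nlinarith

theorem Hyp.card_phi_eq (h : Hyp T W) : Nat.card ↥(frattini ↥W) = 8 := by
  rw [← card_phi, h.phi_eq, h.card_Z (by omega)]; norm_num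

/-- No subgroup of `W` of index at most 8 has its squares in a subgroup of `Z₃` missing part of `Z₃`. -/
theorem Hyp.no_small (h : Hyp T W) (D M : Subgroup T) (hDW : D ≤ W) (hZD : Z 3 ≤ D) (hMZ : M ≤ Z 3)
    (hne : ¬ Z 3 ≤ M) (hsq : ∀ x ∈ D, x * x ∈ M) (hcard : Nat.card ↥W ≤ 8 * Nat.card ↥D) : False := by
  haveI : (M.subgroupOf D).Normal := ⟨fun n hn g => by
    have e : (g : T) * n * (g : T)⁻¹ = (n : T) := by
      have hn' : (n : T) ∈ M := hn
      rw [← h.comm_Z3 (hDW g.2) (hMZ hn'), mul_inv_cancel_right]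
    show (g : T) * n * (g : T)⁻¹ ∈ M
    rw [e]; exact hn⟩
  obtain ⟨z, hz, hzM⟩ := SetLike.not_le_iff_exists.mp hne
  have hexp : ∀ v : ↥D ⧸ M.subgroupOf D, v * v = 1 := fun v => by
    induction v using QuotientGroup.induction_on with
    | _ x => exact (QuotientGroup.eq_one_iff (x * x)).mpr (Subgroup.mem_subgroupOf.mpr (hsq x x.2))
  obtain ⟨L, hzL, hL⟩ := exists_avoiding hexp (z := ((⟨z, hZD hz⟩ : ↥D) : ↥D ⧸ M.subgroupOf D))
    (fun h0 => hzM (Subgroup.mem_subgroupOf.mp ((QuotientGroup.eq_one_iff _).mp h0)))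
  set U := (L.comap (QuotientGroup.mk' (M.subgroupOf D))).map D.subtype with hU
  have hUD : U ≤ D := Subgroup.map_subtype_le _
  have hLi : L.index ≤ 2 := by
    refine le_trans (Nat.card_le_card_of_surjective
      (fun b : Bool => if b then ((1 : ↥D ⧸ M.subgroupOf D) : (↥D ⧸ M.subgroupOf D) ⧸ L)
        else (((⟨z, hZD hz⟩ : ↥D) : ↥D ⧸ M.subgroupOf D) : (↥D ⧸ M.subgroupOf D) ⧸ L)) ?_) (by simp)
    intro v
    induction v using QuotientGroup.induction_on with
    | _ v =>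
      rcases hL v with hv | hv
      · exact ⟨true, QuotientGroup.eq.mpr (by simpa using hv)⟩
      · refine ⟨false, QuotientGroup.eq.mpr ?_⟩
        rw [inv_eq_of_mul_eq_one_right (hexp _)]
        exact hv
  have hUcard : Nat.card ↥D ≤ Nat.card ↥U * 2 := by
    have h1 := Subgroup.card_mul_index (L.comap (QuotientGroup.mk' (M.subgroupOf D)))
    rw [Subgroup.index_comap_of_surjective _ (QuotientGroup.mk'_surjective _)] at h1
    rw [hU, Subgroup.card_map_of_injective D.subtype_injective, ← h1]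
    exact Nat.mul_le_mul_left _ hLi
  have hidx : (U.subgroupOf W).index ≤ 16 := by
    have h1 := Subgroup.card_mul_index (U.subgroupOf W)
    rw [Nat.card_congr (Subgroup.subgroupOfEquivOfLe (hUD.trans hDW)).toEquiv] at h1
    have hpos : 0 < Nat.card ↥U := Nat.card_pos
    nlinarith
  have hzΦ : z ∈ Phi W := h.phi_eq ▸ hz
  obtain ⟨z', hz', hzz⟩ := hzΦ
  have hzU : z ∈ U := hzz ▸ Subgroup.mem_subgroupOf.mp (h.every _ hidx hz')
  obtain ⟨w, hw, hwz⟩ := hzU
  have : w = ⟨z, hZD hz⟩ := Subtype.ext hwz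
  rw [this] at hw
  exact hzL hw

/-- The derived subgroup of `W` as a subgroup of `T`. -/
theorem Hyp.commutator_eq (h : Hyp T W) : (commutator ↥W).map W.subtype = Z 3 := by
  haveI := h.normal
  haveI := Fact.mk Nat.prime_two
  haveI : ((commutator ↥W).map W.subtype).Normal :=
    CfsgLib.Solvable.normal_map_subtype_of_characteristic W _
  have hle : (commutator ↥W).map W.subtype ≤ Z 3 := by
    rw [← h.phi_eq]
    exact Subgroup.map_mono (CfsgLib.PGroup.commutator_le_frattini (h.isP.to_subgroup W))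
  refine (h.normal_le_Z _ hle).resolve_right fun h2 => ?_
  have hcomm : ∀ x y : ↥W, ⁅(x : T), (y : T)⁆ ∈ Z 2 := fun x y => by
    refine h2 ⟨⁅x, y⁆, ?_, ?_⟩
    · rw [SetLike.mem_coe, commutator_def]
      exact Subgroup.commutator_mem_commutator (Subgroup.mem_top _) (Subgroup.mem_top _)
    · simp [commutatorElement_def]
  let σ : ↥W →* T ⧸ Z 2 :=
    { toFun := fun x => QuotientGroup.mk' (Z 2) ((x : T) * x)
      map_one' := by simp
      map_mul' := fun x y => by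
        have hc : QuotientGroup.mk' (Z 2) (x : T) * QuotientGroup.mk' (Z 2) (y : T) =
            QuotientGroup.mk' (Z 2) (y : T) * QuotientGroup.mk' (Z 2) (x : T) := by
          rw [← commutatorElement_eq_one_iff_mul_comm, ← map_commutatorElement]
          exact (QuotientGroup.eq_one_iff _).mpr (hcomm x y)
        simp only [Subgroup.coe_mul, map_mul]
        exact (Commute.mul_mul_mul_comm hc.symm _ _) }
  set K := σ.ker.map W.subtype with hK
  have hKW : K ≤ W := Subgroup.map_subtype_le _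
  have hrange : σ.range ≤ (Z 3).map (QuotientGroup.mk' (Z 2)) := by
    rintro _ ⟨x, rfl⟩
    exact ⟨_, h.phi_le_Z3 (h.sq_mem_phi x.2), rfl⟩
  have h3 : Nat.card ↥((Z 3).map (QuotientGroup.mk' (Z 2))) ≤ 2 := by
    have h1 : (Z 2).relIndex (Z 3) = 2 := h.relIndex_Z (i := 2) (by omega)
    refine le_of_le_of_eq ?_ h1
    have h4 := Subgroup.relIndex_ker (f := QuotientGroup.mk' (Z 2)) (Z 3)
    rw [QuotientGroup.ker_mk'] at h4
    exact h4.ge
  refine h.no_small K (Z 2) hKW ?_ (Subgroup.upperCentralSeries_mono T (by omega)) ?_ ?_ ?_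
  · intro z hz
    exact ⟨⟨z, h.Z3_le hz⟩, (QuotientGroup.eq_one_iff _).mpr (h.Z_step_sq (i := 2) (by omega) hz), rfl⟩
  · intro hle'
    have := Nat.le_of_dvd Nat.card_pos (Subgroup.card_dvd_of_le hle')
    rw [h.card_Z (by omega), h.card_Z (by omega)] at this
    omega
  · rintro _ ⟨x, hx, rfl⟩
    exact (QuotientGroup.eq_one_iff ((x : T) * x)).mp hx
  · rw [hK, Subgroup.card_map_of_injective W.subtype_injective]
    have h4 := Subgroup.card_mul_index σ.ker
    rw [Subgroup.index_ker] at h4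
    have h5 : Nat.card ↥σ.range ≤ 2 :=
      (Nat.le_of_dvd Nat.card_pos (Subgroup.card_dvd_of_le hrange)).trans h3
    rw [← h4]
    nlinarith

theorem Hyp.Z3_sq (h : Hyp T W) {z : T} (hz : z ∈ Z 3) : z * z = 1 := by
  rw [← h.commutator_eq] at hz
  obtain ⟨w, hw, rfl⟩ := hz
  let S : Subgroup ↥W :=
    { carrier := {w | (w : T) ∈ Z 3 ∧ (w : T) * w = 1}
      one_mem' := ⟨(Z 3).one_mem, mul_one _⟩
      mul_mem' := fun {a b} ha hb => ⟨(Z 3).mul_mem ha.1 hb.1, by
        rw [Subgroup.coe_mul, (show Commute (b : T) a from h.comm_Z3 a.2 hb.1).mul_mul_mul_comm,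
          ha.2, hb.2, mul_one]⟩
      inv_mem' := fun {a} ha => ⟨(Z 3).inv_mem ha.1, by
        rw [Subgroup.coe_inv, ← mul_inv_rev, ha.2, inv_one]⟩ }
  suffices hle : commutator ↥W ≤ S from (hle hw).2
  rw [commutator_def, Subgroup.commutator_le]
  intro x _ y _
  have hc : ∀ a b : ↥W, ((⁅a, b⁆ : ↥W) : T) ∈ Z 3 := fun a b => by
    have := h.comm_mem_phi a.2 b.2
    rw [h.phi_eq] at this
    simpa [commutatorElement_def] using this
  refine ⟨hc x y, ?_⟩
  have h2 : (x : T) * x ∈ Z 3 := h.phi_eq ▸ h.sq_mem_phi x.2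
  have e1 : ((⁅x, y⁆ : ↥W) : T) = (x : T) * y * (x : T)⁻¹ * (y : T)⁻¹ := by simp [commutatorElement_def]
  have hcen := h.comm_Z3 (W.inv_mem x.2) (hc x y)
  calc ((⁅x, y⁆ : ↥W) : T) * ((⁅x, y⁆ : ↥W) : T)
      = (x : T) * ((x : T)⁻¹ * ((⁅x, y⁆ : ↥W) : T)) * ((⁅x, y⁆ : ↥W) : T) := by simp
    _ = (x : T) * (((⁅x, y⁆ : ↥W) : T) * (x : T)⁻¹) * ((⁅x, y⁆ : ↥W) : T) := by rw [hcen]
    _ = ((x : T) * x) * y * ((x : T) * x)⁻¹ * (y : T)⁻¹ := by
        rw [e1]; simp [mul_assoc]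
    _ = 1 := by
        rw [h.comm_Z3 y.2 h2, mul_inv_cancel_right, mul_inv_cancel]

end CfsgLib.InvChar.UpperFour
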